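import Cfsg.Agent.Lib.NineRecog.KeyTables

/-!
# Tables for the alternating group of degree nine
-/

set_option autoImplicit false
set_option synthInstance.maxHeartbeats 200000
set_option synthInstance.maxSize 1024

namespace Cfsg.Agent.NineRecog

open Equiv
open Cfsg Cfsg.Agent.Exceptional.Nine
open A6Data

/-- The generators of the presentation, as permutations. -/
def x9 : Fin 7 → P9 :=
  ![c[3, 4, 6], c[3, 4] * c[6, 7], c[3, 4] * c[5, 7], c[3, 4] * c[5, 8], c[3, 4] * c[2, 8],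
    c[0, 2] * c[3, 4], c[0, 1] * c[3, 4]]

theorem x9_sign : ∀ i, Perm.sign (x9 i) = 1 := by decide +kernel

theorem x9_rels : (∀ i : Fin 7, i.val = 0 → x9 i ^ 3 = 1) ∧
    (∀ i : Fin 7, 1 ≤ i.val → x9 i ^ 2 = 1) ∧
    (∀ i j : Fin 7, j.val = i.val + 1 → (x9 i * x9 j) ^ 3 = 1) ∧
    (∀ i j : Fin 7, i.val + 1 < j.val → (x9 i * x9 j) ^ 2 = 1) := by
  refine ⟨?_, ?_, ?_, ?_⟩ <;> decide +kernel

theorem x9_mem : (∀ i : Fin 7, i ≠ 4 → InKa (x9 i)) ∧ (∀ i : Fin 7, i ≠ 1 → InKy (x9 i)) := by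
  constructor <;> decide +kernel

theorem x9_key : x9 1 = p6 si ∧ x9 4 = x9 3 * (hP * p6 good6 * hP⁻¹) ∧
    x9 3 * p6 si = p6 si * x9 3 ∧ x9 1 * x9 4 = x9 4 * x9 1 := by
  decide +kernel

/-- Words in the stabiliser of the first block. -/
def wordsA : Fin 6 → List (Fin 7) :=
  ![[5, 6], [6], [0, 1, 2, 1, 0], [0], [0, 1, 0], [0, 1, 2, 3, 2, 1, 0]]

/-- Words in the stabiliser of `{3, 4, 6}`. -/
def wordsY : Fin 6 → List (Fin 7) :=
  ![[0], [3], [2, 3], [3, 4, 5, 4], [3, 4, 5, 6, 5, 4], [3, 4]]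

/-- Generators of the pairs. -/
def genK : Fin 6 → K36 :=
  ![kA, kS, k6 (Exceptional.SelfNine.gen 0), k6 (Exceptional.SelfNine.gen 1),
    k6 (Exceptional.SelfNine.gen 2), k6 (Exceptional.SelfNine.gen 3)]

theorem words_spec : (∀ i, jK (genK i) = ((wordsA i).map x9).prod) ∧
    (∀ i, hP * jK (genK i) * hP⁻¹ = ((wordsY i).map x9).prod) ∧
    (∀ i, (4 : Fin 7) ∉ wordsA i) ∧ (∀ i, (1 : Fin 7) ∉ wordsY i) := by
  refine ⟨?_, ?_, ?_, ?_⟩ <;> decide +kernel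

theorem K36_form : ∀ k : K36, k = kA ^ expK k * k6 (partK k) * kS ^ oddK k := by decide +kernel

theorem W_form : ∀ w : W, ∃ i : Fin 3, InKa (φW (wR ^ (i : ℕ) * w)) := by decide +kernel

theorem W_facts : InKa (φW wF) ∧ InKa (φW wS) ∧ InKb (φW wY) ∧ InKy (gP * φW wY * gP⁻¹) ∧
    Perm.sign gP = 1 := by
  decide +kernel

theorem class_reps : φW u1 = c[0, 1, 2] ∧ φW u2 = c[3, 4, 5] * c[6, 7, 8] ∧
    (φW u1).cycleType = {3} ∧ (φW u2).cycleType = {3, 3} ∧ (φW u3).cycleType = {3, 3, 3} ∧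
    u1 ^ 3 = 1 ∧
    ((c[3, 4] : P9) * φW u1 * c[3, 4]⁻¹ = φW u1 ∧ Perm.sign (c[3, 4] : P9) = -1) ∧
    ((c[0, 1] : P9) * φW u2 * c[0, 1]⁻¹ = φW u2 ∧ Perm.sign (c[0, 1] : P9) = -1) ∧
    ((c[0, 3] * c[1, 4] * c[2, 5] : P9) * φW u3 * (c[0, 3] * c[1, 4] * c[2, 5])⁻¹ = φW u3 ∧
      Perm.sign (c[0, 3] * c[1, 4] * c[2, 5] : P9) = -1) := by
  decide +kernel

end Cfsg.Agent.NineRecog
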