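import Cfsg.Agent.Lib.NineRecog.Key
import Cfsg.Agent.Lib.NineRecog.BuildTables

/-!
# The alternating group of degree nine inside the group
-/

set_option autoImplicit false
set_option synthInstance.maxHeartbeats 200000
set_option synthInstance.maxSize 1024

namespace Cfsg.Agent.NineRecog

open Equiv
open Cfsg Cfsg.Agent.Exceptional.Nine

universe u

theorem PHom.map_pow {S : P9 → Prop} {G : Type u} [Group G] (F : PHom S G) {p : P9} (hp : S p) :
    ∀ n : ℕ, S (p ^ n) ∧ F.f (p ^ n) = F.f p ^ n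
  | 0 => by simp [F.one, F.map_one]
  | n + 1 => by
    obtain ⟨h1, h2⟩ := PHom.map_pow F hp n
    rw [pow_succ, pow_succ, F.map_mul h1 hp, h2]
    exact ⟨F.mul h1 hp, rfl⟩

theorem PHom.map_list_prod {S : P9 → Prop} {G : Type u} [Group G] (F : PHom S G) :
    ∀ l : List P9, (∀ p ∈ l, S p) → S l.prod ∧ F.f l.prod = (l.map F.f).prod
  | [], _ => by simp [F.one, F.map_one]
  | p :: l, h => by
    obtain ⟨h1, h2⟩ := PHom.map_list_prod F l fun q hq => h q (List.mem_cons_of_mem _ hq)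
    have hp := h p List.mem_cons_self
    simp only [List.prod_cons, List.map_cons]
    rw [F.map_mul hp h1, h2]
    exact ⟨F.mul hp h1, rfl⟩

theorem conj_jK_mul (h : P9) (k l : K36) :
    h * jK (k * l) * h⁻¹ = h * jK k * h⁻¹ * (h * jK l * h⁻¹) := by
  rw [map_mul]
  exact conj_mul.symm

/-- The even permutations. -/
def Even9 (p : P9) : Prop := Perm.sign p = 1

/-- The alternating group of degree nine inside the group, containing the three-local structure. -/
structure Emb {G : Type u} [Group G] [Finite G] {c : Cfg G} (d : A6Data c) where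
  /-- The embedding. -/
  φ : A9 →* G
  /-- The embedding as a map on permutations. -/
  Φ : PHom Even9 G
  inj : Function.Injective φ
  Φ_apply : ∀ g : A9, Φ.f g.1 = φ g
  agree_a : ∀ {p : P9}, InKa p → Φ.f p = d.Fa.f p
  agree_W : ∀ w : W, Φ.f (φW w) = c.ι w
  agree_y : ∀ k : K36, Φ.f (hP * jK k * hP⁻¹) = d.hy * d.FK k * d.hy⁻¹
  cent_three : ∀ p : A9, p ^ 3 = 1 → p ≠ 1 →
    Subgroup.centralizer ({φ p} : Set G) ≤ φ.range

namespace A6Data

variable {G : Type u} [Group G] [Finite G] {c : Cfg G} (d : A6Data c)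

theorem x_commute : d.Fa.f (x9 1) * d.Fy.f (x9 4) = d.Fy.f (x9 4) * d.Fa.f (x9 1) := by
  obtain ⟨h1, h4, h3, -⟩ := x9_key
  have hKy3 : InKy (x9 3) := x9_mem.2 3 (by decide)
  rw [h1, h4, d.Fy.map_mul hKy3 (show InKy (hP * p6 good6 * hP⁻¹) from inKy_hP (k6 good6)), d.Fy_eq_Fa (x9_mem.1 3 (by decide)) hKy3,
    show hP * p6 good6 * hP⁻¹ = hP * jK (k6 good6) * hP⁻¹ from rfl, Fy_hP, FK_k6, Fa_six']
  have ha : Commute (d.ψ si) (d.Fa.f (x9 3)) := by
    rw [← Fa_six']
    exact (d.Fa.commute_iff (inKa_p6 si) (x9_mem.1 3 (by decide))).2 h3.symm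
  exact (ha.mul_right (d.mem_X6.1 d.good_mem).symm).eq

theorem exists_emb : Nonempty (Emb d) := by
  classical
  let X : Fin 7 → G := fun i => if i = 4 then d.Fy.f (x9 i) else d.Fa.f (x9 i)
  have hXa : ∀ i, i ≠ 4 → X i = d.Fa.f (x9 i) := fun i h => if_neg h
  have hXy : ∀ i, i ≠ 1 → X i = d.Fy.f (x9 i) := fun i h => by
    by_cases h4 : i = 4
    · exact if_pos h4
    · rw [hXa i h4, d.Fy_eq_Fa (x9_mem.1 i h4) (x9_mem.2 i h)]
  -- a relation on two generators
  have hpair : ∀ i j : Fin 7, ∀ n : ℕ, (x9 i * x9 j) ^ n = 1 → ¬ (i = 1 ∧ j = 4) → ¬ (i = 4 ∧ j = 1) →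
      (X i * X j) ^ n = 1 := by
    intro i j n h h1 h2
    by_cases hy : i ≠ 1 ∧ j ≠ 1
    · have hi := x9_mem.2 i hy.1
      have hj := x9_mem.2 j hy.2
      rw [hXy i hy.1, hXy j hy.2, ← d.Fy.map_mul hi hj, ← (d.Fy.map_pow (d.Fy.mul hi hj) n).2, h,
        d.Fy.map_one]
    · have ha : i ≠ 4 ∧ j ≠ 4 := by
        constructor <;> rintro rfl
        · by_cases e : j = 1
          · exact h2 ⟨rfl, e⟩
          · exact hy ⟨by decide, e⟩
        · by_cases e : i = 1
          · exact h1 ⟨e, rfl⟩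
          · exact hy ⟨e, by decide⟩
      have hi := x9_mem.1 i ha.1
      have hj := x9_mem.1 j ha.2
      rw [hXa i ha.1, hXa j ha.2, ← d.Fa.map_mul hi hj, ← (d.Fa.map_pow (d.Fa.mul hi hj) n).2, h,
        d.Fa.map_one]
  have hsingle : ∀ i : Fin 7, ∀ n : ℕ, x9 i ^ n = 1 → X i ^ n = 1 := by
    intro i n h
    by_cases h4 : i = 4
    · subst h4
      rw [hXy 4 (by decide), ← (d.Fy.map_pow (x9_mem.2 4 (by decide)) n).2, h, d.Fy.map_one]
    · rw [hXa i h4, ← (d.Fa.map_pow (x9_mem.1 i h4) n).2, h, d.Fa.map_one]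
  obtain ⟨r0, r1, r2, r3⟩ := x9_rels
  have hX : AltRels X := by
    refine ⟨fun i hi => hsingle i 3 (r0 i hi), fun i hi => hsingle i 2 (r1 i hi), ?_, ?_⟩
    · intro i j hij
      refine hpair i j 3 (r2 i j hij) ?_ ?_ <;> rintro ⟨rfl, rfl⟩ <;> revert hij <;> decide
    · intro i j hij
      by_cases h14 : i = 1 ∧ j = 4
      · obtain ⟨rfl, rfl⟩ := h14
        rw [(show Commute (X 1) (X 4) by
          rw [hXa 1 (by decide), hXy 4 (by decide)]; exact d.x_commute).mul_pow,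
          hsingle 1 2 (r1 1 (by decide)), hsingle 4 2 (r1 4 (by decide)), one_mul]
      · exact hpair i j 2 (r3 i j hij) h14 (by rintro ⟨rfl, rfl⟩; revert hij; decide)
  let gens : Fin 7 → A9 := fun i => ⟨x9 i, Equiv.Perm.mem_alternatingGroup.2 (x9_sign i)⟩
  have hg : AltRels gens := ⟨fun i hi => Subtype.ext (r0 i hi), fun i hi => Subtype.ext (r1 i hi),
    fun i j h => Subtype.ext (r2 i j h), fun i j h => Subtype.ext (r3 i j h)⟩
  obtain ⟨φ, hφ⟩ := exists_hom_alt (n := 9) (by norm_num) gens hg (0 : Fin 7)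
    (fun h => by have := congrArg Subtype.val h; revert this; decide +kernel) X hX
  have hinj : Function.Injective φ := injective_alt (by norm_num) φ (p := gens 0) (by
    rw [hφ, hXa 0 (by decide)]
    intro h
    have := d.Fa.faithful (x9_mem.1 0 (by decide)) h
    revert this; decide +kernel)
  let Φ : PHom Even9 G :=
    { f := fun p => if h : Even9 p then φ ⟨p, Equiv.Perm.mem_alternatingGroup.2 h⟩ else 1
      one := map_one Perm.sign
      mul := fun {p q} hp hq => by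
        show Perm.sign _ = 1
        rw [map_mul, hp, hq, one_mul]
      inv := fun {p} hp => by
        show Perm.sign _ = 1
        rw [Perm.sign_inv, hp]
      map_mul := fun {p q} hp hq => by
        have hpq : Even9 (p * q) := by
          show Perm.sign _ = 1
          rw [map_mul, hp, hq, one_mul]
        rw [dif_pos hp, dif_pos hq, dif_pos hpq, ← map_mul]
        rfl
      faithful := fun {p} hp h => by
        rw [dif_pos hp] at h
        exact congrArg Subtype.val (hinj (h.trans (map_one φ).symm)) }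
  have hΦ : ∀ g : A9, Φ.f g.1 = φ g := fun g => dif_pos g.2
  have hΦx : ∀ i, Φ.f (x9 i) = X i := fun i => (hΦ (gens i)).trans (hφ i)
  have heven : ∀ i, Even9 (x9 i) := x9_sign
  have hsK : ∀ k : K36, Even9 (jK k) := fun k => ((inKa_iff _).2 ⟨k, rfl⟩).2
  have hhP : ∀ k : K36, Even9 (hP * jK k * hP⁻¹) := fun k => by
    show Perm.sign _ = 1
    rw [map_mul, map_mul, hsK k, mul_one, ← map_mul, mul_inv_cancel, map_one]
  let F1 : K36 →* G := MonoidHom.mk' (fun k => Φ.f (jK k)) fun k l => by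
    rw [map_mul, Φ.map_mul (hsK k) (hsK l)]
  let F2 : K36 →* G := MonoidHom.mk' (fun k => Φ.f (hP * jK k * hP⁻¹)) fun k l =>
    (congrArg Φ.f (conj_jK_mul hP k l)).trans (Φ.map_mul (hhP k) (hhP l))
  let H2 : K36 →* G := (MulAut.conj d.hy).toMonoidHom.comp d.FK
  -- two homomorphisms agreeing on the generators are equal
  have hext : ∀ A B : K36 →* G, (∀ i, A (genK i) = B (genK i)) → ∀ k, A k = B k := by
    intro A B h k
    have hsix : A.comp (MonoidHom.mk' k6 fun g h => Subtype.ext (Prod.ext (one_mul _).symm rfl)) =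
        B.comp (MonoidHom.mk' k6 fun g h => Subtype.ext (Prod.ext (one_mul _).symm rfl)) := by
      refine MonoidHom.eq_of_eqOn_dense Exceptional.SelfNine.closure_gen ?_
      rintro - ⟨i, rfl⟩
      fin_cases i
      · exact h 2
      · exact h 3
      · exact h 4
      · exact h 5
    rw [K36_form k]
    simp only [map_mul, map_pow]
    rw [show A kA = B kA from h 0, show A kS = B kS from h 1,
      show A (k6 (partK k)) = B (k6 (partK k)) from DFunLike.congr_fun hsix (partK k)]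
  obtain ⟨wA1, wY1, wA4, wY1'⟩ := words_spec
  have hA : ∀ k : K36, Φ.f (jK k) = d.Fa.f (jK k) := by
    intro k
    rw [Fa_jK]
    refine hext F1 d.FK (fun i => ?_) k
    show Φ.f (jK (genK i)) = d.FK (genK i)
    rw [← Fa_jK, wA1,
      (Φ.map_list_prod _ fun p hp => by
        obtain ⟨j, -, rfl⟩ := List.mem_map.1 hp; exact heven j).2,
      (d.Fa.map_list_prod _ fun p hp => by
        obtain ⟨j, hj, rfl⟩ := List.mem_map.1 hp
        exact x9_mem.1 j fun e => wA4 i (e ▸ hj)).2]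
    refine congrArg List.prod (List.map_congr_left fun p hp => ?_)
    obtain ⟨j, hj, rfl⟩ := List.mem_map.1 hp
    rw [hΦx, hXa j fun e => wA4 i (e ▸ hj)]
  have hY : ∀ k : K36, Φ.f (hP * jK k * hP⁻¹) = d.hy * d.FK k * d.hy⁻¹ := by
    intro k
    refine hext F2 H2 (fun i => ?_) k
    show Φ.f (hP * jK (genK i) * hP⁻¹) = d.hy * d.FK (genK i) * d.hy⁻¹
    rw [← Fy_hP, wY1,
      (Φ.map_list_prod _ fun p hp => by
        obtain ⟨j, -, rfl⟩ := List.mem_map.1 hp; exact heven j).2,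
      (d.Fy.map_list_prod _ fun p hp => by
        obtain ⟨j, hj, rfl⟩ := List.mem_map.1 hp
        exact x9_mem.2 j fun e => wY1' i (e ▸ hj)).2]
    refine congrArg List.prod (List.map_congr_left fun p hp => ?_)
    obtain ⟨j, hj, rfl⟩ := List.mem_map.1 hp
    rw [hΦx, hXy j fun e => wY1' i (e ▸ hj)]
  have hAgreeA : ∀ {p : P9}, InKa p → Φ.f p = d.Fa.f p := fun {p} hp => by
    obtain ⟨k, rfl⟩ := (inKa_iff p).1 hp
    exact hA k
  have hW : ∀ w : W, Φ.f (φW w) = c.ι w := by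
    obtain ⟨fF, fS, fY, fgY, fg⟩ := W_facts
    let F3 : W →* G := MonoidHom.mk' (fun w => Φ.f (φW w)) fun u v => by
      rw [map_mul, Φ.map_mul (φW_sign u) (φW_sign v)]
    have ha : ∀ w, InKa (φW w) → F3 w = c.ι w := fun w h => (hAgreeA h).trans (d.Fa_agree h)
    have hy3 : F3 wY = c.ι wY := by
      show Φ.f (φW wY) = _
      rw [← d.Fb_agree fY]
      obtain ⟨k, hk⟩ := (inKa_iff _).1 fgY
      have hk' : hP * jK k * hP⁻¹ = gP * φW wY * gP⁻¹ := by
        rw [hk, hP, gP]; group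
      have e1 : d.Fy.f (gP * φW wY * gP⁻¹) =
          d.Fa.f gP * d.Fb.f (φW wY) * (d.Fa.f gP)⁻¹ := by
        show d.Fa.f gP * d.Fb.f (gP⁻¹ * (gP * φW wY * gP⁻¹) * gP) * (d.Fa.f gP)⁻¹ = _
        rw [show gP⁻¹ * (gP * φW wY * gP⁻¹) * gP = φW wY by group]
      have e2 : Φ.f (gP * φW wY * gP⁻¹) = d.Fa.f gP * Φ.f (φW wY) * (d.Fa.f gP)⁻¹ := by
        rw [Φ.map_conj fg (φW_sign wY), hAgreeA inKa_gP]
      rw [← hk', Fy_hP] at e1
      rw [← hk', hY, e1] at e2
      exact (mul_left_cancel (mul_right_cancel e2)).symm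
    have hR : F3 wR = c.ι wR := by
      rw [wR_eq, map_mul, map_mul, ha _ fF, ha _ fS, hy3, map_mul, map_mul]
    intro w
    obtain ⟨i, hi⟩ := W_form w
    have h := ha _ hi
    rw [map_mul, map_mul, map_pow, map_pow, hR] at h
    exact mul_left_cancel h
  refine ⟨⟨φ, Φ, hinj, hΦ, hAgreeA, hW, hY, ?_⟩⟩
  -- centralisers of elements of order three
  intro p hp3 hp1
  haveI : Fact (Nat.Prime 3) := ⟨Nat.prime_three⟩
  have hrange : ∀ {q : P9}, Even9 q → Φ.f q ∈ φ.range := fun {q} hq =>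
    ⟨⟨q, Equiv.Perm.mem_alternatingGroup.2 hq⟩, (hΦ _).symm⟩
  have hιrange : c.ι.range ≤ φ.range := by
    rintro - ⟨w, rfl⟩
    rw [← hW]
    exact hrange (φW_sign w)
  obtain ⟨-, -, t1, t2, t3, -, ⟨o1, s1⟩, ⟨o2, s2⟩, ⟨o3, s3⟩⟩ := class_reps
  have hcent : ∀ u : W, (u = u1 ∨ u = u2 ∨ u = u3) →
      Subgroup.centralizer ({c.ι u} : Set G) ≤ φ.range := by
    rintro u (rfl | rfl | rfl) x hx
    · rw [Subgroup.mem_centralizer_singleton_iff] at hx
      obtain ⟨q, hq, rfl⟩ := d.exists_of_norm (x := x) (Or.inl (by rw [hx, mul_inv_cancel_right]))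
      rw [← hAgreeA hq]
      exact hrange hq.2
    · exact hιrange (c.centralizer_u2_le hx)
    · exact hιrange (c.P_le_range (c.centralizer_u3.le hx))
  have h3' : p.1 ^ 3 = 1 := congrArg Subtype.val hp3
  have ho : orderOf p.1 = 3 := orderOf_eq_prime h3' fun h => hp1 (Subtype.ext h)
  obtain ⟨n, hn⟩ := Equiv.Perm.cycleType_prime_order (σ := p.1) (by rw [ho]; exact Nat.prime_three)
  rw [ho] at hn
  have hle := p.1.sum_cycleType_le
  rw [hn, Multiset.sum_replicate, Fintype.card_fin, smul_eq_mul] at hle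
  obtain ⟨u, τ, hu, hτ, hsτ, hconj⟩ : ∃ (u : W) (τ : P9), (u = u1 ∨ u = u2 ∨ u = u3) ∧
      τ * φW u * τ⁻¹ = φW u ∧ Perm.sign τ = -1 ∧ IsConj (φW u) p.1 := by
    have hn' : n = 0 ∨ n = 1 ∨ n = 2 := by omega
    rcases hn' with rfl | rfl | rfl
    · exact ⟨u1, _, Or.inl rfl, o1, s1, Perm.isConj_iff_cycleType_eq.2 (t1.trans hn.symm)⟩
    · exact ⟨u2, _, Or.inr (Or.inl rfl), o2, s2, Perm.isConj_iff_cycleType_eq.2 (t2.trans hn.symm)⟩
    · exact ⟨u3, _, Or.inr (Or.inr rfl), o3, s3, Perm.isConj_iff_cycleType_eq.2 (t3.trans hn.symm)⟩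
  obtain ⟨g, hgs, hg⟩ : ∃ g : P9, Even9 g ∧ g * φW u * g⁻¹ = p.1 := by
    obtain ⟨σ, hσ⟩ := isConj_iff.1 hconj
    rcases Int.units_eq_one_or (Perm.sign σ) with hs | hs
    · exact ⟨σ, hs, hσ⟩
    · refine ⟨σ * τ, ?_, ?_⟩
      · show Perm.sign _ = 1
        rw [map_mul, hs, hsτ]; decide
      · rw [show σ * τ * φW u * (σ * τ)⁻¹ = σ * (τ * φW u * τ⁻¹) * σ⁻¹ by group, hτ, hσ]
  intro x hx
  rw [Subgroup.mem_centralizer_singleton_iff, ← hΦ, ← hg, Φ.map_conj hgs (φW_sign u), hW] at hx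
  have hm : (Φ.f g)⁻¹ * x * Φ.f g ∈ φ.range := by
    refine hcent u hu (Subgroup.mem_centralizer_singleton_iff.2 ?_)
    calc (Φ.f g)⁻¹ * x * Φ.f g * c.ι u = (Φ.f g)⁻¹ * (x * (Φ.f g * c.ι u * (Φ.f g)⁻¹)) * Φ.f g := by group
      _ = (Φ.f g)⁻¹ * (Φ.f g * c.ι u * (Φ.f g)⁻¹ * x) * Φ.f g := by rw [hx]
      _ = _ := by group
  have := mul_mem (mul_mem (hrange hgs) hm) (inv_mem (hrange hgs))
  rwa [show Φ.f g * ((Φ.f g)⁻¹ * x * Φ.f g) * (Φ.f g)⁻¹ = x by group] at this

end A6Data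

end Cfsg.Agent.NineRecog
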