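import Cfsg.Agent.Lib.NineRecog.CentV
import Cfsg.Agent.Lib.ZStar.Main

/-!
# The centraliser of a product of two transpositions
-/

set_option autoImplicit false
set_option synthInstance.maxHeartbeats 200000
set_option synthInstance.maxSize 1024

namespace Cfsg.Agent.NineRecog

open Equiv
open Cfsg Cfsg.Agent.Exceptional.Nine
open A6Data

universe u

theorem odd_pow_four {G : Type u} [Group G] [Finite G] {R : Subgroup G} (hR : Odd (Nat.card R))
    {r : G} (hr : r ∈ R) : ∃ l : ℕ, (r ^ 4) ^ l = r :=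
  exists_pow_eq_self_of_coprime (by
    have h := (Nat.coprime_two_left.2 (hR.of_dvd_nat (R.orderOf_dvd_natCard hr))).pow_left 2
    exact h)

theorem klein_facts :
    let k : A5 := ⟨c[0, 1] * c[2, 3], Equiv.Perm.mem_alternatingGroup.2 (by decide +kernel)⟩
    let z : A5 := ⟨c[0, 1, 2], Equiv.Perm.mem_alternatingGroup.2 (by decide +kernel)⟩
    k * k = 1 ∧ z * (z * z) = 1 ∧ z ≠ 1 ∧ k ≠ 1 ∧ k * (z * k * z⁻¹) = z * k * z⁻¹ * k ∧
      k * (z * k * z⁻¹) * (z * (z * k * z⁻¹) * z⁻¹) = 1 := by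
  decide +kernel

/-- In an abelian group of odd order an element acting without fixed points on a four group of
automorphisms makes it act trivially. -/
theorem klein_trivial {G : Type u} [Group G] [Finite G] {R : Subgroup G} (hodd : Odd (Nat.card R))
    (hab : ∀ x ∈ R, ∀ y ∈ R, x * y = y * x) {k z : G} (hk : k * k = 1) (hz : z * (z * z) = 1)
    (hk1 : k * (z * k * z⁻¹) = z * k * z⁻¹ * k)
    (hk2 : k * (z * k * z⁻¹) * (z * (z * k * z⁻¹) * z⁻¹) = 1)
    (hkR : ∀ x ∈ R, k * x * k⁻¹ ∈ R) (hzR : ∀ x ∈ R, z * x * z⁻¹ ∈ R)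
    (hfix : ∀ x ∈ R, z * x * z⁻¹ = x → x = 1) : ∀ x ∈ R, k * x * k⁻¹ = x := by
  set k2 := z * k * z⁻¹ with hk2d
  set k3 := z * k2 * z⁻¹ with hk3d
  have hki : k⁻¹ = k := inv_eq_of_mul_eq_one_right hk
  have h2 : k2 * k2 = 1 := by
    rw [hk2d, show z * k * z⁻¹ * (z * k * z⁻¹) = z * (k * k) * z⁻¹ by group, hk]; group
  have h3 : k3 * k3 = 1 := by
    rw [hk3d, show z * k2 * z⁻¹ * (z * k2 * z⁻¹) = z * (k2 * k2) * z⁻¹ by group, h2]; group
  have e3 : k3 = k * k2 := by
    have := inv_eq_of_mul_eq_one_right hk2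
    rw [mul_inv_rev, hki, inv_eq_of_mul_eq_one_right h2, ← hk1] at this
    exact this.symm
  have hz3 : z * k3 * z⁻¹ = k := by
    rw [hk3d, hk2d, show z * (z * (z * k * z⁻¹) * z⁻¹) * z⁻¹ = z * (z * z) * k * (z * (z * z))⁻¹ by group,
      hz]
    group
  obtain ⟨ac, acd⟩ : ∃ ac : G → G → G, ∀ g x, ac g x = g * x * g⁻¹ := ⟨_, fun _ _ => rfl⟩
  have kR : ∀ x ∈ R, ac k x ∈ R := fun x hx => (acd k x).symm ▸ hkR x hx
  have zR : ∀ x ∈ R, ac z x ∈ R := fun x hx => (acd z x).symm ▸ hzR x hx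
  have zfix : ∀ x ∈ R, ac z x = x → x = 1 := fun x hx h => hfix x hx ((acd z x).symm.trans h)
  have acm : ∀ g x y, ac g (x * y) = ac g x * ac g y := fun g x y => by simp only [acd]; group
  have aci : ∀ g x, ac g x⁻¹ = (ac g x)⁻¹ := fun g x => by simp only [acd]; group
  have acc : ∀ g h x, ac (g * h) x = ac g (ac h x) := fun g h x => by simp only [acd]; group
  have ac1 : ∀ x, ac 1 x = x := fun x => by simp only [acd]; group
  have hzc : ∀ g x, ac (z * g * z⁻¹) (ac z x) = ac z (ac g x) := fun g x => by simp only [acd]; group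
  have hself : ∀ {y : G}, y ∈ R → y = y⁻¹ → y = 1 := by
    intro y hy h
    have h2 : orderOf y ∣ 2 := orderOf_dvd_of_pow_eq_one (by
      rw [sq]
      calc y * y = y * y⁻¹ := by rw [← h]
        _ = 1 := mul_inv_cancel y)
    exact orderOf_eq_one_iff.1
      (Nat.eq_one_of_dvd_coprimes (Nat.coprime_two_left.2 hodd).symm (R.orderOf_dvd_natCard hy) h2)
  -- fixed by one, inverted by the other
  have mixed : ∀ x ∈ R, ac k x = x → ac k2 x = x⁻¹ → x = 1 := by
    intro x hx h1 h2'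
    have hz1 : ac z x ∈ R := zR x hx
    have hz2 : ac z (ac z x) ∈ R := zR _ hz1
    have hzzz : ac z (ac z (ac z x)) = x := by rw [← acc, ← acc, mul_assoc, hz, ac1]
    have hsum : x * ac z x * ac z (ac z x) = 1 := by
      refine zfix _ (mul_mem (mul_mem hx hz1) hz2) ?_
      rw [acm, acm, hzzz, hab _ (mul_mem hz1 hz2) _ hx, ← mul_assoc]
    have i1 : ac k3 (ac z x) = (ac z x)⁻¹ := by rw [hk3d, hzc, h2', aci]
    have f1 : ac k2 (ac z x) = ac z x := by rw [hk2d, hzc, h1]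
    have n3 : ac k3 x = x⁻¹ := by rw [e3, acc, h2', aci, h1]
    have n1 : ac k (ac z x) = (ac z x)⁻¹ := by
      have : ac k (ac k2 (ac z x)) = (ac z x)⁻¹ := by rw [← acc, ← e3, i1]
      rwa [f1] at this
    have m1 : ac k (ac z (ac z x)) = (ac z (ac z x))⁻¹ := by
      conv_lhs => rw [← hz3]
      rw [hzc, i1, aci]
    have h := congrArg (ac k) hsum
    rw [acm, acm, h1, n1, m1, show ac k 1 = 1 by simp [acd]] at h
    have hxx : x * x = 1 := by
      have hc : (ac z x)⁻¹ * (ac z (ac z x))⁻¹ = (ac z x * ac z (ac z x))⁻¹ := by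
        rw [mul_inv_rev, hab _ (inv_mem hz1) _ (inv_mem hz2)]
      rw [mul_assoc, hc] at h
      rw [mul_assoc] at hsum
      rw [show ac z x * ac z (ac z x) = x⁻¹ from eq_inv_of_mul_eq_one_right hsum, inv_inv] at h
      exact h
    exact hself hx (eq_inv_of_mul_eq_one_left hxx)
  have hcomm : ∀ g h x, g * h = h * g → ac g (ac h x) = ac h (ac g x) := fun g h x e => by
    rw [← acc, e, acc]
  have hkk : ∀ x, ac k (ac k x) = x := fun x => by rw [← acc, hk, ac1]
  have hk22 : ∀ x, ac k2 (ac k2 x) = x := fun x => by rw [← acc, h2, ac1]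
  have hk2R : ∀ x ∈ R, ac k2 x ∈ R := by
    intro x hx
    have hzi : ∀ y ∈ R, z⁻¹ * y * z ∈ R := fun y hy => by
      have := hzR _ (hzR y hy)
      rw [show z⁻¹ = z * z from inv_eq_of_mul_eq_one_right hz]
      have e : z = (z * z)⁻¹ := eq_inv_of_mul_eq_one_left hz
      conv => arg 2; rw [show z * z * y * z = z * z * y * (z * z)⁻¹ from congrArg _ e]
      rwa [show z * z * y * (z * z)⁻¹ = z * (z * y * z⁻¹) * z⁻¹ by group]
    have := hzR _ (hkR _ (hzi x hx))
    rwa [show z * (k * (z⁻¹ * x * z) * k⁻¹) * z⁻¹ = ac k2 x by simp only [acd, hk2d]; group] at this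
  -- fixed by `k` implies fixed by `k2`
  have fix12 : ∀ x ∈ R, ac k x = x → ac k2 x = x := by
    intro x hx h1
    have hy : x * (ac k2 x)⁻¹ = 1 := by
      refine mixed _ (mul_mem hx (inv_mem (hk2R x hx))) ?_ ?_
      · rw [acm, aci, h1, hcomm _ _ _ hk1, h1]
      · rw [acm, aci, hk22, mul_inv_rev, inv_inv]
    exact (mul_inv_eq_one.1 hy).symm
  intro x hx
  -- the part inverted by `k`
  have hy : x * (ac k x)⁻¹ ∈ R := mul_mem hx (inv_mem (kR x hx))
  set y := x * (ac k x)⁻¹ with hyd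
  have hky : ac k y = y⁻¹ := by rw [hyd, acm, aci, hkk, mul_inv_rev, inv_inv]
  have hfix2 : ∀ w ∈ R, ac k2 w = w → ac k w = w := by
    intro w hw h
    -- transport by the operator
    have hzi : z⁻¹ * w * z ∈ R := by
      have := hzR _ (hzR w hw)
      rwa [show z * (z * w * z⁻¹) * z⁻¹ = z * z * w * (z * z)⁻¹ by group,
        show z * z = z⁻¹ from (inv_eq_of_mul_eq_one_right hz).symm, inv_inv] at this
    have hw' : ac z (z⁻¹ * w * z) = w := by simp only [acd]; group
    have h1 : ac k (z⁻¹ * w * z) = z⁻¹ * w * z := by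
      rw [← hw', hk2d, hzc] at h
      exact mul_left_cancel (mul_right_cancel (((acd _ _).symm.trans h).trans (acd _ _)))
    have h2' := fix12 _ hzi h1
    have h3' : ac k3 w = w := by
      conv_lhs => rw [← hw']
      rw [hk3d, hzc, h2', hw']
    have : ac k (ac k2 w) = w := by rw [← acc, ← e3, h3']
    rwa [h] at this
  have hw2 : y * ac k2 y ∈ R := mul_mem hy (hk2R y hy)
  have e1 : y * ac k2 y = 1 := by
    refine hself hw2 ?_
    have hk2fix : ac k2 (y * ac k2 y) = y * ac k2 y := by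
      rw [acm, hk22, hab _ (hk2R y hy) _ hy]
    have hf := hfix2 _ hw2 hk2fix
    rw [acm, hky, hcomm _ _ _ hk1, hky, aci, ← mul_inv_rev, hab _ (hk2R y hy) _ hy] at hf
    exact hf.symm
  have hy2 : ac k2 y = y⁻¹ := eq_inv_of_mul_eq_one_right e1
  have hy3 : ac k3 y = y := by rw [e3, acc, hy2, aci, hky, inv_inv]
  -- the third involution
  have hzz : ac z (ac z y) ∈ R := zR _ (zR y hy)
  have hy0 : y = 1 := by
    have h1 : ac k (ac z y) = ac z y := by conv_lhs => rw [← hz3, hzc, hy3]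
    have h2' : ac k2 (ac z y) = (ac z y)⁻¹ := by rw [hk2d, hzc, hky, aci]
    have := mixed _ (zR y hy) h1 h2'
    rw [acd] at this
    exact conj_eq_one_iff.1 this
  rw [← acd]
  exact (mul_inv_eq_one.1 hy0).symm

variable {G : Type u} [Group G] [Finite G] {c : Cfg G} {d : A6Data c} (E : Emb d)

namespace Emb

include E in
theorem mem_range_of_swap {x : G} (hx : x * d.ψ si = d.ψ si * x)
    (hx' : x * d.ψ si' * x⁻¹ = d.ψ si' ∨ x * d.ψ si' * x⁻¹ = d.ψ si * d.ψ si') :
    x ∈ E.φ.range := by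
  rcases hx' with h | h
  · exact E.cV_le (d.mem_cV.2 ⟨hx, mul_inv_eq_iff_eq_mul.1 h⟩)
  · obtain ⟨hU, e1, e2, hcI⟩ := swap_V
    set u := d.Fa.f (jK kU) with hu
    have hur : u ∈ E.φ.range := by rw [hu, ← E.agree_a hU]; exact E.mem_range hU.2
    have f1 : u * d.ψ si * u⁻¹ = d.ψ si := by
      rw [hu, ← d.Fa_six', ← d.Fa.map_conj hU (inKa_p6 si), e1]
    have f2 : u * d.ψ si' * u⁻¹ = d.ψ si * d.ψ si' := by
      rw [hu, ← d.Fa_six', ← d.Fa_six', ← d.Fa.map_conj hU (inKa_p6 si'), e2,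
        d.Fa.map_mul (inKa_p6 si) (inKa_p6 si')]
    have hm : u⁻¹ * x ∈ E.φ.range := by
      refine E.cV_le (d.mem_cV.2 ⟨?_, ?_⟩)
      · calc u⁻¹ * x * d.ψ si = u⁻¹ * (x * d.ψ si) := by group
          _ = u⁻¹ * (u * d.ψ si * u⁻¹ * x) := by rw [f1, hx]
          _ = _ := by group
      · calc u⁻¹ * x * d.ψ si' = u⁻¹ * (x * d.ψ si' * x⁻¹) * x := by group
          _ = u⁻¹ * (u * d.ψ si' * u⁻¹) * x := by rw [h, f2]
          _ = _ := by group
    have := mul_mem hur hm
    rwa [mul_inv_cancel_left] at this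

theorem si'_conj : ∃ g : A6, g * si * g⁻¹ = si' :=
  four_conjugates si' (Or.inl rfl)

include E in
theorem card_cVB : 240 ≤ Nat.card (d.cV si si') := by
  have hsub : ∀ v : A6, inV v → d.ψ v ∈ d.cV si si' := fun v hv =>
    (d.fourCfg fourB).hVC ((d.mem_vV fourB).2 ⟨v, hv, rfl⟩)
  let f : {v : A6 // inV v} × A5 → d.cV si si' := fun x =>
    ⟨d.ψ x.1.1 * η (d := d) x.2, mul_mem (hsub _ x.1.2) (E.η_mem_cV x.2)⟩
  have hf : Function.Injective f := by
    rintro ⟨⟨v, hv⟩, g⟩ ⟨⟨w, hw⟩, h⟩ e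
    have e' : d.ψ v * η (d := d) g = d.ψ w * η (d := d) h := congrArg Subtype.val e
    have key : ∀ v w : A6, inV v → inV w → inV (w⁻¹ * v) := by decide +kernel
    have e2 : d.ψ (w⁻¹ * v) * η (d := d) (g * h⁻¹) = 1 := by
      rw [map_mul, map_inv, map_mul (η (d := d)), map_inv]
      calc (d.ψ w)⁻¹ * d.ψ v * (η (d := d) g * (η (d := d) h)⁻¹)
          = (d.ψ w)⁻¹ * (d.ψ v * η (d := d) g) * (η (d := d) h)⁻¹ := by group
        _ = 1 := by rw [e']; group
    rw [← E.Φ_six, ← E.η_eq, ← E.Φ.map_mul (inKa_p6 _).2 (p5_sign _)] at e2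
    obtain ⟨r1, r2⟩ := p5_disjoint (g * h⁻¹) _ (key v w hv hw)
      (E.Φ.faithful (E.Φ.mul (inKa_p6 _).2 (p5_sign _)) e2)
    rw [inv_mul_eq_one] at r1
    rw [mul_inv_eq_one] at r2
    subst r1 r2
    rfl
  have h := Nat.card_le_card_of_injective f hf
  rw [Nat.card_prod, nat_card_alternatingGroup, Nat.card_fin,
    show Nat.card {v : A6 // inV v} = 4 by rw [Nat.card_eq_fintype_card]; decide +kernel] at h
  exact (show 240 = 4 * (Nat.factorial 5 / 2) by decide).le.trans h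

theorem card_cVA : Nat.card (d.cV si sj) ≤ 24 := by
  classical
  have hmem : ∀ x : d.cV si sj, ∃ k : K36, d.FK k = x.1 ∧
      k ∈ (Finset.univ.filter fun k : K36 => k * k6 si = k6 si * k ∧ k * k6 sj = k6 sj * k) := by
    intro x
    obtain ⟨p, hp, hpe⟩ := d.exists_of_norm (d.cVA_norm _ x.2)
    obtain ⟨k, rfl⟩ := (inKa_iff p).1 hp
    rw [Fa_jK] at hpe
    obtain ⟨e1, e2⟩ := d.mem_cV.1 x.2
    rw [← hpe, ← FK_k6, ← map_mul, ← map_mul] at e1 e2
    exact ⟨k, hpe, Finset.mem_filter.2 ⟨Finset.mem_univ _, d.FK_injective e1, d.FK_injective e2⟩⟩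
  choose f hf hf' using hmem
  have h := Nat.card_le_card_of_injective (fun x : d.cV si sj => (⟨f x, hf' x⟩ : {k // k ∈ _}))
    fun x y e => Subtype.ext (by
      have e' : f x = f y := congrArg Subtype.val e
      rw [← hf x, ← hf y, e'])
  rw [Nat.card_eq_finsetCard] at h
  exact h.trans (by decide +kernel)

include E in
theorem odd_normal_eq_bot (R : Subgroup G) (hodd : Odd (Nat.card R))
    (hRI : ∀ x ∈ R, x * d.ψ si = d.ψ si * x)
    (hnorm : ∀ g : G, g * d.ψ si = d.ψ si * g → ∀ x ∈ R, g * x * g⁻¹ ∈ R) :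
    ∀ x ∈ R, x = 1 := by
  classical
  obtain ⟨-, -, -, hcI⟩ := swap_V
  have hI' : d.ψ si' * d.ψ si = d.ψ si * d.ψ si' := by rw [← map_mul, ← map_mul, hcI]
  have hIη : ∀ g : A5, η (d := d) g * d.ψ si = d.ψ si * η (d := d) g := fun g =>
    (d.mem_cV.1 (E.η_mem_cV g)).1
  -- fixed points of the second involution
  have hfix : ∀ x ∈ R, x * d.ψ si' = d.ψ si' * x → x = 1 := by
    intro x hx hxI'
    have hxC : x ∈ d.cV si si' := d.mem_cV.2 ⟨hRI x hx, hxI'⟩
    set N : Subgroup A5 := R.comap (η (d := d)) with hN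
    haveI hNn : N.Normal := ⟨fun y hy g => by
      rw [hN, Subgroup.mem_comap, map_mul, map_mul, map_inv]
      exact hnorm _ (hIη g) _ hy⟩
    haveI : IsSimpleGroup A5 := alternatingGroup.isSimpleGroup (by simp)
    have hbot : N = ⊥ := by
      refine ((inferInstance : IsSimpleGroup A5).eq_bot_or_eq_top_of_normal N hNn).resolve_right ?_
      intro ht
      let k : A5 := ⟨c[0, 1] * c[2, 3], Equiv.Perm.mem_alternatingGroup.2 (by decide +kernel)⟩
      have hk : η (d := d) k ∈ R := Subgroup.mem_comap.1 (show k ∈ N by rw [ht]; trivial)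
      have h2 : orderOf (η (d := d) k) ∣ 2 := orderOf_dvd_of_pow_eq_one (by
        rw [← map_pow, show k ^ 2 = 1 by decide +kernel, map_one])
      have h1 : η (d := d) k = 1 := orderOf_eq_one_iff.1
        (Nat.eq_one_of_dvd_coprimes (Nat.coprime_two_left.2 hodd).symm (R.orderOf_dvd_natCard hk) h2)
      rw [← E.η_eq] at h1
      have := E.Φ.faithful (p5_sign k) h1
      revert this
      decide +kernel
    -- `x` lies in the product of the four subgroup and the alternating group of degree five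
    let Pset : Set G := {z | ∃ v : A6, inV v ∧ ∃ g : A5, z = d.ψ v * η (d := d) g}
    have hvc : ∀ v : A6, inV v → ∀ g : A5, Commute (d.ψ v) (η (d := d) g) := fun v hv g =>
      (d.fourCfg fourB).hcent _ ((d.mem_vV fourB).2 ⟨v, hv, rfl⟩) _ (E.η_mem_cV g)
    obtain ⟨p, hp, rfl⟩ := E.exists_perm (E.cV_le hxC)
    have hpI := (E.Φ.commute_iff hp even_pI).1 (by rw [E.Φ_six]; exact hRI _ hx)
    have hpI' := (E.Φ.commute_iff hp even_pI').1 (by rw [E.Φ_six]; exact hxI')
    obtain ⟨l, hl⟩ := odd_pow_four hodd hx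
    obtain ⟨v, hv, g, hvg⟩ : E.Φ.f p ∈ Pset := by
      have hsub : ∀ z : G, z ∈ Pset → z ∈ d.cV si si' := by
        rintro z ⟨v, hv, g, rfl⟩
        exact mul_mem ((d.fourCfg fourB).hVC ((d.mem_vV fourB).2 ⟨v, hv, rfl⟩)) (E.η_mem_cV g)
      have hcard : Nat.card (d.cV si si') ≤ 240 := by
        have h1 := E.cV_le
        have hmem : ∀ z : d.cV si si', ∃ q : P9, Perm.sign q = 1 ∧ E.Φ.f q = z.1 :=
          fun z => E.exists_perm (h1 z.2)
        choose q hq hqz using hmem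
        have hq45 : ∀ z, ∃ k : K45, q45 k = q z ∧ q45 k * pI' = pI' * q45 k := fun z => by
          obtain ⟨e1, e2⟩ := d.mem_cV.1 z.2
          rw [← hqz, ← E.Φ_six] at e1 e2
          obtain ⟨k, hk⟩ := exists_q45 (hq z) ((E.Φ.commute_iff (hq z) even_pI).1 e1)
          exact ⟨k, hk, hk ▸ (E.Φ.commute_iff (hq z) even_pI').1 e2⟩
        choose k hk hk' using hq45
        have hkI : ∀ z, q45 (k z) * pI = pI * q45 (k z) := fun z => by
          obtain ⟨e1, -⟩ := d.mem_cV.1 z.2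
          rw [← hqz, ← E.Φ_six] at e1
          rw [hk]
          exact (E.Φ.commute_iff (hq z) even_pI).1 e1
        have h := Nat.card_le_card_of_injective (fun z : d.cV si si' => (⟨k z,
          Finset.mem_filter.2 ⟨Finset.mem_univ _, hkI z, hk' z⟩⟩ : {j // j ∈ Finset.univ.filter
            fun j : K45 => q45 j * pI = pI * q45 j ∧ q45 j * pI' = pI' * q45 j}))
          fun z w e => Subtype.ext (by
            have e' : k z = k w := congrArg Subtype.val e
            rw [← hqz z, ← hqz w, ← hk z, ← hk w, e'])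
        rw [Nat.card_eq_finsetCard] at h
        exact h.trans (by decide +kernel)
      have hfin : Pset.Finite := Set.toFinite _
      have hPcard : 240 ≤ Nat.card Pset := by
        let f : {v : A6 // inV v} × A5 → Pset := fun y =>
          ⟨d.ψ y.1.1 * η (d := d) y.2, y.1.1, y.1.2, y.2, rfl⟩
        have hf : Function.Injective f := by
          rintro ⟨⟨v, hv⟩, g⟩ ⟨⟨w, hw⟩, h⟩ e
          have e' : d.ψ v * η (d := d) g = d.ψ w * η (d := d) h := congrArg Subtype.val e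
          have key : ∀ v w : A6, inV v → inV w → inV (w⁻¹ * v) := by decide +kernel
          have e2 : d.ψ (w⁻¹ * v) * η (d := d) (g * h⁻¹) = 1 := by
            rw [map_mul, map_inv, map_mul (η (d := d)), map_inv]
            calc (d.ψ w)⁻¹ * d.ψ v * (η (d := d) g * (η (d := d) h)⁻¹)
                = (d.ψ w)⁻¹ * (d.ψ v * η (d := d) g) * (η (d := d) h)⁻¹ := by group
              _ = 1 := by rw [e']; group
          rw [← E.Φ_six, ← E.η_eq, ← E.Φ.map_mul (inKa_p6 _).2 (p5_sign _)] at e2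
          obtain ⟨r1, r2⟩ := p5_disjoint (g * h⁻¹) _ (key v w hv hw)
            (E.Φ.faithful (E.Φ.mul (inKa_p6 _).2 (p5_sign _)) e2)
          rw [inv_mul_eq_one] at r1
          rw [mul_inv_eq_one] at r2
          subst r1 r2
          rfl
        have h := Nat.card_le_card_of_injective f hf
        rw [Nat.card_prod, nat_card_alternatingGroup, Nat.card_fin,
          show Nat.card {v : A6 // inV v} = 4 by rw [Nat.card_eq_fintype_card]; decide +kernel] at h
        exact (show 240 = 4 * (Nat.factorial 5 / 2) by decide).le.trans h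
      have heq : Pset = (d.cV si si' : Set G) := Set.eq_of_subset_of_ncard_le hsub (by
        rw [← Nat.card_coe_set_eq, ← Nat.card_coe_set_eq]
        exact hcard.trans hPcard)
      rw [heq]
      exact hxC
    have h4 : E.Φ.f p = η (d := d) ((g ^ 4) ^ l) := by
      conv_lhs => rw [← hl, hvg]
      rw [(hvc v hv g).mul_pow, ← map_pow, (inV_facts v hv).2, map_one, one_mul, ← map_pow, ← map_pow]
    have hgN : (g ^ 4) ^ l ∈ N := by rw [hN, Subgroup.mem_comap, ← h4]; exact hx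
    rw [hbot, Subgroup.mem_bot] at hgN
    rw [h4, hgN, map_one]
  -- the second involution inverts
  have hi'2 : d.ψ si' * d.ψ si' = 1 := by rw [← map_mul, A6Data.fourB.h2, map_one]
  have hi'R : ∀ x ∈ R, d.ψ si' * x * (d.ψ si')⁻¹ ∈ R := fun x hx => hnorm _ hI' x hx
  have hinv : ∀ x ∈ R, d.ψ si' * x * (d.ψ si')⁻¹ = x⁻¹ := by
    intro x hx
    let f : R →* R := MonoidHom.mk' (fun y => ⟨_, hi'R y.1 y.2⟩) fun a b => Subtype.ext (by
      show d.ψ si' * (a.1 * b.1) * (d.ψ si')⁻¹ = _ * _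
      group)
    have := EightLocal.inv_of_fpf f (fun z => Subtype.ext (by
        show d.ψ si' * (d.ψ si' * (z : G) * (d.ψ si')⁻¹) * (d.ψ si')⁻¹ = z
        calc d.ψ si' * (d.ψ si' * (z : G) * (d.ψ si')⁻¹) * (d.ψ si')⁻¹
            = d.ψ si' * d.ψ si' * z * (d.ψ si' * d.ψ si')⁻¹ := by group
          _ = z := by rw [hi'2]; group))
      (fun z hz => Subtype.ext (hfix z z.2
        (mul_inv_eq_iff_eq_mul.1 (congrArg Subtype.val hz)).symm)) ⟨x, hx⟩
    exact congrArg Subtype.val this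
  have hab : ∀ x ∈ R, ∀ y ∈ R, x * y = y * x := by
    intro x hx y hy
    have h := hinv _ (mul_mem hx hy)
    rw [show d.ψ si' * (x * y) * (d.ψ si')⁻¹ =
      d.ψ si' * x * (d.ψ si')⁻¹ * (d.ψ si' * y * (d.ψ si')⁻¹) by group, hinv x hx, hinv y hy,
      ← mul_inv_rev] at h
    exact (inv_injective h).symm
  have hRM : ∀ x ∈ R, x ∈ E.φ.range → x = 1 := by
    intro x hx hxM
    obtain ⟨p, hp, rfl⟩ := E.exists_perm hxM
    obtain ⟨k, rfl⟩ := exists_q45 hp ((E.Φ.commute_iff hp even_pI).1 (by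
      rw [E.Φ_six]; exact hRI _ hx))
    have hkI : q45 k * pI = pI * q45 k := (E.Φ.commute_iff hp even_pI).1 (by
      rw [E.Φ_six]; exact hRI _ hx)
    obtain ⟨l, hl⟩ := odd_pow_four hodd hx
    refine hfix _ hx ?_
    have h4 : Commute (E.Φ.f (q45 k) ^ 4) (d.ψ si') := by
      obtain ⟨h1, h2⟩ := E.Φ.map_pow (show Even9 (q45 k) from hp) 4
      rw [← h2, ← E.Φ_six]
      exact (E.Φ.commute_iff h1 even_pI').2 (pow_four_I k hkI)
    rw [← hl]
    exact (h4.pow_left l).eq
  obtain ⟨hk2, hz3, hz1, hk1, hkz, hkkz⟩ := klein_facts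
  set k : A5 := ⟨c[0, 1] * c[2, 3], Equiv.Perm.mem_alternatingGroup.2 (by decide +kernel)⟩
  set z : A5 := ⟨c[0, 1, 2], Equiv.Perm.mem_alternatingGroup.2 (by decide +kernel)⟩
  have hzfix : ∀ x ∈ R, η (d := d) z * x * (η (d := d) z)⁻¹ = x → x = 1 := by
    intro x hx hzx
    refine hRM x hx (E.cent_three_perm (p5_sign z) ?_ ?_ ?_)
    · decide +kernel
    · decide +kernel
    · rw [E.η_eq]
      exact (mul_inv_eq_iff_eq_mul.1 hzx).symm
  have hktriv := klein_trivial hodd hab (k := η (d := d) k) (z := η (d := d) z)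
    (by rw [← map_mul, hk2, map_one]) (by rw [← map_mul, ← map_mul, hz3, map_one])
    (by simp only [← map_inv, ← map_mul, hkz])
    (by simp only [← map_inv, ← map_mul, hkkz, map_one])
    (fun x hx => hnorm _ (hIη k) x hx) (fun x hx => hnorm _ (hIη z) x hx) hzfix
  let S : Subgroup A5 := (Subgroup.centralizer (R : Set G)).comap (η (d := d))
  haveI hSn : S.Normal := ⟨fun y hy g => by
    rw [Subgroup.mem_comap, Subgroup.mem_centralizer_iff] at hy ⊢
    intro r hr
    have hr' : (η (d := d) g)⁻¹ * r * η (d := d) g ∈ R := by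
      have := hnorm _ (hIη g⁻¹) r hr
      rwa [map_inv, inv_inv] at this
    have h := hy _ hr'
    rw [map_mul, map_mul, map_inv]
    calc r * (η (d := d) g * η (d := d) y * (η (d := d) g)⁻¹)
        = η (d := d) g * ((η (d := d) g)⁻¹ * r * η (d := d) g * η (d := d) y) * (η (d := d) g)⁻¹ := by group
      _ = η (d := d) g * (η (d := d) y * ((η (d := d) g)⁻¹ * r * η (d := d) g)) * (η (d := d) g)⁻¹ := by
          rw [h]
      _ = _ := by group⟩
  haveI : IsSimpleGroup A5 := alternatingGroup.isSimpleGroup (by simp)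
  have hkS : k ∈ S := by
    rw [Subgroup.mem_comap, Subgroup.mem_centralizer_iff]
    intro r hr
    exact (mul_inv_eq_iff_eq_mul.1 (hktriv r hr)).symm
  rcases (inferInstance : IsSimpleGroup A5).eq_bot_or_eq_top_of_normal S hSn with h | h
  · rw [h, Subgroup.mem_bot] at hkS
    exact absurd hkS hk1
  · intro x hx
    refine hzfix x hx ?_
    have hzS : z ∈ S := h ▸ Subgroup.mem_top z
    rw [Subgroup.mem_comap, Subgroup.mem_centralizer_iff] at hzS
    rw [mul_inv_eq_iff_eq_mul]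
    exact (hzS x hx).symm

include E in
/-- The centraliser of `(3 4)(6 7)` lies in the alternating subgroup. -/
theorem centI_le {x₀ : G} (hx₀ : x₀ * d.ψ si = d.ψ si * x₀) : x₀ ∈ E.φ.range := by
  classical
  haveI : Fact (Nat.Prime 2) := ⟨Nat.prime_two⟩
  obtain ⟨-, -, -, hcI⟩ := swap_V
  set s := d.ψ si with hsdef
  set b := d.ψ si' with hbdef
  set H := Subgroup.centralizer ({s} : Set G) with hH
  have hmem : ∀ {x : G}, x ∈ H ↔ x * s = s * x := Subgroup.mem_centralizer_singleton_iff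
  have hss : s * s = 1 := by rw [hsdef, ← map_mul, A6Data.fourB.h1, map_one]
  have hbb : b * b = 1 := by rw [hbdef, ← map_mul, A6Data.fourB.h2, map_one]
  have hs1 : s ≠ 1 := fun h => A6Data.vertices.2.2 (d.inj (h.trans (map_one d.ψ).symm))
  have hso : orderOf s = 2 := orderOf_eq_prime (by rw [sq, hss]) hs1
  have hbs : b * s = s * b := by rw [hsdef, hbdef, ← map_mul, ← map_mul, hcI]
  set sH : H := ⟨s, hmem.2 rfl⟩ with hsH
  set Z := Subgroup.zpowers sH with hZ
  have hsc : sH ∈ Subgroup.center H := Subgroup.mem_center_iff.2 fun g => Subtype.ext (hmem.1 g.2)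
  haveI hZn : Z.Normal := ⟨fun n hn g => by
    obtain ⟨k, rfl⟩ := Subgroup.mem_zpowers_iff.1 hn
    have hc : g * sH ^ k = sH ^ k * g :=
      Subgroup.mem_center_iff.1 (Subgroup.zpow_mem _ hsc k) g
    rw [hc, mul_inv_cancel_right]
    exact Subgroup.zpow_mem _ (Subgroup.mem_zpowers _) k⟩
  have hZc : Nat.card Z = 2 := by rw [hZ, Nat.card_zpowers, hsH, Subgroup.orderOf_mk, hso]
  have hZval : ∀ c : H, c ∈ Z → (c : G) = 1 ∨ (c : G) = s := by
    intro c hc
    rw [hZ, mem_zpowers_iff_mem_range_orderOf, hsH, Subgroup.orderOf_mk, hso] at hc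
    simp only [Finset.mem_image, Finset.mem_range] at hc
    obtain ⟨i, hi, rfl⟩ := hc
    interval_cases i <;> simp
  set π := QuotientGroup.mk' Z with hπ
  have hcore : pPrimeCore 2 H = ⊥ := by
    rw [Subgroup.eq_bot_iff_forall]
    intro y hy
    refine Subtype.ext (E.odd_normal_eq_bot ((pPrimeCore 2 H).map H.subtype) ?_ ?_ ?_ y ⟨y, hy, rfl⟩)
    · rw [Subgroup.card_map_of_injective H.subtype_injective]
      exact PCore.odd_card_oddCore
    · rintro - ⟨w, -, rfl⟩
      exact hmem.1 w.2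
    · rintro g hg - ⟨w, hw, rfl⟩
      exact ⟨⟨g, hmem.2 hg⟩ * w * ⟨g, hmem.2 hg⟩⁻¹,
        (inferInstance : (pPrimeCore 2 H).Normal).conj_mem w hw _, rfl⟩
  have hcoreQ : pPrimeCore 2 (H ⧸ Z) = ⊥ := pPrimeCore_quotient_eq_bot Z (Subgroup.zpowers_le.2 hsc)
    (IsPGroup.of_card (n := 1) (by rw [hZc, pow_one])) hcore
  set bH : H := ⟨b, hmem.2 hbs⟩ with hbH
  set v := π bH with hv
  have hiso : IsIsolatedInvolution v := by
    refine ⟨orderOf_eq_prime ?_ ?_, ?_⟩
    · rw [hv, ← map_pow, show bH ^ 2 = 1 from Subtype.ext (by simpa [hbH, sq] using hbb), map_one]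
    · intro h
      rcases hZval _ ((QuotientGroup.eq_one_iff bH).1 h) with e | e
      · exact (by decide +kernel : si' ≠ 1) (d.inj (e.trans (map_one d.ψ).symm))
      · exact (by decide +kernel : si' ≠ si) (d.inj e)
    · intro q hq
      obtain ⟨g, rfl⟩ := QuotientGroup.mk'_surjective Z q
      set Wt : H := g * bH * g⁻¹ with hW
      have hWπ : π g * v * (π g)⁻¹ = π Wt := by rw [hW, map_mul, map_mul, map_inv, ← hv]
      rw [hWπ] at hq ⊢
      have hgs : g.1 * s * (g.1)⁻¹ = s := by rw [hmem.1 g.2, mul_inv_cancel_right]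
      have hWs : Wt.1 * s = s * Wt.1 := hmem.1 Wt.2
      have hW1 : Wt.1 = g.1 * b * (g.1)⁻¹ := rfl
      have hWW : Wt.1 * Wt.1 = 1 := by
        rw [hW1, show g.1 * b * (g.1)⁻¹ * (g.1 * b * (g.1)⁻¹) = g.1 * (b * b) * (g.1)⁻¹ by group, hbb]
        group
      have hc : (Wt.1 * b * (Wt.1)⁻¹ * b⁻¹ : G) = 1 ∨ (Wt.1 * b * (Wt.1)⁻¹ * b⁻¹ : G) = s := by
        refine hZval (Wt * bH * Wt⁻¹ * bH⁻¹) ((QuotientGroup.eq_one_iff _).1 ?_)
        show π (Wt * bH * Wt⁻¹ * bH⁻¹) = 1
        rw [map_mul, map_mul, map_mul, map_inv, map_inv, ← hv, ← hq.eq]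
        group
      have hWM : Wt.1 ∈ E.φ.range := E.mem_range_of_swap hWs (by
        rcases hc with e | e
        · exact Or.inl (mul_inv_eq_one.1 e)
        · exact Or.inr (mul_inv_eq_iff_eq_mul.1 e))
      obtain ⟨p, hp, hpW⟩ := E.exists_perm hWM
      obtain ⟨kq, rfl⟩ := exists_q45 hp ((E.Φ.commute_iff hp even_pI).1 (by
        rw [hpW, E.Φ_six]; exact hWs))
      have hkI : q45 kq * pI = pI * q45 kq := (E.Φ.commute_iff hp even_pI).1 (by
        rw [hpW, E.Φ_six]; exact hWs)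
      obtain ⟨gg, hgg⟩ := si'_conj
      obtain ⟨h2, hm4, -⟩ := E.moved_of_fused (g := g.1 * d.ψ gg) hp (by
        rw [hpW, hW1, hbdef, ← hgg, map_mul, map_mul, map_inv]; group)
      obtain ⟨g2, hg2⟩ := four_conjugates (si * si') (Or.inr (Or.inl rfl))
      obtain ⟨-, hm4', -⟩ := E.moved_of_fused (g := g.1 * d.ψ g2) (p := pI * q45 kq)
        (E.Φ.mul even_pI hp) (by
          rw [E.Φ.map_mul even_pI hp, hpW, E.Φ_six, hW1,
            show g.1 * d.ψ g2 * d.ψ si * (g.1 * d.ψ g2)⁻¹ =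
              g.1 * (d.ψ g2 * d.ψ si * (d.ψ g2)⁻¹) * (g.1)⁻¹ by group,
            ← map_inv d.ψ, ← map_mul, ← map_mul, hg2, map_mul]
          calc g.1 * (d.ψ si * d.ψ si') * (g.1)⁻¹ = g.1 * s * (g.1)⁻¹ * (g.1 * b * (g.1)⁻¹) := by
                rw [hsdef, hbdef]; group
            _ = _ := by rw [hgs])
      rcases fours_I kq hkI h2 hm4 hm4' with e | e | ⟨l, hlI, hl⟩
      · have : Wt = bH := Subtype.ext (by rw [← hpW, e, E.Φ_six])
        rw [this]
      · have : Wt = sH * bH := Subtype.ext (by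
          rw [← hpW, e, E.Φ.map_mul even_pI even_pI', E.Φ_six, E.Φ_six]; rfl)
        rw [this, map_mul, show π sH = 1 from (QuotientGroup.eq_one_iff sH).2 (Subgroup.mem_zpowers sH),
          one_mul]
      · exfalso
        set m := E.Φ.f (q45 l)
        have hls : m * s * m⁻¹ = s := by
          rw [hsdef, ← E.Φ_six, ← E.Φ.map_conj (sign_q45 l) even_pI, hlI, mul_inv_cancel_right]
        have hlj : m * d.ψ sj * m⁻¹ = Wt.1 := by
          rw [← hpW, ← hl, E.Φ.map_conj (sign_q45 l) (inKa_p6 sj).2, E.Φ_six]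
        have hle : (d.cV si si').map (MulAut.conj (m⁻¹ * g.1)).toMonoidHom ≤ d.cV si sj := by
          rintro - ⟨y, hy, rfl⟩
          obtain ⟨y1, y2⟩ := d.mem_cV.1 hy
          show m⁻¹ * g.1 * y * (m⁻¹ * g.1)⁻¹ ∈ _
          have conjk : ∀ {u u' : G}, y * u = u * y → m⁻¹ * g.1 * u * (m⁻¹ * g.1)⁻¹ = u' →
              m⁻¹ * g.1 * y * (m⁻¹ * g.1)⁻¹ * u' = u' * (m⁻¹ * g.1 * y * (m⁻¹ * g.1)⁻¹) := by
            intro u u' h1 h2
            rw [← h2]
            exact ((show Commute y u from h1).map (MulAut.conj (m⁻¹ * g.1)).toMonoidHom).eq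
          refine d.mem_cV.2 ⟨conjk y1 ?_, conjk y2 ?_⟩
          · calc m⁻¹ * g.1 * d.ψ si * (m⁻¹ * g.1)⁻¹ = m⁻¹ * (g.1 * s * (g.1)⁻¹) * m := by rw [hsdef]; group
              _ = m⁻¹ * (m * s * m⁻¹) * m := by rw [hgs, hls]
              _ = _ := by rw [hsdef]; group
          · calc m⁻¹ * g.1 * d.ψ si' * (m⁻¹ * g.1)⁻¹ = m⁻¹ * Wt.1 * m := by rw [hW1, hbdef]; group
              _ = _ := by rw [← hlj]; group
        have h1 := Nat.card_le_card_of_injective _ (Subgroup.inclusion_injective hle)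
        rw [Subgroup.card_map_of_injective (MulAut.conj (m⁻¹ * g.1)).injective] at h1
        have h2 : Nat.card (d.cV si sj) ≤ 24 := card_cVA
        have h3 := E.card_cVB
        omega
  set xH : H := ⟨x₀, hmem.2 hx₀⟩
  have h := ZStar.inZStar hiso (π xH)
  rw [hcoreQ, Subgroup.mem_bot] at h
  have hc : (x₀ * b * x₀⁻¹ * b⁻¹ : G) = 1 ∨ (x₀ * b * x₀⁻¹ * b⁻¹ : G) = s := by
    refine hZval (xH * bH * xH⁻¹ * bH⁻¹) ((QuotientGroup.eq_one_iff _).1 ?_)
    show π (xH * bH * xH⁻¹ * bH⁻¹) = 1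
    rw [map_mul, map_mul, map_mul, map_inv, map_inv, ← hv]
    exact h
  refine E.mem_range_of_swap hx₀ ?_
  rcases hc with e | e
  · exact Or.inl (mul_inv_eq_one.1 e)
  · exact Or.inr (mul_inv_eq_iff_eq_mul.1 e)

end Emb

end Cfsg.Agent.NineRecog
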