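import Cfsg.Agent.S3341
import Cfsg.Agent.Lib.SelfCentThree.Quotient
import Cfsg.Agent.Lib.PCore.Basic

/-!
# A strongly self-centralising Sylow subgroup of order nine with cyclic automiser of order four

Without a normal subgroup of order prime to three, the group has a normal Sylow 3-subgroup or is
the alternating group of degree six.
-/

set_option autoImplicit false

namespace Cfsg.Agent.NineRecog

open Cfsg Equiv

universe u

/-- The alternating group of degree six. -/
abbrev A6 : Subgroup (Perm (Fin 6)) := alternatingGroup (Fin 6)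

/-- The first three-cycle. -/
def z6 : A6 := ⟨c[0, 1, 2], Equiv.Perm.mem_alternatingGroup.2 (by decide +kernel)⟩
/-- The second three-cycle. -/
def w6 : A6 := ⟨c[3, 4, 5], Equiv.Perm.mem_alternatingGroup.2 (by decide +kernel)⟩
/-- An element of order four normalising the standard Sylow subgroup. -/
def r6 : A6 := ⟨c[0, 3, 1, 4] * c[2, 5], Equiv.Perm.mem_alternatingGroup.2 (by decide +kernel)⟩

theorem six_table :
    Function.Injective (fun x : Fin 3 × Fin 3 × Fin 4 =>
      z6 ^ (x.1 : ℕ) * w6 ^ (x.2.1 : ℕ) * r6 ^ (x.2.2 : ℕ)) ∧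
    (∀ i j k l : Fin 3, ∃ m n : Fin 3,
      z6 ^ (i : ℕ) * w6 ^ (j : ℕ) * (z6 ^ (k : ℕ) * w6 ^ (l : ℕ)) = z6 ^ (m : ℕ) * w6 ^ (n : ℕ)) ∧
    (∀ i j : Fin 3, ∃ m n : Fin 3, (z6 ^ (i : ℕ) * w6 ^ (j : ℕ))⁻¹ = z6 ^ (m : ℕ) * w6 ^ (n : ℕ)) ∧
    (∀ i j : Fin 3, ∃ m n : Fin 3,
      r6 * (z6 ^ (i : ℕ) * w6 ^ (j : ℕ)) * r6⁻¹ = z6 ^ (m : ℕ) * w6 ^ (n : ℕ)) := by
  refine ⟨?_, ?_, ?_, ?_⟩ <;> decide +kernel

/-- The standard Sylow 3-subgroup of the alternating group of degree six. -/
def S6 : Subgroup A6 where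
  carrier := {g | ∃ i j : Fin 3, g = z6 ^ (i : ℕ) * w6 ^ (j : ℕ)}
  one_mem' := ⟨0, 0, by simp⟩
  mul_mem' := by
    rintro a b ⟨i, j, rfl⟩ ⟨k, l, rfl⟩
    exact six_table.2.1 i j k l
  inv_mem' := by
    rintro a ⟨i, j, rfl⟩
    exact six_table.2.2.1 i j

theorem card_S6 : Nat.card S6 = 9 := by
  let f : Fin 3 × Fin 3 → S6 := fun x => ⟨z6 ^ (x.1 : ℕ) * w6 ^ (x.2 : ℕ), x.1, x.2, rfl⟩
  have hf : Function.Bijective f := by
    refine ⟨fun a b h => ?_, fun ⟨g, i, j, h⟩ => ⟨(i, j), Subtype.ext h.symm⟩⟩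
    have h' : z6 ^ (a.1 : ℕ) * w6 ^ (a.2 : ℕ) = z6 ^ (b.1 : ℕ) * w6 ^ (b.2 : ℕ) :=
      congrArg Subtype.val h
    have := @six_table.1 (a.1, a.2, 0) (b.1, b.2, 0) (by simpa using h')
    simpa [Prod.ext_iff] using this
  rw [← Nat.card_eq_of_bijective f hf]
  simp

theorem card_normalizer_S6 : 36 ≤ Nat.card (Subgroup.normalizer (S6 : Set A6)) := by
  have hr : r6 ∈ Subgroup.normalizer (S6 : Set A6) := by
    refine Subgroup.mem_normalizer_iff.2 fun y => ⟨?_, fun hy => ?_⟩
    · rintro ⟨i, j, rfl⟩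
      exact six_table.2.2.2 i j
    · have key : ∀ i j : Fin 3, ∃ m n : Fin 3,
          r6⁻¹ * (z6 ^ (i : ℕ) * w6 ^ (j : ℕ)) * r6 = z6 ^ (m : ℕ) * w6 ^ (n : ℕ) := by
        decide +kernel
      obtain ⟨i, j, h⟩ := hy
      obtain ⟨m, n, hmn⟩ := key i j
      exact ⟨m, n, by rw [← hmn, ← h]; group⟩
  let f : Fin 3 × Fin 3 × Fin 4 → Subgroup.normalizer (S6 : Set A6) := fun x =>
    ⟨z6 ^ (x.1 : ℕ) * w6 ^ (x.2.1 : ℕ) * r6 ^ (x.2.2 : ℕ),
      mul_mem (Subgroup.le_normalizer ⟨x.1, x.2.1, rfl⟩) (pow_mem hr _)⟩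
  have hf : Function.Injective f := fun a b h => six_table.1 (congrArg Subtype.val h)
  have := Nat.card_le_card_of_injective f hf
  simpa using this

/-- A Sylow normaliser in the alternating group of degree six has order at least 36. -/
theorem card_normalizer_sylow_A6 {M : Type u} [Group M] [Finite M] (φ : M ≃* A6) (P : Sylow 3 M) :
    36 ≤ Nat.card (Subgroup.normalizer ((P : Subgroup M) : Set M)) := by
  haveI := Fact.mk Nat.prime_three
  have hM : Nat.card M = 360 := by
    rw [Nat.card_congr φ.toEquiv, nat_card_alternatingGroup, Nat.card_fin]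
    rfl
  let Q : Sylow 3 M := Sylow.ofCard (S6.comap φ.toMonoidHom) (by
    rw [Subgroup.comap_equiv_eq_map_symm', Subgroup.card_map_of_injective φ.symm.injective, card_S6,
      hM, show 360 = 3 ^ 2 * 40 by norm_num, Nat.factorization_mul (by norm_num) (by norm_num),
      Finsupp.add_apply, Nat.Prime.factorization_pow Nat.prime_three, Finsupp.single_eq_same,
      Nat.factorization_eq_zero_of_not_dvd (by norm_num : ¬ 3 ∣ 40)]
    rfl)
  have hQ : (Q : Subgroup M) = S6.comap φ.toMonoidHom := rfl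
  have hidx : (Subgroup.normalizer ((P : Subgroup M) : Set M)).index =
      (Subgroup.normalizer ((Q : Subgroup M) : Set M)).index := by
    have hP : Nat.card (Sylow 3 M) = (Subgroup.normalizer ((P : Subgroup M) : Set M)).index :=
      Sylow.card_eq_index_normalizer P
    have hQ' : Nat.card (Sylow 3 M) = (Subgroup.normalizer ((Q : Subgroup M) : Set M)).index :=
      Sylow.card_eq_index_normalizer Q
    exact hP.symm.trans hQ'
  have h1 := Subgroup.card_mul_index (Subgroup.normalizer ((P : Subgroup M) : Set M))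
  have h2 := Subgroup.card_mul_index (Subgroup.normalizer ((Q : Subgroup M) : Set M))
  rw [hidx] at h1
  rw [← h2] at h1
  rw [Nat.eq_of_mul_eq_mul_right (Nat.pos_of_ne_zero Subgroup.index_ne_zero_of_finite) h1]
  refine card_normalizer_S6.trans (Nat.card_le_card_of_injective
    (fun g : Subgroup.normalizer (S6 : Set A6) =>
      (⟨φ.symm g, Subgroup.mem_normalizer_iff.2 fun y => by
        have := Subgroup.mem_normalizer_iff.1 g.2 (φ y)
        simpa [hQ] using this⟩ : Subgroup.normalizer ((Q : Subgroup M) : Set M))) ?_)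
  intro a b h
  exact Subtype.ext (φ.symm.injective (congrArg Subtype.val h))

variable {G : Type u} [Group G] [Finite G]

/-- A strongly self-centralising Sylow subgroup of order nine, no line fixed by the automiser of
order four: it is normal or the group is the alternating group of degree six. -/
theorem normal_or_A6 (hbot : pPrimeCore 3 G = ⊥) (P : Sylow 3 G)
    (hcomm : ∀ a ∈ (P : Subgroup G), ∀ b ∈ (P : Subgroup G), a * b = b * a)
    (hexp : ∀ a ∈ (P : Subgroup G), a ^ 3 = 1) (hcard : Nat.card (P : Subgroup G) = 9)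
    (hcent : ∀ s ∈ (P : Subgroup G), s ≠ 1 → ∀ g : G, g * s = s * g → g ∈ (P : Subgroup G))
    (hN : Nat.card (Subgroup.normalizer ((P : Subgroup G) : Set G)) ≤ 36)
    (hline : ∃ f ∈ Subgroup.normalizer ((P : Subgroup G) : Set G),
      ∀ s ∈ (P : Subgroup G), s ≠ 1 → f * s * f⁻¹ ∉ Subgroup.zpowers s)
    (hclass : ∃ a ∈ (P : Subgroup G), ∃ b ∈ (P : Subgroup G), a ≠ 1 ∧ b ≠ 1 ∧
      ∀ g ∈ Subgroup.normalizer ((P : Subgroup G) : Set G), g * a * g⁻¹ ≠ b) :
    (P : Subgroup G).Normal ∨ Nonempty (G ≃* A6) := by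
  classical
  haveI := Fact.mk Nat.prime_three
  by_cases hnorm : (P : Subgroup G).Normal
  · exact Or.inl hnorm
  obtain ⟨f, hfN, hf⟩ := hline
  have hord : ∀ s ∈ (P : Subgroup G), s ≠ 1 → orderOf s = 3 := fun s hs hs1 =>
    orderOf_eq_prime (hexp s hs) hs1
  -- a normal subgroup meets `P`
  have hmeet : ∀ (M : Subgroup G) (_ : M.Normal), M ≠ ⊥ → ∃ s ∈ (P : Subgroup G), s ∈ M ∧ s ≠ 1 := by
    intro M hM hne
    by_contra hcon
    push Not at hcon
    refine hne (le_bot_iff.1 (hbot ▸ PCore.le_pPrimeCore ?_))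
    refine ((Nat.prime_three.coprime_iff_not_dvd).2 fun h3 => ?_).symm
    obtain ⟨w, hw⟩ := exists_prime_orderOf_dvd_card' 3 h3
    rw [← Subgroup.orderOf_coe] at hw
    obtain ⟨Q, hQ⟩ := (IsPGroup.of_card (p := 3) (n := 1) (G := Subgroup.zpowers (w : G))
      (by rw [Nat.card_zpowers, hw, pow_one])).exists_le_sylow
    obtain ⟨g, hg⟩ := MulAction.exists_smul_eq G Q P
    have hwP : g * (w : G) * g⁻¹ ∈ (P : Subgroup G) := by
      rw [← hg, Sylow.coe_subgroup_smul]
      exact ⟨w, hQ (Subgroup.mem_zpowers _), rfl⟩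
    have h1 := hcon _ hwP (hM.conj_mem _ w.2 g)
    rw [conj_eq_one_iff] at h1
    rw [h1, orderOf_one] at hw
    norm_num at hw
  -- a normal subgroup meeting `P` contains it
  have hPle : ∀ (M : Subgroup G) (_ : M.Normal), M ≠ ⊥ → (P : Subgroup G) ≤ M := by
    intro M hM hne
    obtain ⟨s, hsP, hsM, hs1⟩ := hmeet M hM hne
    have hfs : f * s * f⁻¹ ∈ (P : Subgroup G) := (Subgroup.mem_normalizer_iff.1 hfN s).1 hsP
    have hlt : Subgroup.zpowers s < (P : Subgroup G) ⊓ M := by
      refine lt_of_le_of_ne (Subgroup.zpowers_le.2 ⟨hsP, hsM⟩) fun h => hf s hsP hs1 ?_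
      rw [h]
      exact ⟨hfs, hM.conj_mem s hsM f⟩
    have hdvd : Nat.card ↥((P : Subgroup G) ⊓ M) ∣ 3 ^ 2 := by
      rw [show (3 : ℕ) ^ 2 = 9 by norm_num, ← hcard]
      exact Subgroup.card_dvd_of_le inf_le_left
    have h3lt : 3 < Nat.card ↥((P : Subgroup G) ⊓ M) := by
      by_contra hle
      push Not at hle
      exact hlt.ne (Subgroup.eq_of_le_of_card_ge hlt.le (by
        rw [Nat.card_zpowers, hord s hsP hs1]; exact hle))
    obtain ⟨j, hj, hjeq⟩ := (Nat.dvd_prime_pow Nat.prime_three).1 hdvd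
    have : (P : Subgroup G) ⊓ M = P := Subgroup.eq_of_le_of_card_ge inf_le_left (by
      rw [hcard]
      interval_cases j <;> omega)
    exact this.ge.trans inf_le_right
  set M := Subgroup.normalClosure ((P : Subgroup G) : Set G) with hMdef
  have hPM : (P : Subgroup G) ≤ M := Subgroup.le_normalClosure
  obtain ⟨a, haP, b, hbP, ha1, hb1, hab⟩ := hclass
  -- `M` is simple
  have hsimple : IsSimpleGroup M := by
    haveI : Nontrivial M := ⟨⟨⟨a, hPM haP⟩, 1, fun h => ha1 (congrArg Subtype.val h)⟩⟩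
    refine ⟨fun K hK => or_iff_not_imp_left.2 fun hK1 => ?_⟩
    set K' := K.map M.subtype with hK'
    have hK'ne : K' ≠ ⊥ := fun h =>
      hK1 ((Subgroup.map_eq_bot_iff_of_injective _ M.subtype_injective).1 h)
    have hMcore : pPrimeCore 3 M = ⊥ := PCore.pPrimeCore_eq_bot_of_normal M hbot
    have hK'M : K' ≤ M := Subgroup.map_subtype_le K
    have hconjM : ∀ m ∈ M, ∀ k ∈ K', m * k * m⁻¹ ∈ K' := by
      rintro m hm - ⟨k, hk, rfl⟩
      exact ⟨⟨m, hm⟩ * k * ⟨m, hm⟩⁻¹, hK.conj_mem k hk _, rfl⟩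
    -- normal subgroups of `M` meet `P`
    have hmeetM : ∀ L : Subgroup M, L.Normal → L ≠ ⊥ →
        ∃ s ∈ (P : Subgroup G), s ≠ 1 ∧ s ∈ L.map M.subtype := by
      intro L hL hLne
      by_contra hcon
      push Not at hcon
      refine hLne (le_bot_iff.1 (hMcore ▸ PCore.le_pPrimeCore ?_))
      refine ((Nat.prime_three.coprime_iff_not_dvd).2 fun h3 => ?_).symm
      obtain ⟨w, hw⟩ := exists_prime_orderOf_dvd_card' 3 h3
      obtain ⟨Q, hQ⟩ := (IsPGroup.of_card (p := 3) (n := 1) (G := Subgroup.zpowers (w : M))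
        (by rw [Nat.card_zpowers, Subgroup.orderOf_coe, hw, pow_one])).exists_le_sylow
      obtain ⟨g, hg⟩ := MulAction.exists_smul_eq M Q (P.subtype hPM)
      have hwP : g * (w : M) * g⁻¹ ∈ ((P.subtype hPM : Sylow 3 M) : Subgroup M) := by
        rw [← hg, Sylow.coe_subgroup_smul]
        exact ⟨w, hQ (Subgroup.mem_zpowers _), rfl⟩
      rw [Sylow.coe_subtype, Subgroup.mem_subgroupOf] at hwP
      have hw1 : ((g * (w : M) * g⁻¹ : M) : G) ≠ 1 := fun h => by
        have h' : (w : M) = 1 := conj_eq_one_iff.1 (Subtype.ext h)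
        have : w = 1 := Subtype.ext h'
        rw [this, orderOf_one] at hw
        norm_num at hw
      exact hcon _ hwP hw1 ⟨_, hL.conj_mem _ w.2 g, rfl⟩
    obtain ⟨s, hsP, hs1, hsK⟩ := hmeetM K hK hK1
    by_cases hPK : (P : Subgroup G) ≤ K'
    · -- `K` contains `P`, so the conjugates of `P` lie in it
      rw [eq_top_iff]
      intro m _
      have hMK : M ≤ K' := by
        rw [hMdef, Subgroup.normalClosure, Subgroup.closure_le]
        intro x hx
        obtain ⟨y, hy, hyx⟩ := Group.mem_conjugatesOfSet_iff.1 hx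
        obtain ⟨g, rfl⟩ := isConj_iff.1 hyx
        haveI : M.Normal := Subgroup.normalClosure_normal
        have hfr : Subgroup.normalizer ((P : Subgroup G) : Set G) ⊔ M = ⊤ :=
          Sylow.normalizer_sup_eq_top' P hPM
        have hg : g ∈ M ⊔ Subgroup.normalizer ((P : Subgroup G) : Set G) := by
          rw [sup_comm, hfr]; exact Subgroup.mem_top g
        obtain ⟨m, hm, n, hn, rfl⟩ := Subgroup.mem_sup_of_normal_left.1 hg
        rw [show m * n * y * (m * n)⁻¹ = m * (n * y * n⁻¹) * m⁻¹ by group]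
        exact hconjM m hm _ (hPK ((Subgroup.mem_normalizer_iff.1 hn y).1 hy))
      obtain ⟨k, hk, hkm⟩ := hMK m.2
      rwa [← Subtype.ext (show (k : G) = (m : G) from hkm)]
    exfalso
    -- `K` and its conjugate by `f` centralise each other
    have hfsP : f * s * f⁻¹ ∈ (P : Subgroup G) := (Subgroup.mem_normalizer_iff.1 hfN s).1 hsP
    set Kf := K'.map (MulAut.conj f).toMonoidHom with hKf
    have hKfM : Kf ≤ M := by
      rintro - ⟨k, hk, rfl⟩
      exact (Subgroup.normalClosure_normal : M.Normal).conj_mem k (hK'M hk) f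
    have hconjKf : ∀ m ∈ M, ∀ k ∈ Kf, m * k * m⁻¹ ∈ Kf := by
      rintro m hm - ⟨k, hk, rfl⟩
      have hm' : f⁻¹ * m * f ∈ M := by
        have := (Subgroup.normalClosure_normal : M.Normal).conj_mem m hm f⁻¹
        rwa [inv_inv] at this
      refine ⟨f⁻¹ * m * f * k * (f⁻¹ * m * f)⁻¹, hconjM _ hm' k hk, ?_⟩
      show f * (f⁻¹ * m * f * k * (f⁻¹ * m * f)⁻¹) * f⁻¹ = m * (f * k * f⁻¹) * m⁻¹
      group
    have hline' : ∀ L : Subgroup G, s ∈ L → (∀ y ∈ (P : Subgroup G), y ∈ L → y ∈ Subgroup.zpowers s) ∨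
        (P : Subgroup G) ≤ L := by
      intro L hsL
      by_contra hcon
      simp only [not_or] at hcon
      obtain ⟨h1, h2⟩ := hcon
      push Not at h1
      obtain ⟨y, hyP, hyL, hys⟩ := h1
      have hlt : Subgroup.zpowers s < (P : Subgroup G) ⊓ L :=
        lt_of_le_of_ne (Subgroup.zpowers_le.2 ⟨hsP, hsL⟩) fun h => hys (h ▸ ⟨hyP, hyL⟩)
      obtain ⟨j, hj, hjeq⟩ := (Nat.dvd_prime_pow Nat.prime_three).1
        (show Nat.card ↥((P : Subgroup G) ⊓ L) ∣ 3 ^ 2 by
          rw [show (3 : ℕ) ^ 2 = 9 by norm_num, ← hcard]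
          exact Subgroup.card_dvd_of_le inf_le_left)
      have h3lt : 3 < Nat.card ↥((P : Subgroup G) ⊓ L) := by
        by_contra hle
        push Not at hle
        exact hlt.ne (Subgroup.eq_of_le_of_card_ge hlt.le (by
          rw [Nat.card_zpowers, hord s hsP hs1]; exact hle))
      refine h2 (le_trans (Subgroup.eq_of_le_of_card_ge inf_le_left ?_).ge inf_le_right)
      rw [hcard]
      interval_cases j <;> omega
    have hdisj : ∀ x ∈ K', x ∈ Kf → x = 1 := by
      haveI : ((K' ⊓ Kf).subgroupOf M).Normal := ⟨fun x hx m =>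
        ⟨hconjM m m.2 x hx.1, hconjKf m m.2 x hx.2⟩⟩
      by_contra hcon
      push Not at hcon
      obtain ⟨x, hx, hxf, hx1⟩ := hcon
      obtain ⟨y, hyP, hy1, hyL⟩ := hmeetM ((K' ⊓ Kf).subgroupOf M) inferInstance (fun h => hx1 (by
        have : (⟨x, hK'M hx⟩ : M) ∈ (K' ⊓ Kf).subgroupOf M := ⟨hx, hxf⟩
        rw [h, Subgroup.mem_bot] at this
        exact congrArg Subtype.val this))
      obtain ⟨y', ⟨hy1', hy2'⟩, rfl⟩ := hyL
      have hys := ((hline' K' hsK).resolve_right hPK) _ hyP hy1'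
      have hsy : s ∈ Subgroup.zpowers (y' : G) := by
        have : Subgroup.zpowers (y' : G) = Subgroup.zpowers s :=
          Subgroup.eq_of_le_of_card_ge (Subgroup.zpowers_le.2 hys) (by
            rw [Nat.card_zpowers, Nat.card_zpowers, hord s hsP hs1]
            exact (hord _ hyP hy1).ge)
        rw [this]
        exact Subgroup.mem_zpowers s
      have hsKf : s ∈ Kf := Subgroup.zpowers_le.2 hy2' hsy
      obtain ⟨k, hk, hks⟩ := hsKf
      have hks' : f * k * f⁻¹ = s := hks
      have hkP : k ∈ (P : Subgroup G) := (Subgroup.mem_normalizer_iff.1 hfN k).2 (hks' ▸ hsP)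
      obtain ⟨n, hn⟩ := Subgroup.mem_zpowers_iff.1 (((hline' K' hsK).resolve_right hPK) k hkP hk)
      refine hf k hkP (fun h => hs1 (by rw [← hks', h, mul_one, mul_inv_cancel])) ?_
      rw [hks']
      have hk1 : k ≠ 1 := fun h => hs1 (by rw [← hks', h, mul_one, mul_inv_cancel])
      have : Subgroup.zpowers k = Subgroup.zpowers s :=
        Subgroup.eq_of_le_of_card_ge (Subgroup.zpowers_le.2 ⟨n, hn⟩) (by
          rw [Nat.card_zpowers, Nat.card_zpowers, hord s hsP hs1, hord k hkP hk1])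
      rw [this]
      exact Subgroup.mem_zpowers s
    have hfsKf : f * s * f⁻¹ ∈ Kf := ⟨s, hsK, rfl⟩
    have hfs1 : f * s * f⁻¹ ≠ 1 := fun h => hs1 (conj_eq_one_iff.1 h)
    have hKP : K' ≤ (P : Subgroup G) := by
      intro k hk
      refine hcent _ hfsP hfs1 k ?_
      have hc : k * (f * s * f⁻¹) * k⁻¹ * (f * s * f⁻¹)⁻¹ = 1 := by
        refine hdisj _ ?_ (mul_mem (hconjKf k (hK'M hk) _ hfsKf) (inv_mem hfsKf))
        have h' := hconjM _ (hKfM hfsKf) _ (inv_mem hk)
        have := mul_mem hk h'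
        convert this using 1
        group
      rw [mul_inv_eq_one, mul_inv_eq_iff_eq_mul] at hc
      exact hc
    have hKfP : Kf ≤ (P : Subgroup G) := by
      rintro - ⟨k, hk, rfl⟩
      exact (Subgroup.mem_normalizer_iff.1 hfN k).1 (hKP hk)
    -- hence `P` is normal in `M`
    refine hnorm ?_
    have hnot : f * s * f⁻¹ ∉ K' := fun h =>
      hf s hsP hs1 (((hline' K' hsK).resolve_right hPK) _ hfsP h)
    have hsup : K' ⊔ Kf = (P : Subgroup G) := by
      refine Subgroup.eq_of_le_of_card_ge (sup_le hKP hKfP) ?_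
      rcases hline' (K' ⊔ Kf) (Subgroup.mem_sup_left hsK) with h | h
      · exact absurd (Subgroup.zpowers_le.2 hsK (h _ hfsP (Subgroup.mem_sup_right hfsKf))) hnot
      · exact Subgroup.card_le_of_le h
    haveI hMn : M.Normal := Subgroup.normalClosure_normal
    have hnormM : M ≤ Subgroup.normalizer ((P : Subgroup G) : Set G) := by
      intro m hm
      rw [← hsup, Subgroup.mem_normalizer_iff]
      have key : ∀ m ∈ M, ∀ y ∈ K' ⊔ Kf, m * y * m⁻¹ ∈ K' ⊔ Kf := by
        intro m hm y hy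
        have hle : (K' ⊔ Kf).map (MulAut.conj m).toMonoidHom ≤ K' ⊔ Kf := by
          rw [Subgroup.map_sup]
          refine sup_le_sup ?_ ?_
          · rintro - ⟨k, hk, rfl⟩; exact hconjM m hm k hk
          · rintro - ⟨k, hk, rfl⟩; exact hconjKf m hm k hk
        exact hle ⟨y, hy, rfl⟩
      refine fun y => ⟨key m hm y, fun hy => ?_⟩
      have := key m⁻¹ (inv_mem hm) _ hy
      rwa [show m⁻¹ * (m * y * m⁻¹) * m⁻¹⁻¹ = y by group] at this
    rw [← Subgroup.normalizer_eq_top_iff]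
    refine top_le_iff.1 ?_
    calc (⊤ : Subgroup G) = Subgroup.normalizer ((P : Subgroup G) : Set G) ⊔ M :=
          (Sylow.normalizer_sup_eq_top' P hPM).symm
      _ ≤ _ := sup_le le_rfl hnormM
  haveI := hsimple
  obtain ⟨φ⟩ := S3341.result (P.subtype hPM) ((P : Subgroup G).subgroupOf M)
    (Sylow.coe_subtype P hPM).symm ⟨⟨fun x y => Subtype.ext (Subtype.ext (hcomm _ x.2 _ y.2))⟩⟩
    (fun x hx => Subtype.ext (hexp _ hx))
    (by rw [Nat.card_congr (Subgroup.subgroupOfEquivOfLe hPM).toEquiv, hcard])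
    ⟨⟨a, hPM haP⟩, ⟨b, hPM hbP⟩, by rw [Subgroup.orderOf_mk]; exact hord a haP ha1,
      by rw [Subgroup.orderOf_mk]; exact hord b hbP hb1, fun g hg => by
      have hg' : (g : G) * a * (g : G)⁻¹ = b := congrArg Subtype.val hg
      obtain ⟨n, hn, hnb⟩ := Sylow.conj_eq_normalizer_conj_of_mem_centralizer P a (g : G)⁻¹
        (Subgroup.mem_centralizer_iff.2 fun y hy => hcomm y hy a haP)
        (by
          rw [inv_inv, hg']
          exact Subgroup.mem_centralizer_iff.2 fun y hy => hcomm y hy b hbP)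
      refine hab n⁻¹ (inv_mem hn) ?_
      rw [inv_inv, hg'] at hnb
      rw [inv_inv, ← hnb]⟩
    (fun x hx hx1 => by
      refine le_antisymm (fun g hg => ?_) (fun g hg => ?_)
      · exact hcent _ hx (fun h => hx1 (Subtype.ext h)) g
          (congrArg Subtype.val (Subgroup.mem_centralizer_singleton_iff.1 hg))
      · exact Subgroup.mem_centralizer_singleton_iff.2 (Subtype.ext (hcomm _ hg _ hx)))
  refine Or.inr ?_
  haveI hMn : M.Normal := Subgroup.normalClosure_normal
  have h36 := card_normalizer_sylow_A6 φ (P.subtype hPM)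
  have hNM : Subgroup.normalizer ((P : Subgroup G) : Set G) ≤ M := by
    set NM := (Subgroup.normalizer (((P.subtype hPM : Sylow 3 M) : Subgroup M) : Set M)).map
      M.subtype with hNMdef
    have hle : NM ≤ Subgroup.normalizer ((P : Subgroup G) : Set G) := by
      rintro - ⟨g, hg, rfl⟩
      refine Subgroup.mem_normalizer_iff.2 fun y => ⟨fun hy => ?_, fun hy => ?_⟩
      · exact (Subgroup.mem_normalizer_iff.1 hg ⟨y, hPM hy⟩).1 hy
      · have hyM : y ∈ M := by
          have := mul_mem (mul_mem (inv_mem g.2) (hPM hy)) g.2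
          simpa [mul_assoc] using this
        exact (Subgroup.mem_normalizer_iff.1 hg ⟨y, hyM⟩).2 hy
    have heq := Subgroup.eq_of_le_of_card_ge hle (by
      rw [Subgroup.card_map_of_injective M.subtype_injective]
      exact hN.trans h36)
    rw [← heq, hNMdef]
    exact Subgroup.map_subtype_le _
  have htop : M = ⊤ := top_le_iff.1 (by
    calc (⊤ : Subgroup G) = Subgroup.normalizer ((P : Subgroup G) : Set G) ⊔ M :=
          (Sylow.normalizer_sup_eq_top' P hPM).symm
      _ ≤ M := sup_le hNM le_rfl)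
  exact ⟨(Subgroup.topEquiv.symm.trans (MulEquiv.subgroupCongr htop.symm)).trans φ⟩

end Cfsg.Agent.NineRecog
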