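import Cfsg.Agent.Lib.NineRecog.CentPair
import Cfsg.Agent.Lib.NineRecog.SelfNineCentral
import Cfsg.Agent.Lib.Transfer.Central

/-!
# The centraliser of an element of the class of `u1`
-/

set_option autoImplicit false

namespace Cfsg.Agent.NineRecog

open Cfsg Cfsg.Agent.Exceptional.Nine

universe u

theorem cent_u1_facts : (∀ g : W, g * u1 = u1 * g → isT (g * g * g * g) = true) ∧
    (Finset.univ.filter fun g : W => g * u1 = u1 * g).card = 108 ∧
    (∀ g : W, g * u1 = u1 * g → ∀ i : ZMod 3,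
      g * trV (0, 1, 0) * g⁻¹ ≠ trV (0, 1, 1) * u1 ^ i.val) := by
  decide +kernel

theorem cent_u1_fix : ∀ g : W, g * u1 = u1 * g → isT g = false → ∀ t : V,
    ¬ (t.2.1 = 0 ∧ t.2.2 = 0) → ∀ i : ZMod 3, g * trV t * g⁻¹ ≠ trV t * u1 ^ i.val := by
  decide +kernel

theorem cent_u1_mover : ∃ f : W, f * u1 = u1 * f ∧ ∀ t : V, ¬ (t.2.1 = 0 ∧ t.2.2 = 0) →
    ∀ i j : ZMod 3, f * trV t * f⁻¹ ≠ trV t ^ j.val * u1 ^ i.val := by
  refine ⟨⟨0, 0, 0, false, true, .sr 0⟩, ?_, ?_⟩ <;> decide +kernel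

theorem trV_u1 : ∀ t : V, (t.2.1 = 0 ∧ t.2.2 = 0) → trV t = u1 ^ t.1.val := by decide +kernel

theorem trV_ne_u1 : (∀ i : ZMod 3, trV (0, 1, 0) ≠ u1 ^ i.val) ∧
    (∀ i : ZMod 3, trV (0, 1, 1) ≠ u1 ^ i.val) := by
  decide +kernel

variable {G : Type u} [Group G] [Finite G]

namespace Cfg

variable (c : Cfg G)

theorem three_elements_u1 {w : W} (hw : c.ι w ∈ Subgroup.centralizer ({c.ι u1} : Set G))
    (h : ∃ k : ℕ, w ^ 3 ^ k = 1) : w ∈ T := by
  obtain ⟨k, hk⟩ := h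
  have h4 : w ^ 4 ∈ T := by
    rw [show w ^ 4 = w * w * w * w by simp [pow_succ]]
    exact mem_T_iff_isT.2 (cent_u1_facts.1 w (c.mem_centralizer_iff.1 hw))
  obtain ⟨m, hm⟩ : ∃ m, 3 ^ k = 4 * m + 1 ∨ 3 ^ k = 4 * m + 3 := ⟨3 ^ k / 4, by
    have : 3 ^ k % 2 = 1 := by rw [Nat.pow_mod]; simp
    omega⟩
  have hw1 : w ^ (3 ^ k + 1) = w := by rw [pow_succ, hk, one_mul]
  rcases hm with hm | hm
  · rw [hm, pow_succ, pow_mul] at hk
    rw [eq_inv_of_mul_eq_one_right hk]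
    exact inv_mem (pow_mem h4 m)
  · rw [hm, show 4 * m + 3 + 1 = 4 * (m + 1) by ring, pow_mul] at hw1
    rw [← hw1]
    exact pow_mem h4 _

theorem u1_mem_J : c.ι u1 ∈ c.J := c.mem_J.2 (tr_mem_T 1 0 0)

/-- Either the centraliser of `u1` normalises `J`, or it has a section of type `Alt 6`. -/
theorem centralizer_u1_cases :
    Subgroup.centralizer ({c.ι u1} : Set G) ≤ c.ι.range ∨
    ∃ ψ : A6 →* G, Function.Injective ψ ∧ (∀ g, ψ g * c.ι u1 = c.ι u1 * ψ g) ∧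
      c.ι u1 ∉ ψ.range ∧
      ∀ x : G, x * c.ι u1 = c.ι u1 * x → ∃ i : ℕ, ∃ g : A6, x = c.ι u1 ^ i * ψ g := by
  classical
  haveI := Fact.mk Nat.prime_three
  set C := Subgroup.centralizer ({c.ι u1} : Set G) with hC
  have hu1 := c.u1_mem_J
  have hJC : c.J ≤ C := c.J_le_centralizer hu1
  obtain ⟨Q, hQ⟩ := c.exists_sylow_J (C := C) (fun w => c.three_elements_u1) hJC
  let z : C := ⟨c.ι u1, hJC hu1⟩
  set Z := Subgroup.zpowers z with hZ
  have hzc : z ∈ Subgroup.center C := Subgroup.mem_center_iff.2 fun x =>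
    Subtype.ext (Subgroup.mem_centralizer_singleton_iff.1 x.2)
  haveI hZn : Z.Normal := ⟨fun n hn g => by
    have : n ∈ Subgroup.center C := (Subgroup.zpowers_le.2 hzc) hn
    rwa [Subgroup.mem_center_iff.1 this g, mul_inv_cancel_right]⟩
  have hz3 : orderOf z = 3 := by
    rw [← Subgroup.orderOf_coe]
    show orderOf (c.ι u1) = 3
    rw [orderOf_injective _ c.inj]
    exact orderOf_eq_prime (T_cube (tr_mem_T 1 0 0)) (by decide +kernel)
  have hcardZ : Nat.card Z = 3 := by rw [hZ, Nat.card_zpowers, hz3]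
  set f := QuotientGroup.mk' Z with hf
  let P' : Sylow 3 (C ⧸ Z) := Q.mapSurjective (QuotientGroup.mk'_surjective Z)
  have hP' : (P' : Subgroup (C ⧸ Z)) = (c.J.subgroupOf C).map f := by
    simp only [P', Sylow.coe_mapSurjective, hQ]
    rfl
  have hfib : ∀ x y : C, f x = f y → ∃ i : ZMod 3, (x : G) = (y : G) * c.ι (u1 ^ i.val) := by
    intro x y hxy
    obtain ⟨k, hk⟩ := Subgroup.mem_zpowers_iff.1 (QuotientGroup.eq.1 hxy.symm)
    refine ⟨(k : ZMod 3), ?_⟩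
    have h' := congrArg Subtype.val hk
    simp only [Subgroup.coe_mul, SubgroupClass.coe_zpow, Subgroup.coe_inv] at h'
    have hval : (c.ι u1) ^ k = c.ι (u1 ^ ((k : ZMod 3)).val) := by
      rw [map_pow, ← zpow_natCast, ZMod.val_intCast]
      conv_lhs => rw [← Int.emod_add_mul_ediv k 3]
      rw [zpow_add, zpow_mul, show (3 : ℤ) = ((3 : ℕ) : ℤ) from rfl, zpow_natCast,
        c.J_cube hu1, one_zpow, mul_one]
    rw [← hval, show c.ι u1 ^ k = (y : G)⁻¹ * (x : G) from h', mul_inv_cancel_left]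
  have hmemJ : ∀ x : C, f x ∈ (P' : Subgroup (C ⧸ Z)) → (x : G) ∈ c.J := by
    intro x hx
    rw [hP'] at hx
    obtain ⟨y, hy, hyx⟩ := hx
    obtain ⟨i, hi⟩ := hfib x y hyx.symm
    rw [hi]
    exact mul_mem hy (c.mem_J.2 (pow_mem (tr_mem_T 1 0 0) _))
  have hlift : ∀ y ∈ (P' : Subgroup (C ⧸ Z)), ∃ t : V, ∃ h : c.ι (trV t) ∈ C,
      y = f ⟨c.ι (trV t), h⟩ := by
    intro y hy
    rw [hP'] at hy
    obtain ⟨x, hx, rfl⟩ := hy
    obtain ⟨v, hv, hvx⟩ := hx
    have hx' : c.ι (trV (v.t0, v.t1, v.t2)) = (x : G) := by rw [trV_eta hv]; exact hvx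
    exact ⟨(v.t0, v.t1, v.t2), hx'.symm ▸ x.2, congrArg f (Subtype.ext hx'.symm)⟩
  have hnorm : ∀ g : C, f g ∈ Subgroup.normalizer ((P' : Subgroup (C ⧸ Z)) : Set (C ⧸ Z)) →
      ∃ w : W, c.ι w = g ∧ w * u1 = u1 * w := by
    intro g hg
    have hgN : (g : G) ∈ Subgroup.normalizer (c.J : Set G) := by
      refine Subgroup.mem_normalizer_iff.2 fun y => ⟨fun hy => ?_, fun hy => ?_⟩
      · have h1 : f ⟨y, hJC hy⟩ ∈ (P' : Subgroup (C ⧸ Z)) := hP' ▸ ⟨_, hy, rfl⟩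
        have h2 := (Subgroup.mem_normalizer_iff.1 hg _).1 h1
        rw [← map_inv, ← map_mul, ← map_mul] at h2
        exact hmemJ _ h2
      · have hyC : y ∈ C := by
          have := mul_mem (mul_mem (inv_mem g.2) (hJC hy)) g.2
          simpa [mul_assoc] using this
        refine hmemJ ⟨y, hyC⟩ ((Subgroup.mem_normalizer_iff.1 hg _).2 ?_)
        rw [← map_inv, ← map_mul, ← map_mul, hP']
        exact ⟨_, hy, rfl⟩
    rw [c.norm_J] at hgN
    obtain ⟨w, hw⟩ := hgN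
    exact ⟨w, hw, c.mem_centralizer_iff.1 (hw ▸ g.2)⟩
  have hwnorm : ∀ w : W, (hw : w * u1 = u1 * w) →
      f ⟨c.ι w, c.mem_centralizer_iff.2 hw⟩ ∈
        Subgroup.normalizer ((P' : Subgroup (C ⧸ Z)) : Set (C ⧸ Z)) := by
    intro w hw
    set g : C := ⟨c.ι w, c.mem_centralizer_iff.2 hw⟩
    have hgJ : c.ι w ∈ Subgroup.normalizer (c.J : Set G) := c.norm_J.symm ▸ ⟨w, rfl⟩
    refine Subgroup.mem_normalizer_iff.2 fun y => ?_
    obtain ⟨y, rfl⟩ := QuotientGroup.mk'_surjective Z y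
    rw [← map_inv, ← map_mul, ← map_mul]
    refine ⟨fun hy => ?_, fun hy => ?_⟩
    · exact hP' ▸ ⟨_, (Subgroup.mem_normalizer_iff.1 hgJ _).1 (hmemJ y hy), rfl⟩
    · exact hP' ▸ ⟨y, (Subgroup.mem_normalizer_iff.1 hgJ _).2 (hmemJ _ hy), rfl⟩
  have hcard : Nat.card (P' : Subgroup (C ⧸ Z)) = 9 := by
    have hle : Z ≤ c.J.subgroupOf C := Subgroup.zpowers_le.2 hu1
    have h1 := Subgroup.relIndex_ker (c.J.subgroupOf C) f
    rw [hf, QuotientGroup.ker_mk'] at h1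
    have h2 := Subgroup.relIndex_mul_relIndex _ _ _ (bot_le : ⊥ ≤ Z) hle
    rw [Subgroup.relIndex_bot_left, Subgroup.relIndex_bot_left, hcardZ,
      Nat.card_congr (Subgroup.subgroupOfEquivOfLe hJC).toEquiv, c.card_J] at h2
    rw [hP', hf, ← h1]
    omega
  have hcommP : ∀ a ∈ (P' : Subgroup (C ⧸ Z)), ∀ b ∈ (P' : Subgroup (C ⧸ Z)), a * b = b * a := by
    intro a ha b hb
    obtain ⟨s, hs, rfl⟩ := hlift a ha
    obtain ⟨t, ht, rfl⟩ := hlift b hb
    rw [← map_mul, ← map_mul]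
    exact congrArg f (Subtype.ext (c.J_comm (c.mem_J.2 (trV_mem s)) (c.mem_J.2 (trV_mem t))))
  have hexp : ∀ y ∈ (P' : Subgroup (C ⧸ Z)), y ^ 3 = 1 := by
    intro y hy
    obtain ⟨t, ht, rfl⟩ := hlift y hy
    rw [← map_pow, show (⟨c.ι (trV t), ht⟩ : C) ^ 3 = 1 from
      Subtype.ext (by simp [← map_pow, trV_cube]), map_one]
  have hne : ∀ (t : V) (h : c.ι (trV t) ∈ C), f ⟨c.ι (trV t), h⟩ ≠ 1 →
      ¬ (t.2.1 = 0 ∧ t.2.2 = 0) := by
    intro t h hne ht
    refine hne ((QuotientGroup.eq_one_iff _).2 ?_)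
    have : (⟨c.ι (trV t), h⟩ : C) = z ^ t.1.val := Subtype.ext (by
      rw [SubgroupClass.coe_pow]
      show c.ι (trV t) = c.ι u1 ^ t.1.val
      rw [trV_u1 t ht, map_pow])
    rw [this]
    exact pow_mem (Subgroup.mem_zpowers z) _
  have hcent : ∀ s ∈ (P' : Subgroup (C ⧸ Z)), s ≠ 1 → ∀ g : C ⧸ Z, g * s = s * g →
      g ∈ (P' : Subgroup (C ⧸ Z)) := by
    intro s hs hs1 g hg
    obtain ⟨t, ht, rfl⟩ := hlift s hs
    obtain ⟨g, rfl⟩ := QuotientGroup.mk'_surjective Z g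
    obtain ⟨i, hi⟩ := hfib (g * ⟨c.ι (trV t), ht⟩ * g⁻¹) ⟨c.ι (trV t), ht⟩ (by
      rw [map_mul, map_mul, map_inv, hg, mul_inv_cancel_right])
    have hgu : (g : G) * c.ι u1 = c.ι u1 * (g : G) := Subgroup.mem_centralizer_singleton_iff.1 g.2
    have hi' : (g : G) * c.ι (trV t) * (g : G)⁻¹ = c.ι (trV t * u1 ^ i.val) := by
      rw [map_mul]
      simpa using hi
    obtain ⟨k, hk, hkg⟩ := c.exists_control (g := (g : G)) (s := {c.ι u1, c.ι (trV t)})
      (by
        rintro x (rfl | rfl)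
        · exact hu1
        · exact c.mem_J.2 (trV_mem t))
      (by
        rintro x (rfl | rfl)
        · rw [hgu, mul_inv_cancel_right]; exact hu1
        · rw [hi']; exact c.mem_J.2 (mul_mem (trV_mem t) (pow_mem (tr_mem_T 1 0 0) _)))
    have hk1 : k * c.ι u1 = c.ι u1 * k := by
      have := hk _ (Or.inl rfl)
      rwa [hgu, mul_inv_cancel_right] at this
    have hk2 : k * c.ι (trV t) = c.ι (trV t) * k := by
      have h2 := hk _ (Or.inr rfl)
      rw [hi', map_mul, map_pow] at h2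
      have hcu : Commute k (c.ι u1 ^ i.val) := Commute.pow_right hk1 _
      calc k * c.ι (trV t)
          = k * (c.ι (trV t) * c.ι u1 ^ i.val) * (c.ι u1 ^ i.val)⁻¹ := by group
        _ = c.ι (trV t) * (c.ι u1 ^ i.val * k) * (c.ι u1 ^ i.val)⁻¹ := by rw [h2]; group
        _ = c.ι (trV t) * k := by rw [← hcu.eq]; group
    have hkr : k ∈ c.ι.range := c.mem_range_of_pair (hne t ht hs1) hk1 hk2
    have hgr : (g : G) ∈ c.ι.range := by
      have := mul_mem (inv_mem hkr) hkg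
      rwa [inv_mul_cancel_left] at this
    obtain ⟨w, hw⟩ := hgr
    have hw1 : w * u1 = u1 * w := c.mem_centralizer_iff.1 (hw ▸ g.2)
    have hwt : w * trV t * w⁻¹ = trV t * u1 ^ i.val := c.inj (by
      rw [← hi', map_mul, map_mul, map_inv, hw])
    have hwT : isT w = true := by
      by_contra h'
      exact cent_u1_fix w hw1 (by simpa using h') t (hne t ht hs1) i hwt
    have hgJ : (g : G) ∈ c.J := hw ▸ c.mem_J.2 (mem_T_iff_isT.2 hwT)
    exact hP' ▸ ⟨g, hgJ, rfl⟩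
  have hN36 : Nat.card (Subgroup.normalizer ((P' : Subgroup (C ⧸ Z)) : Set (C ⧸ Z))) ≤ 36 := by
    set N := Subgroup.normalizer ((P' : Subgroup (C ⧸ Z)) : Set (C ⧸ Z)) with hN
    have hle : Z ≤ N.comap f := fun x hx => by
      rw [Subgroup.mem_comap, show f x = 1 from (QuotientGroup.eq_one_iff x).2 hx]
      exact one_mem _
    have h1 : Nat.card (N.comap f) ≤ 108 := by
      rw [← cent_u1_facts.2.1, ← Nat.card_eq_finsetCard]
      choose F hF hF1 using fun x : N.comap f => hnorm x.1 x.2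
      refine Nat.card_le_card_of_injective
        (fun x => (⟨F x, Finset.mem_filter.2 ⟨Finset.mem_univ _, hF1 x⟩⟩ :
          {g : W // g ∈ Finset.univ.filter fun g : W => g * u1 = u1 * g})) fun x y h => ?_
      have h' : F x = F y := congrArg Subtype.val h
      exact Subtype.ext (Subtype.ext (by rw [← hF x, ← hF y, h']))
    have h2 := Subgroup.relIndex_mul_relIndex _ _ _ (bot_le : ⊥ ≤ Z) hle
    have h3 := Subgroup.relIndex_ker (N.comap f) f
    rw [Subgroup.map_comap_eq_self_of_surjective (QuotientGroup.mk'_surjective Z) N, hf,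
      QuotientGroup.ker_mk'] at h3
    rw [hf] at h1 h2
    rw [Subgroup.relIndex_bot_left, Subgroup.relIndex_bot_left, hcardZ, h3] at h2
    omega
  have hline : ∃ g ∈ Subgroup.normalizer ((P' : Subgroup (C ⧸ Z)) : Set (C ⧸ Z)),
      ∀ s ∈ (P' : Subgroup (C ⧸ Z)), s ≠ 1 → g * s * g⁻¹ ∉ Subgroup.zpowers s := by
    obtain ⟨w, hw, hmov⟩ := cent_u1_mover
    refine ⟨_, hwnorm w hw, fun s hs hs1 hmem => ?_⟩
    obtain ⟨t, ht, rfl⟩ := hlift s hs
    have hs3 : orderOf (f (⟨c.ι (trV t), ht⟩ : C)) = 3 := orderOf_eq_prime (hexp _ hs) hs1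
    obtain ⟨j, hj, hjeq⟩ := Finset.mem_image.1 (mem_zpowers_iff_mem_range_orderOf.1 hmem)
    rw [hs3, Finset.mem_range] at hj
    rw [← map_inv, ← map_mul, ← map_mul, ← map_pow] at hjeq
    obtain ⟨i, hi⟩ := hfib _ _ hjeq.symm
    refine hmov t (hne t ht hs1) i (j : ZMod 3) (c.inj ?_)
    rw [map_mul, map_mul, map_inv, map_mul c.ι (trV t ^ _), map_pow c.ι (trV t), ZMod.val_natCast,
      Nat.mod_eq_of_lt hj]
    simpa using hi
  have hclass : ∃ a ∈ (P' : Subgroup (C ⧸ Z)), ∃ b ∈ (P' : Subgroup (C ⧸ Z)), a ≠ 1 ∧ b ≠ 1 ∧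
      ∀ g ∈ Subgroup.normalizer ((P' : Subgroup (C ⧸ Z)) : Set (C ⧸ Z)), g * a * g⁻¹ ≠ b := by
    have hmem : ∀ t : V, c.ι (trV t) ∈ C := fun t => hJC (c.mem_J.2 (trV_mem t))
    have hne1 : ∀ t : V, (∀ i : ZMod 3, trV t ≠ u1 ^ i.val) →
        f ⟨c.ι (trV t), hmem t⟩ ≠ 1 := by
      intro t hti h
      obtain ⟨i, hi⟩ := hfib _ 1 (by rw [h, map_one])
      rw [Subgroup.coe_one, one_mul] at hi
      exact hti i (c.inj hi)
    refine ⟨f ⟨c.ι (trV (0, 1, 0)), hmem _⟩, hP' ▸ ⟨_, c.mem_J.2 (trV_mem _), rfl⟩,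
      f ⟨c.ι (trV (0, 1, 1)), hmem _⟩, hP' ▸ ⟨_, c.mem_J.2 (trV_mem _), rfl⟩,
      hne1 _ trV_ne_u1.1, hne1 _ trV_ne_u1.2, fun g hg h => ?_⟩
    obtain ⟨g, rfl⟩ := QuotientGroup.mk'_surjective Z g
    obtain ⟨w, hw, hw1⟩ := hnorm g hg
    rw [← map_inv, ← map_mul, ← map_mul] at h
    obtain ⟨i, hi⟩ := hfib _ _ h
    refine cent_u1_facts.2.2 w hw1 i (c.inj ?_)
    rw [map_mul, map_mul, map_inv, map_mul, hw]
    simpa using hi
  have hZ3 : IsPGroup 3 Z := IsPGroup.of_card (n := 1) (by rw [hcardZ, pow_one])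
  rcases normal_or_A6 (pPrimeCore_quotient_eq_bot Z (Subgroup.zpowers_le.2 hzc) hZ3
      (c.core u1 (T_cube (tr_mem_T 1 0 0)) (by decide +kernel))) P' hcommP hexp hcard hcent hN36
      hline hclass with hn | ⟨⟨φ⟩⟩
  · left
    intro x hx
    obtain ⟨w, hw, -⟩ := hnorm ⟨x, hx⟩ (by
      rw [Subgroup.normalizer_eq_top_iff.2 hn]
      exact Subgroup.mem_top _)
    exact ⟨w, hw⟩
  right
  haveI : IsMulCommutative (Q : Subgroup C) := ⟨⟨fun a b => Subtype.ext (Subtype.ext (by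
    have ha : ((a : C) : G) ∈ c.J := Subgroup.mem_subgroupOf.1 (hQ ▸ a.2)
    have hb : ((b : C) : G) ∈ c.J := Subgroup.mem_subgroupOf.1 (hQ ▸ b.2)
    exact c.J_comm ha hb))⟩⟩
  set L := commutator C with hL
  let g : L →* A6 := (φ.toMonoidHom.comp f).comp L.subtype
  have hzL : ∀ x ∈ L, x ∈ Z → x = 1 := by
    intro x hxL hxZ
    have h3 := Transfer.not_dvd_orderOf_central_commutator Q
      ((Subgroup.zpowers_le.2 hzc) hxZ) hxL
    rcases (Nat.dvd_prime Nat.prime_three).1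
        (show orderOf x ∣ 3 from hcardZ ▸ Z.orderOf_dvd_natCard hxZ) with h | h
    · exact orderOf_eq_one_iff.1 h
    · exact absurd (dvd_of_eq h.symm) h3
  have hginj : Function.Injective g := (injective_iff_map_eq_one g).2 fun x hx => by
    have h1 : f (x : C) = 1 := φ.injective (hx.trans (map_one φ).symm)
    exact Subtype.ext (hzL x x.2 ((QuotientGroup.eq_one_iff (x : C)).1 h1))
  haveI : IsSimpleGroup A6 := alternatingGroup.isSimpleGroup (by simp)
  have hperf : commutator A6 = ⊤ := by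
    rcases (inferInstance : IsSimpleGroup A6).eq_bot_or_eq_top_of_normal (commutator A6)
      inferInstance with h | h
    · exfalso
      have hcm : Commute z6 r6 := by
        rw [← commutatorElement_eq_one_iff_commute, ← Subgroup.mem_bot, ← h]
        exact Subgroup.commutator_mem_commutator (Subgroup.mem_top _) (Subgroup.mem_top _)
      have hne : z6 * r6 ≠ r6 * z6 := by decide +kernel
      exact hne hcm.eq
    · exact h
  have hgsurj : Function.Surjective g := fun y => by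
    have hmap : L.map (φ.toMonoidHom.comp f) = ⊤ := by
      rw [hL, commutator_def, Subgroup.map_commutator,
        Subgroup.map_top_of_surjective (φ.toMonoidHom.comp f)
          (φ.surjective.comp (QuotientGroup.mk'_surjective Z)), ← commutator_def, hperf]
    obtain ⟨x, hx, hxy⟩ := hmap.symm ▸ Subgroup.mem_top y
    exact ⟨⟨x, hx⟩, hxy⟩
  let e := MulEquiv.ofBijective g ⟨hginj, hgsurj⟩
  refine ⟨(C.subtype.comp L.subtype).comp e.symm.toMonoidHom,
    (C.subtype_injective.comp L.subtype_injective).comp e.symm.injective, fun y => ?_, ?_, ?_⟩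
  · exact Subgroup.mem_centralizer_singleton_iff.1 ((e.symm y : C)).2
  · rintro ⟨y, hy⟩
    have h1 : (e.symm y : C) = z := Subtype.ext hy
    have h2 := hzL z (h1 ▸ (e.symm y).2) (Subgroup.mem_zpowers z)
    rw [h2, orderOf_one] at hz3
    norm_num at hz3
  · intro x hx
    set xC : C := ⟨x, Subgroup.mem_centralizer_singleton_iff.2 hx⟩
    obtain ⟨i, hi⟩ := hfib xC (e.symm (φ (f xC)) : C) (φ.injective
      (show φ (f xC) = g (e.symm (φ (f xC))) from (e.apply_symm_apply _).symm))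
    refine ⟨i.val, φ (f xC), hi.trans ?_⟩
    rw [map_pow]
    exact ((Commute.pow_left (show Commute (c.ι u1) ((e.symm (φ (f xC)) : C) : G) from
      (Subgroup.mem_centralizer_singleton_iff.1 ((e.symm (φ (f xC)) : C)).2).symm) _).eq).symm

end Cfg

end Cfsg.Agent.NineRecog
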