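import Cfsg.Agent.Lib.NineRecog.Local

/-!
# The centraliser of an element of the class of `u2`, and of a pair of translations
-/

set_option autoImplicit false

namespace Cfsg.Agent.NineRecog

open Cfsg Cfsg.Agent.Exceptional.Nine

universe u

variable {G : Type u} [Group G] [Finite G]

namespace Cfg

variable (c : Cfg G)

/-- A 3-subgroup with `J` self-normalising inside it. -/
theorem eq_J_of_sylow {C : Subgroup G} (hC : ∀ w : W, c.ι w ∈ C → (∃ k : ℕ, w ^ 3 ^ k = 1) → w ∈ T)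
    {Q : Subgroup G} (hQC : Q ≤ C) (hQ : IsPGroup 3 Q) (hJQ : c.J ≤ Q) : Q = c.J := by
  haveI := Fact.mk Nat.prime_three
  by_contra hne
  have hlt : c.J.subgroupOf Q < ⊤ := by
    rw [lt_top_iff_ne_top]
    exact fun h => hne (le_antisymm (Subgroup.subgroupOf_eq_top.1 h) hJQ)
  haveI := hQ.isNilpotent
  obtain ⟨x, hx, hxJ⟩ := SetLike.exists_of_lt (Group.normalizerCondition_of_isNilpotent _ hlt)
  have hxN : (x : G) ∈ Subgroup.normalizer (c.J : Set G) := by
    refine Subgroup.mem_normalizer_iff.2 fun y => ⟨fun hy => ?_, fun hy => ?_⟩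
    · exact (Subgroup.mem_normalizer_iff.1 hx ⟨y, hJQ hy⟩).1 hy
    · have hyQ : y ∈ Q := by
        have := mul_mem (mul_mem (inv_mem x.2) (hJQ hy)) x.2
        simpa [mul_assoc] using this
      exact (Subgroup.mem_normalizer_iff.1 hx ⟨y, hyQ⟩).2 hy
  rw [c.norm_J] at hxN
  obtain ⟨w, hw⟩ := hxN
  refine hxJ (Subgroup.mem_subgroupOf.2 ?_)
  rw [← hw]
  refine c.mem_J.2 (hC w (hw ▸ hQC x.2) ?_)
  obtain ⟨k, hk⟩ := hQ x
  refine ⟨k, c.inj ?_⟩
  rw [map_pow, hw, map_one, ← SubgroupClass.coe_pow, hk]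
  rfl

/-- A Sylow subgroup of a group containing `J` as a maximal 3-subgroup. -/
theorem exists_sylow_J {C : Subgroup G} (hC : ∀ w : W, c.ι w ∈ C → (∃ k : ℕ, w ^ 3 ^ k = 1) → w ∈ T)
    (hJC : c.J ≤ C) : ∃ Q : Sylow 3 C, (Q : Subgroup C) = c.J.subgroupOf C := by
  haveI := Fact.mk Nat.prime_three
  have hJ3 : IsPGroup 3 c.J := IsPGroup.of_card (n := 3) (by rw [c.card_J]; norm_num)
  obtain ⟨Q, hQ⟩ := (hJ3.of_equiv (Subgroup.subgroupOfEquivOfLe hJC).symm).exists_le_sylow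
  refine ⟨Q, ?_⟩
  have h := c.eq_J_of_sylow hC (Subgroup.map_subtype_le (Q : Subgroup C)) (Q.2.map C.subtype)
    (fun j hj => ⟨⟨j, hJC hj⟩, hQ (Subgroup.mem_subgroupOf.2 hj), rfl⟩)
  rw [← h, Subgroup.subgroupOf, Subgroup.comap_map_eq_self_of_injective C.subtype_injective]

theorem J_le_centralizer {x : G} (hx : x ∈ c.J) : c.J ≤ Subgroup.centralizer ({x} : Set G) :=
  fun _ hy => Subgroup.mem_centralizer_singleton_iff.2 (c.J_comm hy hx)

theorem mem_centralizer_iff {v w : W} :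
    c.ι w ∈ Subgroup.centralizer ({c.ι v} : Set G) ↔ w * v = v * w := by
  rw [Subgroup.mem_centralizer_singleton_iff, ← map_mul, ← map_mul]
  exact ⟨fun h => c.inj h, fun h => by rw [h]⟩

theorem three_elements_u2 {w : W} (hw : c.ι w ∈ Subgroup.centralizer ({c.ι u2} : Set G))
    (h : ∃ k : ℕ, w ^ 3 ^ k = 1) : w ∈ T := by
  obtain ⟨k, hk⟩ := h
  have hw' := c.mem_centralizer_iff.1 hw
  have hww : w * w ∈ T := by
    refine mem_T_iff_isT.2 ?_
    have key : ∀ g : W, g * u2 = u2 * g → isT (g * g) = true := by decide +kernel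
    exact key w hw'
  obtain ⟨m, hm⟩ : ∃ m, 3 ^ k = 2 * m + 1 := ⟨3 ^ k / 2, by
    have : 3 ^ k % 2 = 1 := by rw [Nat.pow_mod]; simp
    omega⟩
  rw [hm, pow_succ, pow_mul, pow_two] at hk
  rw [eq_inv_of_mul_eq_one_right hk]
  exact inv_mem (pow_mem hww m)

theorem mk_mem_zpowers {v : W} {C : Subgroup G} (hv : c.ι v ∈ C) (k : ℕ) :
    (⟨c.ι v, hv⟩ : C) ^ k ∈ Subgroup.zpowers (⟨c.ι v, hv⟩ : C) :=
  pow_mem (Subgroup.mem_zpowers _) _

theorem centralizer_u2_le : Subgroup.centralizer ({c.ι u2} : Set G) ≤ c.ι.range := by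
  classical
  haveI := Fact.mk Nat.prime_three
  set C := Subgroup.centralizer ({c.ι u2} : Set G) with hC
  have hu2 : c.ι u2 ∈ c.J := c.mem_J.2 (tr_mem_T 0 1 1)
  have hJC : c.J ≤ C := c.J_le_centralizer hu2
  obtain ⟨Q, hQ⟩ := c.exists_sylow_J (C := C) (fun w => c.three_elements_u2) hJC
  let z : C := ⟨c.ι u2, hJC hu2⟩
  set Z := Subgroup.zpowers z with hZ
  have hzc : z ∈ Subgroup.center C := Subgroup.mem_center_iff.2 fun x =>
    Subtype.ext (Subgroup.mem_centralizer_singleton_iff.1 x.2)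
  haveI : Z.Normal := ⟨fun n hn g => by
    have : n ∈ Subgroup.center C := (Subgroup.zpowers_le.2 hzc) hn
    rwa [Subgroup.mem_center_iff.1 this g, mul_inv_cancel_right]⟩
  have hz3 : orderOf z = 3 := by
    rw [← Subgroup.orderOf_coe]
    show orderOf (c.ι u2) = 3
    rw [orderOf_injective _ c.inj]
    exact orderOf_eq_prime (T_cube (tr_mem_T 0 1 1)) (by decide +kernel)
  have hcardZ : Nat.card Z = 3 := by rw [hZ, Nat.card_zpowers, hz3]
  set f := QuotientGroup.mk' Z with hf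
  let P' : Sylow 3 (C ⧸ Z) := Q.mapSurjective (QuotientGroup.mk'_surjective Z)
  have hP' : (P' : Subgroup (C ⧸ Z)) = (c.J.subgroupOf C).map f := by
    simp only [P', Sylow.coe_mapSurjective, hQ]
    rfl
  have hmemJ : ∀ x : C, f x ∈ (P' : Subgroup (C ⧸ Z)) → (x : G) ∈ c.J := by
    intro x hx
    rw [hP'] at hx
    obtain ⟨y, hy, hyx⟩ := hx
    obtain ⟨k, hk⟩ := Subgroup.mem_zpowers_iff.1 (QuotientGroup.eq.1 hyx)
    have : (x : G) = (y : G) * c.ι u2 ^ k := by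
      have h' := congrArg Subtype.val hk
      simp only [Subgroup.coe_mul, SubgroupClass.coe_zpow, Subgroup.coe_inv] at h'
      rw [show c.ι u2 ^ k = (y : G)⁻¹ * (x : G) from h', mul_inv_cancel_left]
    rw [this]
    exact mul_mem hy (zpow_mem hu2 k)
  have hlift : ∀ y ∈ (P' : Subgroup (C ⧸ Z)), ∃ t : V, ∃ h : c.ι (trV t) ∈ C,
      y = f ⟨c.ι (trV t), h⟩ := by
    intro y hy
    rw [hP'] at hy
    obtain ⟨x, hx, rfl⟩ := hy
    obtain ⟨v, hv, hvx⟩ := hx
    have hx' : c.ι (trV (v.t0, v.t1, v.t2)) = (x : G) := by rw [trV_eta hv]; exact hvx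
    exact ⟨(v.t0, v.t1, v.t2), hx'.symm ▸ x.2, congrArg f (Subtype.ext hx'.symm)⟩
  have hnorm : ∀ g : C, f g ∈ Subgroup.normalizer ((P' : Subgroup (C ⧸ Z)) : Set (C ⧸ Z)) →
      ∃ w : W, c.ι w = g ∧ w * u2 = u2 * w := by
    intro g hg
    have hgN : (g : G) ∈ Subgroup.normalizer (c.J : Set G) := by
      refine Subgroup.mem_normalizer_iff.2 fun y => ⟨fun hy => ?_, fun hy => ?_⟩
      · have h1 : f ⟨y, hJC hy⟩ ∈ (P' : Subgroup (C ⧸ Z)) := hP' ▸ ⟨_, hy, rfl⟩
        have h2 := (Subgroup.mem_normalizer_iff.1 hg _).1 h1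
        rw [← map_inv, ← map_mul, ← map_mul] at h2
        exact hmemJ _ h2
      · have hyC : y ∈ C := by
          have := mul_mem (mul_mem (inv_mem g.2) (hJC hy)) g.2
          simpa [mul_assoc] using this
        refine hmemJ ⟨y, hyC⟩ ((Subgroup.mem_normalizer_iff.1 hg _).2 ?_)
        rw [← map_inv, ← map_mul, ← map_mul, hP']
        exact ⟨_, hy, rfl⟩
    rw [c.norm_J] at hgN
    obtain ⟨w, hw⟩ := hgN
    exact ⟨w, hw, c.mem_centralizer_iff.1 (hw ▸ g.2)⟩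
  have hpow : ∀ (h2 : c.ι u2 ∈ C) (k : ℕ), f ((⟨c.ι u2, h2⟩ : C) ^ k) = 1 := fun h2 k =>
    (QuotientGroup.eq_one_iff _).2 (pow_mem (Subgroup.mem_zpowers z) k)
  have hexp : ∀ y ∈ (P' : Subgroup (C ⧸ Z)), y ^ 3 = 1 := by
    intro y hy
    obtain ⟨t, ht, rfl⟩ := hlift y hy
    rw [← map_pow, show (⟨c.ι (trV t), ht⟩ : C) ^ 3 = 1 from
      Subtype.ext (by simp [← map_pow, trV_cube]), map_one]
  have hcard : Nat.card (P' : Subgroup (C ⧸ Z)) = 9 := by
    have hle : Z ≤ c.J.subgroupOf C := Subgroup.zpowers_le.2 hu2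
    have h1 := Subgroup.relIndex_ker (c.J.subgroupOf C) f
    rw [hf, QuotientGroup.ker_mk'] at h1
    have h2 := Subgroup.relIndex_mul_relIndex _ _ _ (bot_le : ⊥ ≤ Z) hle
    rw [Subgroup.relIndex_bot_left, Subgroup.relIndex_bot_left, hcardZ,
      Nat.card_congr (Subgroup.subgroupOfEquivOfLe hJC).toEquiv, c.card_J] at h2
    rw [hP', hf, ← h1]
    omega
  have hcfg : SmithTyrer.IsInvConfig P' := by
    refine ⟨⟨⟨fun a b => Subtype.ext ?_⟩⟩, fun hcy => ?_, fun g hg => ?_, ?_⟩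
    · obtain ⟨s, hs, hsa⟩ := hlift _ a.2
      obtain ⟨t, ht, htb⟩ := hlift _ b.2
      show (a : C ⧸ Z) * b = b * a
      rw [hsa, htb, ← map_mul, ← map_mul]
      exact congrArg f (Subtype.ext (c.J_comm (c.mem_J.2 (trV_mem s)) (c.mem_J.2 (trV_mem t))))
    · obtain ⟨y, hy⟩ := hcy.exists_ofOrder_eq_natCard
      have : orderOf y ∣ 3 := orderOf_dvd_of_pow_eq_one (Subtype.ext (by
        rw [SubgroupClass.coe_pow]; exact hexp _ y.2))
      rw [hy, hcard] at this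
      exact absurd (Nat.le_of_dvd (by norm_num) this) (by norm_num)
    · obtain ⟨g, rfl⟩ := QuotientGroup.mk'_surjective Z g
      obtain ⟨w, hw, hw2⟩ := hnorm g hg
      rcases cent_u2_sign w hw2 with hwT | hinv
      · refine Or.inl fun y hy => ?_
        obtain ⟨t, ht, rfl⟩ := hlift y hy
        rw [← map_inv, ← map_mul, ← map_mul]
        refine congrArg f (Subtype.ext ?_)
        simp only [Subgroup.coe_mul, Subgroup.coe_inv]
        rw [c.J_comm (hw ▸ c.mem_J.2 (mem_T_iff_isT.2 hwT)) (c.mem_J.2 (trV_mem t)),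
          mul_inv_cancel_right]
      · refine Or.inr fun y hy => ?_
        obtain ⟨t, ht, rfl⟩ := hlift y hy
        obtain ⟨k, hk⟩ := hinv t
        have hh : g * (⟨c.ι (trV t), ht⟩ : C) * g⁻¹ =
            (⟨c.ι (trV t), ht⟩ : C)⁻¹ * (⟨c.ι u2, hJC hu2⟩ : C) ^ k.val := by
          apply Subtype.ext
          simp only [Subgroup.coe_mul, Subgroup.coe_inv, SubgroupClass.coe_pow]
          rw [← hw, ← map_inv, ← map_mul, ← map_mul, hk, map_mul, map_pow, map_inv]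
        rw [← map_inv, ← map_mul, ← map_mul, hh, map_mul f, hpow, mul_one, map_inv]
    · obtain ⟨w, hw2, hinv⟩ := exists_inverter_u2
      let g : C := ⟨c.ι w, c.mem_centralizer_iff.2 hw2⟩
      refine ⟨f g, fun y hy => ?_⟩
      obtain ⟨t, ht, rfl⟩ := hlift y hy
      obtain ⟨k, hk⟩ := hinv t
      have hh : g * (⟨c.ι (trV t), ht⟩ : C) * g⁻¹ =
          (⟨c.ι (trV t), ht⟩ : C)⁻¹ * (⟨c.ι u2, hJC hu2⟩ : C) ^ k.val := by
        apply Subtype.ext
        simp only [g, Subgroup.coe_mul, Subgroup.coe_inv, SubgroupClass.coe_pow]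
        rw [← map_inv, ← map_mul, ← map_mul, hk, map_mul, map_pow, map_inv]
      rw [← map_inv, ← map_mul, ← map_mul, hh, map_mul f, hpow, mul_one, map_inv]
  have hZ3 : IsPGroup 3 Z := IsPGroup.of_card (n := 1) (by rw [hcardZ, pow_one])
  have hn := SmithTyrer.normal_of_config (by norm_num) _ P' rfl hcfg
    (pPrimeCore_quotient_eq_bot Z (Subgroup.zpowers_le.2 hzc) hZ3
      (c.core u2 (T_cube (tr_mem_T 0 1 1)) (by decide +kernel)))
  intro x hx
  obtain ⟨w, hw, -⟩ := hnorm ⟨x, hx⟩ (by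
    rw [Subgroup.normalizer_eq_top_iff.2 hn]
    exact Subgroup.mem_top _)
  exact ⟨w, hw⟩

theorem centralizer_conj_le {g v : W}
    (h : Subgroup.centralizer ({c.ι v} : Set G) ≤ c.ι.range) {x : G}
    (hx : x * c.ι (g * v * g⁻¹) = c.ι (g * v * g⁻¹) * x) : x ∈ c.ι.range := by
  have hm : (c.ι g)⁻¹ * x * c.ι g ∈ c.ι.range := by
    refine h (Subgroup.mem_centralizer_singleton_iff.2 ?_)
    rw [map_mul, map_mul, map_inv] at hx
    calc (c.ι g)⁻¹ * x * c.ι g * c.ι v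
        = (c.ι g)⁻¹ * (x * (c.ι g * c.ι v * (c.ι g)⁻¹)) * c.ι g := by group
      _ = (c.ι g)⁻¹ * (c.ι g * c.ι v * (c.ι g)⁻¹ * x) * c.ι g := by rw [hx]
      _ = _ := by group
  have := mul_mem (mul_mem (show c.ι g ∈ c.ι.range from ⟨g, rfl⟩) hm)
    (inv_mem (show c.ι g ∈ c.ι.range from ⟨g, rfl⟩))
  rwa [show c.ι g * ((c.ι g)⁻¹ * x * c.ι g) * (c.ι g)⁻¹ = x by group] at this

/-- An element centralising `u1` and a further translation normalises `J`. -/
theorem mem_range_of_pair {t : V} (ht : ¬ (t.2.1 = 0 ∧ t.2.2 = 0)) {x : G}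
    (h1 : x * c.ι u1 = c.ι u1 * x) (h2 : x * c.ι (trV t) = c.ι (trV t) * x) : x ∈ c.ι.range := by
  obtain ⟨i, j, g, h⟩ := exists_mixed t ht
  have hc : Commute x (c.ι (u1 ^ i.val * trV t ^ j.val)) := by
    rw [map_mul, map_pow, map_pow]
    exact (Commute.pow_right h1 _).mul_right (Commute.pow_right h2 _)
  rcases h with h | h <;> rw [← h] at hc
  · exact c.centralizer_conj_le c.centralizer_u2_le hc
  · exact c.centralizer_conj_le (c.centralizer_u3.le.trans c.P_le_range) hc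

end Cfg

end Cfsg.Agent.NineRecog
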