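import Cfsg.Agent.Lib.NineRecog.CentI
import Cfsg.Agent.Lib.Invol.Basic

/-!
# The centraliser of a product of four transpositions, and the identification
-/

set_option autoImplicit false
set_option synthInstance.maxHeartbeats 200000
set_option synthInstance.maxSize 1024

namespace Cfsg.Agent.NineRecog

open Equiv
open Cfsg Cfsg.Agent.Exceptional.Nine
open A6Data

universe u

theorem card_cent_pS : Nat.card (Subgroup.centralizer ({pS} : Set P9) ⊓ A9 : Subgroup P9) = 192 := by
  obtain ⟨-, cS, -, -, -, -, -, ⟨-, so⟩, hc⟩ := class_inv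
  set C := Subgroup.centralizer ({pS} : Set P9)
  have h384 : Nat.card C = 384 := by
    rw [Equiv.Perm.nat_card_centralizer, cS, Fintype.card_fin]
    decide
  let f : C →* ℤˣ := Perm.sign.comp C.subtype
  have hs : Function.Surjective f := fun u => by
    rcases Int.units_eq_one_or u with rfl | rfl
    · exact ⟨1, map_one f⟩
    · exact ⟨⟨c[0, 1], Subgroup.mem_centralizer_singleton_iff.2 hc⟩, so⟩
  have hk := Subgroup.card_mul_index f.ker
  rw [Subgroup.index_ker, MonoidHom.range_eq_top.2 hs, Subgroup.card_top, h384,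
    show Nat.card ℤˣ = 2 by rw [Nat.card_eq_fintype_card]; rfl] at hk
  have hmap : f.ker.map C.subtype = C ⊓ A9 := by
    ext x
    constructor
    · rintro ⟨y, hy, rfl⟩
      exact ⟨y.2, Equiv.Perm.mem_alternatingGroup.2 hy⟩
    · rintro ⟨h1, h2⟩
      exact ⟨⟨x, h1⟩, Equiv.Perm.mem_alternatingGroup.1 h2, rfl⟩
  rw [← hmap, Subgroup.card_map_of_injective C.subtype_injective]
  omega

theorem card_A9 : Nat.card A9 = 181440 := by
  rw [nat_card_alternatingGroup, Nat.card_fin]
  rfl

variable {G : Type u} [Group G] [Finite G] {c : Cfg G} {d : A6Data c} (E : Emb d)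

namespace Emb

include E in
/-- The centraliser of every product of two transpositions lies in the alternating subgroup. -/
theorem cent_t_le {m : P9} (hm : Perm.sign m = 1) {x : G}
    (hx : x * E.Φ.f (m * pI * m⁻¹) = E.Φ.f (m * pI * m⁻¹) * x) : x ∈ E.φ.range := by
  refine E.conj_back (E.mem_range hm) (E.centI_le ?_)
  rw [E.Φ.map_conj hm even_pI, E.Φ_six] at hx
  calc (E.Φ.f m)⁻¹ * x * E.Φ.f m * d.ψ si
      = (E.Φ.f m)⁻¹ * (x * (E.Φ.f m * d.ψ si * (E.Φ.f m)⁻¹)) * E.Φ.f m := by group
    _ = (E.Φ.f m)⁻¹ * (E.Φ.f m * d.ψ si * (E.Φ.f m)⁻¹ * x) * E.Φ.f m := by rw [hx]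
    _ = _ := by group

include E in
/-- Fusion of products of two transpositions is controlled. -/
theorem mem_of_fusion {x : G} (hx : x * d.ψ si * x⁻¹ ∈ E.φ.range) : x ∈ E.φ.range := by
  obtain ⟨p, hp, hpe⟩ := E.exists_perm hx
  obtain ⟨-, -, m, hm, hmp⟩ := E.moved_of_fused hp hpe.symm
  have hme : E.Φ.f p = E.Φ.f m * d.ψ si * (E.Φ.f m)⁻¹ := by
    rw [← hmp, E.Φ.map_conj hm even_pI, E.Φ_six]
  have h : (E.Φ.f m)⁻¹ * x ∈ E.φ.range := E.centI_le (by
    calc (E.Φ.f m)⁻¹ * x * d.ψ si = (E.Φ.f m)⁻¹ * (x * d.ψ si * x⁻¹) * x := by group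
      _ = (E.Φ.f m)⁻¹ * (E.Φ.f m * d.ψ si * (E.Φ.f m)⁻¹) * x := by rw [← hpe, hme]
      _ = _ := by group)
  have := mul_mem (E.mem_range hm) h
  rwa [mul_inv_cancel_left] at this

theorem card_range : Nat.card E.φ.range = 181440 := by
  rw [← card_A9]
  exact (Nat.card_congr (MonoidHom.ofInjective E.inj).toEquiv).symm

include E in
theorem not_128_dvd : ¬ 128 ∣ Nat.card G := by
  intro h128
  haveI : Fact (Nat.Prime 2) := ⟨Nat.prime_two⟩
  let t : A9 := ⟨pI, Equiv.Perm.mem_alternatingGroup.2 even_pI⟩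
  have htt : t * t = 1 := Subtype.ext (by
    show p6 si * p6 si = 1
    decide +kernel)
  have ho : orderOf t = 2 := orderOf_eq_prime (by rw [sq, htt]) fun h => by
    have := congrArg Subtype.val h
    revert this
    show p6 si = 1 → False
    decide +kernel
  obtain ⟨Q, hQ⟩ := (IsPGroup.of_card (p := 2) (n := 1) (G := Subgroup.zpowers t)
    (by rw [Nat.card_zpowers, ho, pow_one])).exists_le_sylow
  have hQ64 : Nat.card (Q : Subgroup A9) = 2 ^ 6 := by
    rw [Sylow.card_eq_multiplicity, card_A9, show 181440 = 2 ^ 6 * 2835 by norm_num,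
      Nat.factorization_mul (by norm_num) (by norm_num), Finsupp.add_apply,
      Nat.Prime.factorization_pow Nat.prime_two, Finsupp.single_eq_same,
      Nat.factorization_eq_zero_of_not_dvd (by norm_num : ¬ 2 ∣ 2835)]
  set T := (Q : Subgroup A9).map E.φ with hT
  have hT64 : Nat.card T = 2 ^ 6 := by rw [hT, Subgroup.card_map_of_injective E.inj, hQ64]
  obtain ⟨S, hS⟩ := (IsPGroup.of_card hT64).exists_le_sylow
  have hST : (S : Subgroup G) = T := by
    by_contra hne
    have hlt : T.subgroupOf (S : Subgroup G) < ⊤ := by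
      rw [lt_top_iff_ne_top]
      exact fun h => hne (le_antisymm (Subgroup.subgroupOf_eq_top.1 h) hS)
    haveI := S.2.isNilpotent
    obtain ⟨x, hx, hxT⟩ := SetLike.exists_of_lt (Group.normalizerCondition_of_isNilpotent _ hlt)
    have hsiT : d.ψ si ∈ T := ⟨t, hQ (Subgroup.mem_zpowers t), by rw [← E.Φ_apply, E.Φ_six]⟩
    have hxr : (x : G) ∈ E.φ.range := E.mem_of_fusion (Subgroup.map_le_range E.φ _
      ((Subgroup.mem_normalizer_iff.1 hx ⟨_, hS hsiT⟩).1 hsiT))
    obtain ⟨m, hm⟩ := IsPGroup.iff_card.1 (S.2.to_le (inf_le_left : (S : Subgroup G) ⊓ E.φ.range ≤ S))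
    have hdvd : 2 ^ m ∣ 181440 := by
      rw [← hm, ← E.card_range]
      exact Subgroup.card_dvd_of_le inf_le_right
    have hm6 : m ≤ 6 := by
      by_contra hcon
      have := (pow_dvd_pow 2 (show 7 ≤ m by omega)).trans hdvd
      norm_num at this
    have heq := Subgroup.eq_of_le_of_card_ge
      (le_inf hS (Subgroup.map_le_range E.φ _) : T ≤ (S : Subgroup G) ⊓ E.φ.range) (by
        rw [hm, hT64]
        exact Nat.pow_le_pow_right (by norm_num) hm6)
    exact hxT (show (x : G) ∈ T by rw [heq]; exact ⟨x.2, hxr⟩)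
  obtain ⟨K, hK⟩ := Sylow.exists_subgroup_card_pow_prime 2 (n := 7) h128
  obtain ⟨S', hS'⟩ := (IsPGroup.of_card hK).exists_le_sylow
  have h := Subgroup.card_dvd_of_le hS'
  rw [hK, S'.card_eq_multiplicity, ← S.card_eq_multiplicity, hST, hT64] at h
  norm_num at h

include E in
theorem centS_le {x₀ : G} (hx₀ : x₀ * E.Φ.f pS = E.Φ.f pS * x₀) : x₀ ∈ E.φ.range := by
  classical
  haveI : Fact (Nat.Prime 2) := ⟨Nat.prime_two⟩
  haveI : Fact (Nat.Prime 3) := ⟨Nat.prime_three⟩
  obtain ⟨hmS, eD, eS, sD, d3, d1, dS, dS3, iS, i'S⟩ := mS_facts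
  have sS : Perm.sign pS = 1 := class_inv.2.2.2.1
  set s := E.Φ.f pS with hsdef
  set y := E.Φ.f pD with hydef
  set H := Subgroup.centralizer ({s} : Set G) with hH
  have hpS2 : pS * pS = 1 := by decide +kernel
  have hss : s * s = 1 := by rw [hsdef, ← E.Φ.map_mul sS sS, hpS2, E.Φ.map_one]
  have hso : orderOf s = 2 := orderOf_eq_prime (by rw [sq, hss]) fun h =>
    (by decide +kernel : pS ≠ 1) (E.Φ.faithful sS h)
  have hy3 : y ^ 3 = 1 := by rw [hydef, ← (E.Φ.map_pow (show Even9 pD from sD) 3).2, d3, E.Φ.map_one]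
  have hy1 : y ≠ 1 := fun h => d1 (E.Φ.faithful sD h)
  have hys : y * s = s * y := (E.Φ.commute_iff sD sS).2 dS
  have hmem : ∀ {x : G}, x ∈ H ↔ x * s = s * x := Subgroup.mem_centralizer_singleton_iff
  have hyH : y ∈ H := hmem.2 hys
  -- the centraliser of `y` in `H`
  have hK : ∀ x : G, x * y = y * x → x * s = s * x → ∃ n : ℕ, x = (y * s) ^ n := by
    intro x h1 h2
    obtain ⟨p, hp, rfl⟩ := E.exists_perm (E.cent_three_perm sD d3 d1 h1)
    have c1 := (E.Φ.commute_iff hp sD).1 h1
    have c2 := (E.Φ.commute_iff hp sS).1 h2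
    set q := mS⁻¹ * p * mS with hq
    have hqe : Perm.sign q = 1 := by rw [hq, map_mul, map_mul, Perm.sign_inv, hmS, hp]; rfl
    have q1 : q * φW u2 = φW u2 * q := by
      have e : φW u2 = mS⁻¹ * pD * mS := by rw [← eD]; group
      rw [hq, e, show mS⁻¹ * p * mS * (mS⁻¹ * pD * mS) = mS⁻¹ * (p * pD) * mS by group, c1]
      group
    have q2 : q * φW wX = φW wX * q := by
      have e : φW wX = mS⁻¹ * pS * mS := by rw [← eS]; group
      rw [hq, e, show mS⁻¹ * p * mS * (mS⁻¹ * pS * mS) = mS⁻¹ * (p * pS) * mS by group, c2]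
      group
    have hqc := (E.Φ.commute_iff hqe (φW_sign u2)).2 q1
    rw [E.agree_W] at hqc
    obtain ⟨w, hw⟩ := c.centralizer_u2_le (Subgroup.mem_centralizer_singleton_iff.2 hqc)
    have hwq : φW w = q := E.Φ.inj (φW_sign w) hqe ((E.agree_W w).trans hw)
    rw [← hwq, ← map_mul, ← map_mul] at q1 q2
    obtain ⟨n, hn⟩ := cent_dS w (φW_injective q1) (φW_injective q2)
    refine ⟨n, ?_⟩
    have hp' : p = (pD * pS) ^ (n : ℕ) := by
      calc p = mS * q * mS⁻¹ := by rw [hq]; group
        _ = mS * (φW u2 * φW wX) ^ (n : ℕ) * mS⁻¹ := by rw [← hwq, hn, map_pow, map_mul]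
        _ = (mS * (φW u2 * φW wX) * mS⁻¹) ^ (n : ℕ) := conj_pow.symm
        _ = _ := by rw [← eD, ← eS]; group
    rw [hp', (E.Φ.map_pow (E.Φ.mul sD sS) _).2, E.Φ.map_mul sD sS]
  -- the quotient
  set sH : H := ⟨s, hmem.2 rfl⟩ with hsH
  set Z := Subgroup.zpowers sH with hZ
  have hsc : sH ∈ Subgroup.center H := Subgroup.mem_center_iff.2 fun g => Subtype.ext (hmem.1 g.2)
  haveI hZn : Z.Normal := ⟨fun n hn g => by
    obtain ⟨k, rfl⟩ := Subgroup.mem_zpowers_iff.1 hn
    have hc : g * sH ^ k = sH ^ k * g :=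
      Subgroup.mem_center_iff.1 (Subgroup.zpow_mem _ hsc k) g
    rw [hc, mul_inv_cancel_right]
    exact Subgroup.zpow_mem _ (Subgroup.mem_zpowers _) k⟩
  have hZc : Nat.card Z = 2 := by rw [hZ, Nat.card_zpowers, hsH, Subgroup.orderOf_mk, hso]
  have hZval : ∀ c : H, c ∈ Z → (c : G) = 1 ∨ (c : G) = s := by
    intro c hc
    rw [hZ, mem_zpowers_iff_mem_range_orderOf, hsH, Subgroup.orderOf_mk, hso] at hc
    simp only [Finset.mem_image, Finset.mem_range] at hc
    obtain ⟨i, hi, rfl⟩ := hc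
    interval_cases i <;> simp
  set π := QuotientGroup.mk' Z with hπ
  have hπs : Function.Surjective π := QuotientGroup.mk'_surjective Z
  set yH : H := ⟨y, hyH⟩ with hyH'
  set ybar := π yH with hybar
  have ho3 : orderOf ybar = 3 := by
    refine orderOf_eq_prime ?_ ?_
    · rw [hybar, ← map_pow, show yH ^ 3 = 1 from Subtype.ext (by simpa [hyH'] using hy3), map_one]
    · intro h
      rcases hZval _ ((QuotientGroup.eq_one_iff yH).1 h) with e | e
      · exact hy1 e
      · exact (by decide +kernel : pD ≠ pS) (E.Φ.inj sD sS e)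
  set X := Subgroup.zpowers ybar with hX
  have hXc : Nat.card X = 3 := by rw [hX, Nat.card_zpowers, ho3]
  have hC : Subgroup.centralizer (X : Set (H ⧸ Z)) = X := by
    refine le_antisymm (fun q hq => ?_) (fun q hq => ?_)
    · obtain ⟨x, rfl⟩ := hπs q
      have hc : ybar * π x = π x * ybar :=
        Subgroup.mem_centralizer_iff.1 hq _ (Subgroup.mem_zpowers _)
      have hcT : yH⁻¹ * (x * yH * x⁻¹) ∈ Z := by
        rw [← QuotientGroup.eq_one_iff]
        show π (yH⁻¹ * (x * yH * x⁻¹)) = 1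
        rw [map_mul, map_mul, map_mul, map_inv, map_inv, ← hybar, ← hc]
        group
      have hcomm : x.1 * y = y * x.1 := by
        rcases hZval _ hcT with e | e
        · have e' : y⁻¹ * (x.1 * y * (x.1)⁻¹) = 1 := e
          rw [inv_mul_eq_one] at e'
          exact mul_inv_eq_iff_eq_mul.1 e'.symm
        · exfalso
          have e' : y⁻¹ * (x.1 * y * (x.1)⁻¹) = s := e
          rw [inv_mul_eq_iff_eq_mul] at e'
          have h1 : (x.1 * y * (x.1)⁻¹) ^ 3 = 1 := by
            rw [conj_pow, hy3]; group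
          rw [e', hydef, hsdef, ← E.Φ.map_mul sD sS, ← (E.Φ.map_pow (E.Φ.mul sD sS) 3).2] at h1
          exact dS3 (E.Φ.faithful (E.Φ.map_pow (E.Φ.mul sD sS) 3).1 h1)
      obtain ⟨k, hk⟩ := hK x.1 hcomm (hmem.1 x.2)
      have hx : x = (yH * sH) ^ k := Subtype.ext (by rw [hk]; simp [hyH', hsH])
      rw [hx, map_pow, map_mul, show π sH = 1 from (QuotientGroup.eq_one_iff sH).2 (Subgroup.mem_zpowers sH),
        mul_one]
      exact pow_mem (Subgroup.mem_zpowers ybar) k
    · rw [Subgroup.mem_centralizer_iff]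
      intro r hr
      obtain ⟨i, rfl⟩ := Subgroup.mem_zpowers_iff.1 hq
      obtain ⟨j, rfl⟩ := Subgroup.mem_zpowers_iff.1 hr
      exact zpow_mul_comm ybar j i
  -- the part in the alternating subgroup
  have hHM : H ⊓ E.φ.range = ((Subgroup.centralizer ({pS} : Set P9) ⊓ A9).subgroupOf A9).map E.φ := by
    ext z
    constructor
    · rintro ⟨h1, g, rfl⟩
      refine ⟨g, Subgroup.mem_subgroupOf.2 ⟨Subgroup.mem_centralizer_singleton_iff.2 ?_, g.2⟩, rfl⟩
      refine (E.Φ.commute_iff (Equiv.Perm.mem_alternatingGroup.1 g.2) sS).1 ?_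
      rw [E.Φ_apply]
      exact hmem.1 h1
    · rintro ⟨g, hg, rfl⟩
      refine ⟨hmem.2 ?_, g, rfl⟩
      rw [← E.Φ_apply, hsdef]
      exact (E.Φ.commute_iff (Equiv.Perm.mem_alternatingGroup.1 g.2) sS).2
        (Subgroup.mem_centralizer_singleton_iff.1 (Subgroup.mem_subgroupOf.1 hg).1)
  have h192 : Nat.card (H ⊓ E.φ.range : Subgroup G) = 192 := by
    rw [hHM, Subgroup.card_map_of_injective E.inj,
      Nat.card_congr (Subgroup.subgroupOfEquivOfLe inf_le_right).toEquiv, card_cent_pS]
  have hHq : Nat.card H = Nat.card (H ⧸ Z) * 2 := by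
    rw [Subgroup.card_eq_card_quotient_mul_card_subgroup Z, hZc]
  have h128 : ¬ 128 ∣ Nat.card H := fun h =>
    E.not_128_dvd (h.trans (Subgroup.card_subgroup_dvd_card H))
  have h64H : 64 ∣ Nat.card H := (show 64 ∣ 192 by norm_num).trans
    (h192 ▸ Subgroup.card_dvd_of_le inf_le_left)
  suffices hle : Nat.card H ≤ 192 by
    have heq : H ⊓ E.φ.range = H :=
      Subgroup.eq_of_le_of_card_ge inf_le_left (hle.trans h192.ge)
    exact (heq.symm.le.trans inf_le_right) (hmem.2 hx₀)
  rcases S3331.result X hXc hC with ⟨N, hN, hnil, hcop, hq⟩ | ⟨N, hN, hNc, hN2, ⟨e⟩⟩ | ⟨⟨e⟩⟩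
  · -- nilpotent-by-small
    haveI := hN
    haveI := hnil
    set M := N.comap π with hM
    haveI hMn : M.Normal := hN.comap π
    let f : M →* N := (π.comp M.subtype).codRestrict N fun m => m.2
    have hfk : f.ker ≤ Subgroup.center M := by
      intro m hm
      have hm' : (m : H) ∈ Z := (QuotientGroup.eq_one_iff (m : H)).1 (congrArg Subtype.val hm)
      refine Subgroup.mem_center_iff.2 fun g => Subtype.ext ?_
      exact Subgroup.mem_center_iff.1 ((Subgroup.zpowers_le.2 hsc) hm') g
    haveI : Group.IsNilpotent M := Subgroup.isNilpotent_of_ker_le_center f hfk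
    have hMc : Nat.card M = 2 * Nat.card N := by
      have h1 : M.index = N.index := Subgroup.index_comap_of_surjective N hπs
      have h2 := Subgroup.card_mul_index M
      have h3 := Subgroup.card_mul_index N
      have hpos : 0 < N.index := Nat.pos_of_ne_zero N.index_ne_zero_of_finite
      rw [h1, hHq, ← h3] at h2
      nlinarith
    have hodd : ∀ r : ℕ, r.Prime → r ∣ Nat.card M → r = 2 := by
      intro r hr hrd
      by_contra hr2
      haveI : Fact r.Prime := ⟨hr⟩
      let R : Sylow r M := default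
      haveI hRn : (R : Subgroup M).Normal := inferInstance
      haveI : (R : Subgroup M).Characteristic := Sylow.characteristic_of_normal R hRn
      set RH := (R : Subgroup M).map M.subtype with hRHdef
      haveI hRH : RH.Normal := ConjAct.normal_of_characteristic_of_normal
      set RG := RH.map H.subtype with hRG
      obtain ⟨n, hn⟩ := IsPGroup.iff_card.1 R.isPGroup'
      have hRc : Nat.card RG = r ^ n := by
        rw [hRG, Subgroup.card_map_of_injective H.subtype_injective, hRHdef,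
          Subgroup.card_map_of_injective M.subtype_injective, hn]
      have hr3 : r ≠ 3 := by
        rintro rfl
        rw [hMc] at hrd
        rcases Nat.prime_three.dvd_mul.1 hrd with h | h
        · omega
        · exact (Nat.prime_three.coprime_iff_not_dvd.1 hcop.symm) h
      have hc2 : (r ^ n).Coprime 2 := ((Nat.coprime_primes hr Nat.prime_two).2 hr2).pow_left n
      have hc192 : (r ^ n).Coprime 192 := by
        refine Nat.Coprime.pow_left n ?_
        rw [show (192 : ℕ) = 2 ^ 6 * 3 by norm_num]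
        exact (((Nat.coprime_primes hr Nat.prime_two).2 hr2).pow_right 6).mul_right
          ((Nat.coprime_primes hr Nat.prime_three).2 hr3)
      have hRM : ∀ z ∈ RG, z ∈ E.φ.range → z = 1 := by
        intro z hz hzM
        have h1 : z ∈ (H ⊓ E.φ.range : Subgroup G) := ⟨Subgroup.map_subtype_le RH hz, hzM⟩
        refine orderOf_eq_one_iff.1 (Nat.eq_one_of_dvd_coprimes hc192
          (hRc ▸ RG.orderOf_dvd_natCard hz) ?_)
        exact h192 ▸ (H ⊓ E.φ.range : Subgroup G).orderOf_dvd_natCard h1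
      set F := d.fourCfg fourB with hF
      haveI : IsMulCommutative F.V := ⟨⟨fun a b =>
        Subtype.ext (F.hcent a.1 a.2 b.1 (F.hVC b.2))⟩⟩
      have hVexp : ∀ v ∈ F.V, v * v = 1 := by
        intro v hv
        obtain ⟨g, hg, rfl⟩ := (d.mem_vV fourB).1 hv
        rw [← map_mul, (inV_facts g hg).1, map_one]
      have hVH : ∀ v ∈ F.V, v ∈ H := by
        intro v hv
        obtain ⟨g, hg, rfl⟩ := (d.mem_vV fourB).1 hv
        rw [hmem, hsdef, ← E.Φ_six]
        refine (E.Φ.commute_iff (inKa_p6 g).2 sS).2 ?_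
        rcases hg with rfl | rfl | rfl | rfl
        · rw [show p6 (1 : A6) = 1 from (by decide +kernel), one_mul, mul_one]
        · exact iS
        · exact i'S
        · rw [show p6 (si * si') = pI * pI' from by decide +kernel, mul_assoc, i'S, ← mul_assoc, iS, mul_assoc]
      have hncyc : ¬ IsCyclic F.V := by
        intro h
        obtain ⟨v, hv⟩ := IsCyclic.exists_generator (α := F.V)
        have h4 : orderOf v = 4 := by rw [orderOf_eq_card_of_forall_mem_zpowers hv, F.hV4]
        have h2 : orderOf v ∣ 2 := orderOf_dvd_of_pow_eq_one (Subtype.ext (by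
          simpa [sq] using hVexp v.1 v.2))
        rw [h4] at h2
        norm_num at h2
      have hVN : F.V ≤ Subgroup.normalizer (RG : Set G) := fun v hv => by
        refine EightLocal.mem_normalizer_of_conj_mem ?_
        rintro - ⟨w, hw, rfl⟩
        exact ⟨⟨v, hVH v hv⟩ * w * ⟨v, hVH v hv⟩⁻¹, hRH.conj_mem w hw _, rfl⟩
      have key := Coprime.eq_of_forall_centralizer_le hncyc hVN (by
          rw [F.hV4, hRc, show (4 : ℕ) = 2 ^ 2 by norm_num]
          exact hc2.symm.pow_left 2)
        (inf_le_left : RG ⊓ E.φ.range ≤ RG) (by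
          intro v hv hv1 z hz
          refine ⟨hz.1, ?_⟩
          have hzv := Subgroup.mem_centralizer_singleton_iff.1 hz.2
          obtain ⟨g, hg, rfl⟩ := (d.mem_vV fourB).1 hv
          obtain ⟨g', hg'⟩ : ∃ g' : A6, g' * si * g'⁻¹ = g := by
            rcases hg with rfl | rfl | rfl | rfl
            · exact absurd (map_one _) hv1
            · exact ⟨1, by group⟩
            · exact four_conjugates _ (Or.inl rfl)
            · exact four_conjugates _ (Or.inr (Or.inl rfl))
          refine E.cent_t_le (m := p6 g') (inKa_p6 g').2 ?_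
          rw [E.Φ.map_conj (inKa_p6 g').2 even_pI, E.Φ_six, E.Φ_six, ← map_inv, ← map_mul, ← map_mul, hg']
          exact hzv)
      have hR1 : RG = ⊥ := by
        rw [Subgroup.eq_bot_iff_forall]
        exact fun z hz => hRM z hz (key.ge hz).2
      have hRdvd : r ∣ Nat.card (R : Subgroup M) := R.dvd_card_of_dvd_card hrd
      rw [hn, ← hRc, hR1, Subgroup.card_bot] at hRdvd
      exact hr.one_lt.ne' (Nat.dvd_one.1 hRdvd)
    have hMpow : Nat.card M = 2 ^ (Nat.card M).primeFactorsList.length :=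
      Nat.eq_prime_pow_of_unique_prime_dvd Nat.card_pos.ne' fun {r} hr hrd => hodd r hr hrd
    set m := (Nat.card M).primeFactorsList.length
    have hm6 : m ≤ 6 := by
      by_contra hc
      push Not at hc
      exact h128 ((pow_dvd_pow 2 hc).trans (hMpow ▸ Subgroup.card_subgroup_dvd_card M))
    have hindex : Nat.card H = Nat.card M * Nat.card ((H ⧸ Z) ⧸ N) := by
      rw [← Subgroup.card_mul_index M]
      congr 1
      exact Subgroup.index_comap_of_surjective N hπs
    rcases hq with hq | ⟨⟨e⟩⟩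
    · rw [hindex, hq, hMpow]
      have := Nat.pow_le_pow_right (show 2 > 0 by norm_num) hm6
      omega
    · have h6 : Nat.card ((H ⧸ Z) ⧸ N) = 6 := by
        rw [Nat.card_congr e.toEquiv, Nat.card_perm, Nat.card_fin]; rfl
      rw [hindex, h6, hMpow]
      have hm5 : m ≤ 5 := by
        by_contra hc
        push Not at hc
        refine h128 ⟨2 ^ (m - 6) * 3, ?_⟩
        rw [hindex, h6, hMpow, show m = 6 + (m - 6) by omega, pow_add, show 6 + (m - 6) - 6 = m - 6 by omega]
        ring
      have := Nat.pow_le_pow_right (show 2 > 0 by norm_num) hm5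
      omega
  · -- `Alt 5` on top
    exfalso
    haveI := hN
    have h60 : Nat.card ((H ⧸ Z) ⧸ N) = 60 := by
      rw [Nat.card_congr e.toEquiv, nat_card_alternatingGroup, Nat.card_fin]; rfl
    have hfix : ∀ n ∈ N, n * ybar = ybar * n → n = 1 := by
      intro n hn hc
      have hnX : n ∈ X := by
        rw [← hC, Subgroup.mem_centralizer_iff]
        intro r hr
        obtain ⟨i, rfl⟩ := Subgroup.mem_zpowers_iff.1 hr
        exact ((show Commute n ybar from hc).zpow_right i).eq.symm
      have h1 := Nat.dvd_gcd (orderOf_dvd_of_pow_eq_one (hN2 n hn))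
        ((hXc ▸ (Subgroup.orderOf_mk n hnX ▸ orderOf_dvd_natCard _) : orderOf n ∣ 3))
      norm_num at h1
      exact h1
    have hmod := EightLocal.card_mod_three ho3 hfix
    have hNp : ∀ {r : ℕ}, r.Prime → r ∣ Nat.card N → r = 2 := by
      intro r hr hrd
      haveI : Fact r.Prime := ⟨hr⟩
      obtain ⟨x, hx⟩ := exists_prime_orderOf_dvd_card' r hrd
      have h2 : orderOf x ∣ 2 := orderOf_dvd_of_pow_eq_one (Subtype.ext (hN2 x x.2))
      rw [hx] at h2
      exact (Nat.prime_dvd_prime_iff_eq hr Nat.prime_two).1 h2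
    have hNpow := Nat.eq_prime_pow_of_unique_prime_dvd Nat.card_pos.ne' hNp
    set m := (Nat.card N).primeFactorsList.length
    rw [hHq, Subgroup.card_eq_card_quotient_mul_card_subgroup N, h60, hNpow] at h128 h64H
    have hm3 : m = 3 := by
      rcases lt_trichotomy m 3 with h | h | h
      · exfalso
        interval_cases m <;> norm_num at h64H
      · exact h
      · exfalso
        refine h128 ⟨2 ^ (m - 4) * 15, ?_⟩
        rw [show m = 4 + (m - 4) by omega, pow_add, show 4 + (m - 4) - 4 = m - 4 by omega]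
        ring
    rw [hNpow, hm3] at hmod
    norm_num at hmod
  · -- `PSL(2,7)`
    exfalso
    haveI : Fact (Nat.Prime 7) := ⟨by norm_num⟩
    have h168 : Nat.card (Matrix.ProjectiveSpecialLinearGroup (Fin 2) (ZMod 7)) = 168 := by
      rw [PSL2.card_PSL]; simp
    rw [hHq, Nat.card_congr e.toEquiv, h168] at h64H
    norm_num at h64H

include E in
/-- The alternating subgroup is the whole group. -/
theorem range_eq_top : E.φ.range = ⊤ := by
  rw [Subgroup.eq_top_iff']
  intro g
  have sS : Perm.sign pS = 1 := class_inv.2.2.2.1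
  have hs8 : moved pS = 8 := by decide +kernel
  have hpS2 : pS * pS = 1 := by decide +kernel
  haveI : Fact (Nat.Prime 2) := ⟨Nat.prime_two⟩
  have hso : orderOf (E.Φ.f pS) = 2 := orderOf_eq_prime
    (by rw [sq, ← E.Φ.map_mul sS sS, hpS2, E.Φ.map_one]) fun h =>
      (by decide +kernel : pS ≠ 1) (E.Φ.faithful sS h)
  have hto : orderOf (g * d.ψ si * g⁻¹) = 2 := by
    rw [Invol.orderOf_conj_eq, orderOf_injective _ d.inj]
    exact orderOf_eq_prime (by rw [sq, A6Data.fourA.h1]) A6Data.vertices.2.2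
  obtain ⟨i, hio, his, hit⟩ := Invol.exists_common_commuting hso hto (fun h => by
    obtain ⟨u, hu⟩ := isConj_iff.1 h
    refine E.not_fused (u⁻¹ * g) hs8 sS hpS2 ?_
    calc u⁻¹ * g * d.ψ si * (u⁻¹ * g)⁻¹ = u⁻¹ * (g * d.ψ si * g⁻¹) * u := by group
      _ = _ := by rw [← hu]; group)
  obtain ⟨p, hp, hpi⟩ := E.exists_perm (E.centS_le his.eq)
  have hp2 : p * p = 1 := E.Φ.faithful (E.Φ.mul hp hp) (by
    rw [E.Φ.map_mul hp hp, hpi]; exact Invol.mul_self_of_orderOf_two hio)
  have hp1 : p ≠ 1 := fun e => Invol.ne_one_of_orderOf_two hio (by rw [← hpi, e, E.Φ.map_one])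
  refine E.mem_of_fusion ?_
  have hti : g * d.ψ si * g⁻¹ * E.Φ.f p = E.Φ.f p * (g * d.ψ si * g⁻¹) := by
    rw [hpi]; exact hit.symm.eq
  rcases inv_classes hp hp2 hp1 with ⟨m, hm, hmp⟩ | ⟨m, hm, hmp⟩
  · rw [← hmp] at hti
    exact E.cent_t_le hm hti
  · -- move `p` onto the standard involution
    have hX : ∃ m' : P9, Perm.sign m' = 1 ∧ m' * pS * m'⁻¹ = p := by
      obtain ⟨-, cS, cX, -, -, -, -, ⟨-, so⟩, hc⟩ := class_inv
      refine conj_even9 (τ := c[0, 1]) ?_ so (Perm.isConj_iff_cycleType_eq.2 ?_)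
      · rw [hc, mul_inv_cancel_right]
      · rw [← hmp, Perm.cycleType_conj, cS, cX]
    obtain ⟨m', hm', rfl⟩ := hX
    refine E.conj_back (E.mem_range hm') (E.centS_le ?_)
    rw [E.Φ.map_conj hm' sS] at hti
    calc (E.Φ.f m')⁻¹ * (g * d.ψ si * g⁻¹) * E.Φ.f m' * E.Φ.f pS
        = (E.Φ.f m')⁻¹ * ((g * d.ψ si * g⁻¹) * (E.Φ.f m' * E.Φ.f pS * (E.Φ.f m')⁻¹)) * E.Φ.f m' := by group
      _ = (E.Φ.f m')⁻¹ * ((E.Φ.f m' * E.Φ.f pS * (E.Φ.f m')⁻¹) * (g * d.ψ si * g⁻¹)) * E.Φ.f m' := by
          rw [hti]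
      _ = _ := by group

include E in
/-- The group is the alternating group of degree nine. -/
theorem nonempty_mulEquiv : Nonempty (G ≃* alternatingGroup (Fin 9)) :=
  ⟨(MulEquiv.ofBijective E.φ ⟨E.inj, MonoidHom.range_eq_top.1 E.range_eq_top⟩).symm⟩

end Emb

/-- A group with a section of type `Alt 6` in the centraliser of `u1` is the alternating group. -/
theorem A6Data.nonempty_mulEquiv (d : A6Data c) : Nonempty (G ≃* alternatingGroup (Fin 9)) := by
  obtain ⟨E⟩ := d.exists_emb
  exact E.nonempty_mulEquiv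

end Cfsg.Agent.NineRecog
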