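import Cfsg.Agent.Lib.NineRecog.Classes9

/-!
# The centraliser of the four subgroup `⟨(3 4)(6 7), (3 6)(4 7)⟩`
-/

set_option autoImplicit false
set_option synthInstance.maxHeartbeats 200000
set_option synthInstance.maxSize 1024

namespace Cfsg.Agent.NineRecog

open Equiv
open Cfsg Cfsg.Agent.Exceptional.Nine
open A6Data

universe u

variable {G : Type u} [Group G] [Finite G] {c : Cfg G} {d : A6Data c} (E : Emb d)

namespace Emb

/-- The alternating group on `{0, 1, 2, 5, 8}` inside the group. -/
noncomputable def η : A5 →* G :=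
  MonoidHom.mk' (fun g => d.hy * d.ψ (h56 g) * d.hy⁻¹) fun g h => by
    rw [map_mul, map_mul]; group

include E in
theorem η_eq (g : A5) : E.Φ.f (p5 g) = η (d := d) g := by
  rw [p5, E.agree_y, FK_k6]
  rfl

theorem p5_sign (g : A5) : Perm.sign (p5 g) = 1 := by
  rw [p5, map_mul, map_mul, ((inKa_iff _).2 ⟨k6 (h56 g), rfl⟩ : InKa (jK (k6 (h56 g)))).2, mul_one,
    ← map_mul, mul_inv_cancel, map_one]

include E in
theorem η_mem_cV (g : A5) : η (d := d) g ∈ d.cV si si' := by
  rw [← E.η_eq, mem_cV, ← E.Φ_six, ← E.Φ_six]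
  exact ⟨(E.Φ.commute_iff (p5_sign g) even_pI).2 (p5_commutes g).1,
    (E.Φ.commute_iff (p5_sign g) even_pI').2 (p5_commutes g).2⟩

include E in
theorem η_five_mem {O : Subgroup G} {C : Subgroup G} (hOC : O ≤ C) [(O.subgroupOf C).Normal]
    (hC : d.cV si si' ≤ C) {m : ℕ} (hm : (O.subgroupOf C).index = m) (hm5 : Nat.Coprime m 5)
    {g : A5} (hg : g ^ 5 = 1) : η (d := d) g ∈ O := by
  set y : C := ⟨η (d := d) g, hC (E.η_mem_cV g)⟩
  have h5 : y ^ 5 = 1 := Subtype.ext (by
    show η (d := d) g ^ 5 = 1
    rw [← map_pow, hg, map_one])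
  have h1 : (y : C ⧸ O.subgroupOf C) ^ 5 = 1 := by rw [← QuotientGroup.mk_pow, h5]; rfl
  have h2 : (y : C ⧸ O.subgroupOf C) ^ m = 1 := by
    rw [← hm, Subgroup.index_eq_card]
    exact pow_card_eq_one'
  have h3 := pow_gcd_eq_one.2 ⟨h2, h1⟩
  rw [hm5.gcd_eq_one, pow_one] at h3
  exact Subgroup.mem_subgroupOf.1 ((QuotientGroup.eq_one_iff y).1 h3)

include E in
/-- The centraliser of the four subgroup lies in the alternating subgroup. -/
theorem cV_le : d.cV si si' ≤ E.φ.range := by
  classical
  haveI : Fact (Nat.Prime 3) := ⟨Nat.prime_three⟩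
  set F := d.fourCfg fourB with hF
  have hFC : F.C = d.cV si si' := rfl
  have hC240 : Nat.card F.C ≤ 240 := by
    haveI hn : (F.O.subgroupOf F.C).Normal := ⟨fun y hy x => Subgroup.mem_subgroupOf.2 (by
      rw [Subgroup.coe_mul, Subgroup.coe_mul, Subgroup.coe_inv]
      exact F.O_normal x.2 (Subgroup.mem_subgroupOf.1 hy))⟩
    rcases F.cases with hsmall | ⟨-, h⟩ | ⟨h672, -⟩
    · exfalso
      have hidx : (F.O.subgroupOf F.C).index = 3 ∨ (F.O.subgroupOf F.C).index = 6 := by
        have h := Subgroup.card_mul_index (F.O.subgroupOf F.C)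
        rw [Nat.card_congr (Subgroup.subgroupOfEquivOfLe F.O_le).toEquiv] at h
        have hpos : 0 < Nat.card F.O := Nat.card_pos
        rcases hsmall with e | e <;> rw [e] at h
        · exact Or.inl (Nat.eq_of_mul_eq_mul_left hpos h)
        · exact Or.inr (Nat.eq_of_mul_eq_mul_left hpos h)
      obtain ⟨g, h, hg, hh, hgh⟩ := a_two_five
      have hmem : ∀ x : A5, x ^ 5 = 1 → η (d := d) x ∈ F.O := fun x hx => by
        rcases hidx with e | e <;> exact E.η_five_mem F.O_le le_rfl e (by norm_num) hx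
      have ha : c.ι u1 ∈ F.O := by
        rw [← E.agree_W, ← hgh, E.Φ.map_mul (p5_sign g) (p5_sign h), E.η_eq, E.η_eq]
        exact mul_mem (hmem g hg) (hmem h hh)
      have h3 := F.O_coprime.coprime_dvd_left (F.O.orderOf_dvd_natCard ha)
      rw [orderOf_eq_prime A6Data.a_cube A6Data.a_ne_one] at h3
      norm_num at h3
    · refine ((h ?_).1).le
      -- the core lies in the four subgroup
      have hk3 : d.ψ ky ^ 3 = 1 := F.hq
      have hOC : F.O ≤ d.cV si si' := F.O_le
      have hRa : ∀ r ∈ F.O, c.ι u1 * r * (c.ι u1)⁻¹ ∈ F.O := fun r hr => F.O_normal F.haC hr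
      have hwk : ∀ {x r : G}, x ^ 3 = 1 → ∀ n : ℕ, n % 3 ≠ 0 → r * x ^ n = x ^ n * r →
          r * x = x * r := by
        intro x r hx3 n hn hc
        rw [pow_reduce hx3 n] at hc
        rcases (show n % 3 = 1 ∨ n % 3 = 2 by omega) with e | e <;> rw [e] at hc
        · simpa using hc
        · have hc2 : Commute r (x ^ 2) := hc
          have h4 := hc2.pow_right 2
          rw [← pow_mul, pow_reduce hx3] at h4
          simpa using h4.eq
      refine le_of_pair A6Data.a_cube hk3 (d.comm ky).symm A6Data.a_ne_one ?_ F.O_coprime hRa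
        (fun r hr => F.O_q hr) fun i j hne r hr hrx => ?_
      · intro i hi
        have h1 : c.ι u1 ^ (i % 3) ∈ d.ψ.range := ⟨ky, by rw [← pow_reduce A6Data.a_cube]; exact hi⟩
        rcases (show i % 3 = 0 ∨ i % 3 = 1 ∨ i % 3 = 2 by omega) with e | e | e <;> rw [e] at h1
        · exfalso
          rw [pow_reduce A6Data.a_cube, e, pow_zero] at hi
          exact (by decide +kernel : ky ≠ 1) (d.inj (hi.trans (map_one _).symm))
        · exact d.notMem (by simpa using h1)
        · refine d.notMem ?_
          have := mul_mem h1 h1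
          rwa [← pow_add, pow_reduce A6Data.a_cube, show (2 + 2) % 3 = 1 by norm_num, pow_one] at this
      · by_cases hj : j % 3 = 0
        · rw [pow_reduce hk3 j, hj, pow_zero, mul_one] at hne hrx
          refine d.mem_vV_of_comm fourB hOC F.O_coprime hr (hwk A6Data.a_cube i (fun e => hne ?_) hrx)
          rw [pow_reduce A6Data.a_cube, e, pow_zero]
        by_cases hi : i % 3 = 0
        · rw [pow_reduce A6Data.a_cube i, hi, pow_zero, one_mul] at hrx
          have hy := hwk hk3 j hj hrx
          rw [← hy_a] at hy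
          obtain ⟨q, hq, hqx⟩ := d.exists_of_norm (x := d.hy⁻¹ * r * d.hy) (Or.inl (by
            refine mul_inv_eq_iff_eq_mul.2 ?_
            calc d.hy⁻¹ * r * d.hy * c.ι u1 = d.hy⁻¹ * (r * (d.hy * c.ι u1 * d.hy⁻¹)) * d.hy := by group
              _ = d.hy⁻¹ * (d.hy * c.ι u1 * d.hy⁻¹ * r) * d.hy := by rw [hy]
              _ = _ := by group))
          obtain ⟨k, rfl⟩ := (inKa_iff q).1 hq
          rw [Fa_jK] at hqx
          have hr' : E.Φ.f (hP * jK k * hP⁻¹) = r := by rw [E.agree_y, hqx]; group
          have hev : Perm.sign (hP * jK k * hP⁻¹) = 1 := by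
            rw [map_mul, map_mul, hq.2, mul_one, ← map_mul, mul_inv_cancel, map_one]
          obtain ⟨e1, e2⟩ := d.mem_cV.1 (hOC hr)
          rw [← hr', ← E.Φ_six] at e1 e2
          obtain ⟨g, hg⟩ := cent_y k ((E.Φ.commute_iff hev even_pI).1 e1)
            ((E.Φ.commute_iff hev even_pI').1 e2)
          rw [hg, E.η_eq] at hr'
          -- a normal subgroup of the alternating group of degree five
          set N : Subgroup A5 := F.O.comap (η (d := d)) with hN
          haveI hNn : N.Normal := ⟨fun x hx y => by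
            rw [hN, Subgroup.mem_comap, map_mul, map_mul, map_inv]
            exact F.O_normal (E.η_mem_cV y) hx⟩
          haveI : IsSimpleGroup A5 := alternatingGroup.isSimpleGroup (by simp)
          rcases (inferInstance : IsSimpleGroup A5).eq_bot_or_eq_top_of_normal N hNn with hb | ht
          · have hgN : g ∈ N := by rw [hN, Subgroup.mem_comap, hr']; exact hr
            rw [hb, Subgroup.mem_bot] at hgN
            rw [← hr', hgN, map_one]
            exact one_mem _
          · exfalso
            let z : A5 := ⟨c[0, 1, 2], Equiv.Perm.mem_alternatingGroup.2 (by decide +kernel)⟩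
            have hz : η (d := d) z ∈ F.O := Subgroup.mem_comap.1 (show z ∈ N by rw [ht]; trivial)
            have hd : orderOf (η (d := d) z) ∣ 3 := orderOf_dvd_of_pow_eq_one (by
              rw [← map_pow, show z ^ 3 = 1 by decide +kernel, map_one])
            have h1 : η (d := d) z = 1 := orderOf_eq_one_iff.1
              (Nat.eq_one_of_dvd_coprimes F.O_coprime (F.O.orderOf_dvd_natCard hz) hd)
            rw [← E.η_eq] at h1
            have := E.Φ.faithful (p5_sign z) h1
            revert this
            decide +kernel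
        · obtain ⟨g, hg⟩ := conjB
          refine d.mem_vV_of_heavy fourB hOC F.O_coprime hRa (h₀ := g) (v := wB) (tr_mem_T 0 1 0) ?_
            i j ?_ hr hrx
          · rw [hg, map_mul, map_mul, map_inv, d.hz]
          · rw [pow_reduce u1_cube, pow_reduce (show wB ^ 3 = 1 by decide +kernel) j]
            exact heavyB ⟨i % 3, Nat.mod_lt _ (by norm_num)⟩ ⟨j % 3, Nat.mod_lt _ (by norm_num)⟩
              (fun h => hi (congrArg Fin.val h)) fun h => hj (congrArg Fin.val h)
    · exfalso
      let g : A5 := ⟨c[0, 1, 2, 3, 4], Equiv.Perm.mem_alternatingGroup.2 (by decide +kernel)⟩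
      haveI : Fact (Nat.Prime 5) := ⟨by norm_num⟩
      have ho : orderOf (η (d := d) g) = 5 := orderOf_eq_prime
        (by rw [← map_pow, show g ^ 5 = 1 by decide +kernel, map_one]) fun h => by
          rw [← E.η_eq] at h
          have := E.Φ.faithful (p5_sign g) h
          revert this
          decide +kernel
      have h5 := F.C.orderOf_dvd_natCard (E.η_mem_cV g)
      rw [ho, h672] at h5
      norm_num at h5
  -- the product with the alternating group of degree five fills it
  set Cm := d.cV si si' ⊓ E.φ.range with hCm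
  have h240 : 240 ≤ Nat.card Cm := by
    have hsub : ∀ v : A6, inV v → d.ψ v ∈ d.cV si si' := fun v hv =>
      F.hVC ((d.mem_vV fourB).2 ⟨v, hv, rfl⟩)
    have hηr : ∀ g, η (d := d) g ∈ E.φ.range := fun g => by rw [← E.η_eq]; exact E.mem_range (p5_sign g)
    have hψr : ∀ v, d.ψ v ∈ E.φ.range := fun v => by rw [← E.Φ_six]; exact E.mem_range (inKa_p6 v).2
    let f : {v : A6 // inV v} × A5 → Cm := fun x => ⟨d.ψ x.1.1 * η (d := d) x.2,
      mul_mem (hsub _ x.1.2) (E.η_mem_cV x.2), mul_mem (hψr _) (hηr _)⟩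
    have hf : Function.Injective f := by
      rintro ⟨⟨v, hv⟩, g⟩ ⟨⟨w, hw⟩, h⟩ e
      have e' : d.ψ v * η (d := d) g = d.ψ w * η (d := d) h := congrArg Subtype.val e
      have hmem : (w⁻¹ * v) = 1 ∨ (w⁻¹ * v) = si ∨ (w⁻¹ * v) = si' ∨ (w⁻¹ * v) = si * si' := by
        have key : ∀ v w : A6, inV v → inV w → inV (w⁻¹ * v) := by decide +kernel
        exact key v w hv hw
      have e2 : d.ψ (w⁻¹ * v) * η (d := d) (g * h⁻¹) = 1 := by
        rw [map_mul, map_inv, map_mul (η (d := d)), map_inv]
        calc (d.ψ w)⁻¹ * d.ψ v * (η (d := d) g * (η (d := d) h)⁻¹)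
            = (d.ψ w)⁻¹ * (d.ψ v * η (d := d) g) * (η (d := d) h)⁻¹ := by group
          _ = 1 := by rw [e']; group
      rw [← E.Φ_six, ← E.η_eq, ← E.Φ.map_mul (inKa_p6 _).2 (p5_sign _)] at e2
      obtain ⟨r1, r2⟩ := p5_disjoint (g * h⁻¹) _ hmem
        (E.Φ.faithful (E.Φ.mul (inKa_p6 _).2 (p5_sign _)) e2)
      rw [inv_mul_eq_one] at r1
      rw [mul_inv_eq_one] at r2
      subst r1 r2
      rfl
    have h := Nat.card_le_card_of_injective f hf
    rw [Nat.card_prod, nat_card_alternatingGroup, Nat.card_fin,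
      show Nat.card {v : A6 // inV v} = 4 by rw [Nat.card_eq_fintype_card]; decide +kernel] at h
    exact (show 240 = 4 * (Nat.factorial 5 / 2) by decide).le.trans h
  have heq : Cm = d.cV si si' := Subgroup.eq_of_le_of_card_ge inf_le_left (hFC ▸ hC240.trans h240)
  exact heq.symm.le.trans inf_le_right

end Emb

end Cfsg.Agent.NineRecog
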