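import Cfsg.Agent.Lib.NineRecog.KeyBase
import Cfsg.Agent.S3716

/-!
# The two classes of involutions are not fused
-/

set_option autoImplicit false
set_option synthInstance.maxHeartbeats 200000
set_option synthInstance.maxSize 1024

namespace Cfsg.Agent.NineRecog

open Equiv
open Cfsg Cfsg.Agent.Exceptional.Nine

universe u

theorem u1_not_u2 : ∀ g : W, g * u1 * g⁻¹ ≠ u2 ∧ g * u1 * g⁻¹ ≠ u2⁻¹ := by decide +kernel

theorem wX_facts : wX * wX = 1 ∧ wX * u2 = u2 * wX ∧
    (Finset.univ.filter fun g : W => g * wX = wX * g ∧ g * u2 = u2 * g).card % 9 ≠ 0 := by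
  decide +kernel

namespace A6Data

variable {G : Type u} [Group G] [Finite G] {c : Cfg G} (d : A6Data c)

/-- The pair on the stabiliser of `(3 4)(6 7)`. -/
abbrev kI : K36 := k6 si

theorem si_cent_card :
    (Finset.univ.filter fun k : K36 => k * kI = kI * k ∧ k * kA = kA * k).card % 9 ≠ 0 := by
  decide +kernel

/-- An element with two commuting transpositions is not conjugate to one with four. -/
theorem not_conj_wX (g : G) : g * d.ψ si * g⁻¹ ≠ c.ι wX := by
  classical
  intro hg
  have hu2 : c.ι u2 ∈ c.J := c.mem_J.2 (tr_mem_T 0 1 1)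
  have ho : ∀ v : W, v ^ 3 = 1 → v ≠ 1 → orderOf (c.ι v) = 3 := fun v h h1 => by
    rw [orderOf_injective _ c.inj]
    exact orderOf_eq_prime h h1
  refine S3716.not_isConj (N := (⊤ : Subgroup G)) (M := c.J) (d.ψ si) (c.ι wX) (c.ι u1) (c.ι u2)
    c.u1_mem_J (ho u1 u1_cube (by decide +kernel)) (ho u2 (T_cube (tr_mem_T 0 1 1)) (by decide +kernel))
    (fun m hm => c.J_comm hm c.u1_mem_J) (fun h _ => Subgroup.mem_top h) hu2
    (d.comm si).symm (by
      show c.ι u2 * c.ι wX = c.ι wX * c.ι u2
      rw [← map_mul, ← map_mul, wX_facts.2.1]) ?_ ?_ (isConj_iff.2 ⟨g, hg⟩)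
  · rintro x y (⟨rfl, rfl⟩ | ⟨rfl, rfl⟩) h9
    · have hset : ∀ z : G, z ∈ Subgroup.centralizer ({d.ψ si, c.ι u1} : Set G) →
          ∃ k : K36, d.FK k = z ∧ k * kI = kI * k ∧ k * kA = kA * k := by
        intro z hz
        rw [Subgroup.mem_centralizer_iff] at hz
        have h1 := hz _ (Or.inl rfl)
        have h2 := hz _ (Or.inr rfl)
        obtain ⟨p, hp, rfl⟩ := d.exists_of_norm (x := z) (Or.inl (by rw [← h2, mul_inv_cancel_right]))
        obtain ⟨k, rfl⟩ := (inKa_iff p).1 hp
        rw [Fa_jK] at h1 h2 ⊢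
        refine ⟨k, rfl, d.FK_injective ?_, d.FK_injective ?_⟩
        · rw [map_mul, map_mul, FK_k6, h1]
        · rw [map_mul, map_mul, d.FK_gens.1, h2]
      let S : Subgroup K36 := Subgroup.centralizer ({kI, kA} : Set K36)
      have hle : Subgroup.centralizer ({d.ψ si, c.ι u1} : Set G) = S.map d.FK := by
        refine le_antisymm (fun z hz => ?_) ?_
        · obtain ⟨k, hk, h1, h2⟩ := hset z hz
          refine ⟨k, Subgroup.mem_centralizer_iff.2 ?_, hk⟩
          rintro v (rfl | rfl)
          · exact h1.symm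
          · exact h2.symm
        · rintro - ⟨k, hk, rfl⟩
          have hk' := Subgroup.mem_centralizer_iff.1 hk
          refine Subgroup.mem_centralizer_iff.2 ?_
          rintro v (rfl | rfl)
          · rw [← FK_k6, ← map_mul, ← map_mul, hk' _ (Or.inl rfl)]
          · rw [← d.FK_gens.1, ← map_mul, ← map_mul, hk' _ (Or.inr rfl)]
      rw [hle, Subgroup.card_map_of_injective d.FK_injective] at h9
      have hS : Nat.card S =
          (Finset.univ.filter fun k : K36 => k * kI = kI * k ∧ k * kA = kA * k).card := by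
        rw [← Nat.card_eq_finsetCard]
        refine Nat.card_congr (Equiv.subtypeEquivRight fun k => ?_)
        simp [S, Subgroup.mem_centralizer_iff, eq_comm]
      rw [hS] at h9
      exact si_cent_card (Nat.dvd_iff_mod_eq_zero.1 h9)
    · let S : Subgroup W := Subgroup.centralizer ({wX, u2} : Set W)
      have hle : Subgroup.centralizer ({c.ι wX, c.ι u2} : Set G) = S.map c.ι := by
        refine le_antisymm (fun z hz => ?_) ?_
        · rw [Subgroup.mem_centralizer_iff] at hz
          have h1 := hz _ (Or.inl rfl)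
          have h2 := hz _ (Or.inr rfl)
          obtain ⟨w, rfl⟩ := c.centralizer_u2_le (Subgroup.mem_centralizer_singleton_iff.2 h2.symm)
          refine ⟨w, Subgroup.mem_centralizer_iff.2 ?_, rfl⟩
          rintro v (rfl | rfl)
          · exact c.inj (by rw [map_mul, map_mul, h1])
          · exact c.inj (by rw [map_mul, map_mul, h2])
        · rintro - ⟨k, hk, rfl⟩
          have hk' := Subgroup.mem_centralizer_iff.1 hk
          refine Subgroup.mem_centralizer_iff.2 ?_
          rintro v (rfl | rfl)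
          · rw [← map_mul, ← map_mul, hk' _ (Or.inl rfl)]
          · rw [← map_mul, ← map_mul, hk' _ (Or.inr rfl)]
      rw [hle, Subgroup.card_map_of_injective c.inj] at h9
      have hS : Nat.card S = (Finset.univ.filter fun g : W => g * wX = wX * g ∧ g * u2 = u2 * g).card := by
        rw [← Nat.card_eq_finsetCard]
        refine Nat.card_congr (Equiv.subtypeEquivRight fun k => ?_)
        simp [S, Subgroup.mem_centralizer_iff, eq_comm]
      rw [hS] at h9
      exact wX_facts.2.2 (Nat.dvd_iff_mod_eq_zero.1 h9)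
  · intro h _
    have hctl : ∀ v : W, h * c.ι u1 * h⁻¹ = c.ι v → v ∈ T → ∃ w : W, w * u1 * w⁻¹ = v := by
      intro v hv hvT
      obtain ⟨k, ⟨w, rfl⟩, hk⟩ := c.exists_mem_range (g := h) (s := {c.ι u1})
        (by rintro x rfl; exact c.u1_mem_J)
        (by rintro x rfl; rw [hv]; exact c.mem_J.2 hvT)
      exact ⟨w, c.inj (by rw [map_mul, map_mul, map_inv, hk _ rfl, hv])⟩
    refine ⟨fun e => ?_, fun e => ?_⟩
    · obtain ⟨w, hw⟩ := hctl _ e (tr_mem_T 0 1 1)
      exact (u1_not_u2 w).1 hw
    · rw [← map_inv] at e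
      obtain ⟨w, hw⟩ := hctl _ e (inv_mem (tr_mem_T 0 1 1))
      exact (u1_not_u2 w).2 hw

end A6Data

end Cfsg.Agent.NineRecog
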