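import Cfsg.Agent.Lib.NineRecog.BuildTables
import Mathlib.GroupTheory.Perm.Centralizer

/-!
# Tables for the centralisers of involutions of the alternating group of degree nine
-/

set_option autoImplicit false
set_option synthInstance.maxHeartbeats 200000
set_option synthInstance.maxSize 1024

namespace Cfsg.Agent.NineRecog

open Equiv
open Cfsg Cfsg.Agent.Exceptional.Nine
open A6Data

/-- `(3 4)(6 7)`. -/
abbrev pI : P9 := p6 si
/-- `(3 6)(4 7)`. -/
abbrev pI' : P9 := p6 si'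
/-- `(0 1)(3 4)(6 7)(5 8)`. -/
def pS : P9 := c[0, 1] * c[3, 4] * c[6, 7] * c[5, 8]
/-- `(0 3 6)(1 4 7)`. -/
def pD : P9 := c[0, 3, 6] * c[1, 4, 7]
/-- Carries `(3 4 5)(6 7 8)` to `(0 3 6)(1 4 7)`. -/
def mS : P9 := c[0, 8, 7, 4, 3] * c[1, 5, 6]

/-- The alternating group of degree five. -/
abbrev A5 : Subgroup (Perm (Fin 5)) := alternatingGroup (Fin 5)

/-- A shortcut instance. -/
instance instDecidableEqA5' : DecidableEq A5 := inferInstance

/-- Five points among six. -/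
def e56 : Perm (Fin 5) →* Perm (Fin 6) :=
  Equiv.Perm.extendDomainHom (finSuccAboveEquiv (2 : Fin 6))

theorem sign_e56 (g : A5) : Perm.sign (e56 g.1) = 1 :=
  (Perm.sign_extendDomain _ _).trans (Equiv.Perm.mem_alternatingGroup.1 g.2)

/-- The alternating group on `{0, 1, 2, 5, 8}` seen on six points. -/
def h56 : A5 →* A6 where
  toFun g := ⟨e56 g.1, Equiv.Perm.mem_alternatingGroup.2 (sign_e56 g)⟩
  map_one' := Subtype.ext (map_one e56)
  map_mul' g h := Subtype.ext (map_mul e56 g.1 h.1)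

/-- The alternating group on `{0, 1, 2, 5, 8}`. -/
def p5 (g : A5) : P9 := hP * jK (k6 (h56 g)) * hP⁻¹

theorem p5_commutes : ∀ g : A5, p5 g * pI = pI * p5 g ∧ p5 g * pI' = pI' * p5 g := by
  decide +kernel

theorem p5_disjoint : ∀ g : A5, ∀ v : A6, (v = 1 ∨ v = si ∨ v = si' ∨ v = si * si') →
    p6 v * p5 g = 1 → v = 1 ∧ g = 1 := by
  decide +kernel

theorem a_two_five : ∃ g h : A5, g ^ 5 = 1 ∧ h ^ 5 = 1 ∧ p5 g * p5 h = φW wA := by
  decide +kernel

theorem cent_y : ∀ k : K36, hP * jK k * hP⁻¹ * pI = pI * (hP * jK k * hP⁻¹) →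
    hP * jK k * hP⁻¹ * pI' = pI' * (hP * jK k * hP⁻¹) → ∃ g : A5, hP * jK k * hP⁻¹ = p5 g := by
  decide +kernel

theorem ky_eq : hP * jK kA * hP⁻¹ = p6 ky := by decide +kernel

/-- The elements of the four subgroup `V`. -/
def inV (v : A6) : Prop := v = 1 ∨ v = si ∨ v = si' ∨ v = si * si'

instance : DecidablePred inV := fun v => inferInstanceAs (Decidable (_ ∨ _))

theorem inV_facts : ∀ v : A6, inV v → v * v = 1 ∧ v ^ 4 = 1 := by decide +kernel

/-- Pairs of permutations of equal sign, on four and five points. -/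
abbrev K45 : Subgroup (Perm (Fin 4) × Perm (Fin 5)) :=
  (((Equiv.Perm.sign).comp (MonoidHom.fst (Perm (Fin 4)) (Perm (Fin 5)))) *
    ((Equiv.Perm.sign).comp (MonoidHom.snd (Perm (Fin 4)) (Perm (Fin 5))))).ker

/-- A shortcut instance. -/
instance instDecidableEqK45 : DecidableEq K45 := inferInstance

/-- `Sym 4 × Sym 5` on nine points. -/
def sum45 : Perm (Fin 4) × Perm (Fin 5) →* P9 :=
  (Equiv.permCongrHom (finSumFinEquiv (m := 4) (n := 5))).toMonoidHom.comp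
    (Equiv.Perm.sumCongrHom (Fin 4) (Fin 5))

/-- Carries the first four points to `{3, 4, 6, 7}`. -/
def bP : P9 := c[0, 3, 7, 5, 1, 4] * c[2, 6]

/-- The stabiliser of `{3, 4, 6, 7}`. -/
def q45 (k : K45) : P9 := bP * sum45 k.1 * bP⁻¹

theorem sign_sum45 (k : Perm (Fin 4) × Perm (Fin 5)) :
    Perm.sign (sum45 k) = Perm.sign k.1 * Perm.sign k.2 := by
  show Perm.sign ((finSumFinEquiv (m := 4) (n := 5)).permCongr (Perm.sumCongr k.1 k.2)) = _
  rw [Perm.sign_permCongr, Perm.sign_sumCongr]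

theorem supp_I : ∀ x : Fin 9, pI x ≠ x ↔ (bP⁻¹ x).val < 4 := by decide +kernel

theorem exists_q45 {p : P9} (hs : Perm.sign p = 1) (hc : p * pI = pI * p) :
    ∃ k : K45, q45 k = p := by
  set e := finSumFinEquiv (m := 4) (n := 5) with he
  have hmem : ∀ x : Fin 9, x.val < 4 → ((bP⁻¹ * p * bP) x).val < 4 := by
    intro x hx
    have h1 : pI (bP x) ≠ bP x := (supp_I _).2 (by rwa [Perm.inv_def, Equiv.symm_apply_apply])
    refine (supp_I _).1 fun h => h1 (p.injective ?_)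
    calc p (pI (bP x)) = pI (p (bP x)) := DFunLike.congr_fun hc (bP x)
      _ = p (bP x) := h
  have hmaps : Set.MapsTo (e.symm.permCongr (bP⁻¹ * p * bP))
      (Set.range (Sum.inl : Fin 4 → Fin 4 ⊕ Fin 5)) (Set.range Sum.inl) := by
    rintro _ ⟨i, rfl⟩
    refine ⟨⟨((bP⁻¹ * p * bP) (e (Sum.inl i))).val, hmem _ i.2⟩, ?_⟩
    rw [Equiv.permCongr_apply, Equiv.symm_symm, eq_comm, Equiv.symm_apply_eq]
    exact Fin.ext rfl
  obtain ⟨k, hk⟩ := Equiv.Perm.mem_sumCongrHom_range_of_perm_mapsTo_inl hmaps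
  have hp : sum45 k = bP⁻¹ * p * bP := by
    show e.permCongr (Equiv.Perm.sumCongrHom _ _ k) = _
    rw [hk]
    exact e.permCongr.apply_symm_apply _
  refine ⟨⟨k, ?_⟩, ?_⟩
  · have h := sign_sum45 k
    rw [hp, map_mul, map_mul, hs, mul_one, ← map_mul, inv_mul_cancel, map_one] at h
    exact h.symm
  · show bP * sum45 k * bP⁻¹ = p
    rw [hp]; group

/-- The number of moved points. -/
def moved (p : P9) : ℕ := (Finset.univ.filter fun x : Fin 9 => p x ≠ x).card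

theorem fours_I : ∀ k : K45, q45 k * pI = pI * q45 k → q45 k * q45 k = 1 → moved (q45 k) = 4 →
    moved (pI * q45 k) = 4 → q45 k = pI' ∨ q45 k = pI * pI' ∨
      ∃ l : K45, q45 l * pI = pI * q45 l ∧ q45 l * p6 sj * (q45 l)⁻¹ = q45 k := by
  decide +kernel

theorem pow_four_I : ∀ k : K45, q45 k * pI = pI * q45 k →
    q45 k ^ 4 * pI' = pI' * q45 k ^ 4 := by
  decide +kernel

theorem sign_q45 (k : K45) : Perm.sign (q45 k) = 1 := by
  rw [q45, map_mul, map_mul, sign_sum45, show Perm.sign k.1.1 * Perm.sign k.1.2 = 1 from k.2,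
    mul_one, ← map_mul, mul_inv_cancel, map_one]

theorem swap_V : InKa (jK kU) ∧ jK kU * pI * (jK kU)⁻¹ = pI ∧
    jK kU * pI' * (jK kU)⁻¹ = pI * pI' ∧ si * si' = si' * si := by
  decide +kernel

theorem class_inv : pI.cycleType = {2, 2} ∧ pS.cycleType = {2, 2, 2, 2} ∧
    (φW wX).cycleType = {2, 2, 2, 2} ∧ Perm.sign pS = 1 ∧ moved pI = 4 ∧ moved (φW wX) = 8 ∧
    ((c[3, 4] : P9) * pI * c[3, 4]⁻¹ = pI ∧ Perm.sign (c[3, 4] : P9) = -1) ∧
    ((c[0, 1] : P9) * φW wX * c[0, 1]⁻¹ = φW wX ∧ Perm.sign (c[0, 1] : P9) = -1) ∧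
    (c[0, 1] : P9) * pS = pS * c[0, 1] := by
  decide +kernel

theorem mS_facts : Perm.sign mS = 1 ∧ mS * φW u2 * mS⁻¹ = pD ∧ mS * φW wX * mS⁻¹ = pS ∧
    Perm.sign pD = 1 ∧ pD ^ 3 = 1 ∧ pD ≠ 1 ∧ pD * pS = pS * pD ∧ (pD * pS) ^ 3 ≠ 1 ∧
    pI * pS = pS * pI ∧ pI' * pS = pS * pI' := by
  decide +kernel

theorem cent_dS : ∀ w : W, w * u2 = u2 * w → w * wX = wX * w →
    ∃ n : Fin 6, w = (u2 * wX) ^ (n : ℕ) := by
  decide +kernel

end Cfsg.Agent.NineRecog
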