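import Cfsg.Agent.Lib.NineRecog.Build
import Cfsg.Agent.Lib.NineRecog.TopTables

/-!
# Involutions of the embedded alternating group
-/

set_option autoImplicit false
set_option synthInstance.maxHeartbeats 200000
set_option synthInstance.maxSize 1024

namespace Cfsg.Agent.NineRecog

open Equiv
open Cfsg Cfsg.Agent.Exceptional.Nine
open A6Data

universe u

theorem conj_even9 {u p τ : P9} (hτ : τ * u * τ⁻¹ = u) (hsτ : Perm.sign τ = -1) (h : IsConj u p) :
    ∃ g : P9, Perm.sign g = 1 ∧ g * u * g⁻¹ = p := by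
  obtain ⟨σ, hσ⟩ := isConj_iff.1 h
  rcases Int.units_eq_one_or (Perm.sign σ) with hs | hs
  · exact ⟨σ, hs, hσ⟩
  · refine ⟨σ * τ, ?_, ?_⟩
    · rw [map_mul, hs, hsτ]; decide
    · rw [show σ * τ * u * (σ * τ)⁻¹ = σ * (τ * u * τ⁻¹) * σ⁻¹ by group, hτ, hσ]

theorem moved_conj (g p : P9) : moved (g * p * g⁻¹) = moved p := by
  unfold moved
  rw [← Perm.support, ← Perm.support, Perm.card_support_conj]

/-- The two classes of involutions. -/
theorem inv_classes {p : P9} (hs : Perm.sign p = 1) (h2 : p * p = 1) (h1 : p ≠ 1) :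
    (∃ g : P9, Perm.sign g = 1 ∧ g * pI * g⁻¹ = p) ∨
      ∃ g : P9, Perm.sign g = 1 ∧ g * φW wX * g⁻¹ = p := by
  haveI : Fact (Nat.Prime 2) := ⟨Nat.prime_two⟩
  obtain ⟨cI, -, cX, -, -, -, ⟨oI, sI⟩, ⟨oX, sX⟩, -⟩ := class_inv
  have ho : orderOf p = 2 := orderOf_eq_prime (by rw [sq, h2]) h1
  obtain ⟨n, hn⟩ := Equiv.Perm.cycleType_prime_order (σ := p) (by rw [ho]; exact Nat.prime_two)
  rw [ho] at hn
  have hle := p.sum_cycleType_le
  rw [hn, Multiset.sum_replicate, Fintype.card_fin, smul_eq_mul] at hle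
  rw [Perm.sign_of_cycleType, hn] at hs
  have hn' : n = 0 ∨ n = 1 ∨ n = 2 ∨ n = 3 := by omega
  rcases hn' with rfl | rfl | rfl | rfl
  · exact absurd hs (by decide)
  · exact Or.inl (conj_even9 oI sI (Perm.isConj_iff_cycleType_eq.2 (cI.trans hn.symm)))
  · exact absurd hs (by decide)
  · exact Or.inr (conj_even9 oX sX (Perm.isConj_iff_cycleType_eq.2 (cX.trans hn.symm)))

variable {G : Type u} [Group G] [Finite G] {c : Cfg G} {d : A6Data c} (E : Emb d)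

namespace Emb

theorem mem_range {p : P9} (h : Perm.sign p = 1) : E.Φ.f p ∈ E.φ.range :=
  ⟨⟨p, Equiv.Perm.mem_alternatingGroup.2 h⟩, (E.Φ_apply _).symm⟩

theorem exists_perm {x : G} (hx : x ∈ E.φ.range) : ∃ p : P9, Perm.sign p = 1 ∧ E.Φ.f p = x := by
  obtain ⟨g, rfl⟩ := hx
  exact ⟨g.1, Equiv.Perm.mem_alternatingGroup.1 g.2, E.Φ_apply g⟩

theorem range_le : c.ι.range ≤ E.φ.range := by
  rintro - ⟨w, rfl⟩
  rw [← E.agree_W]
  exact E.mem_range (φW_sign w)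

theorem Φ_six (g : A6) : E.Φ.f (p6 g) = d.ψ g :=
  (E.agree_a (inKa_p6 g)).trans (d.Fa_six' g)

theorem even_pI : Perm.sign pI = 1 := (inKa_p6 si).2

theorem even_pI' : Perm.sign pI' = 1 := (inKa_p6 si').2

theorem conj_back {x z : G} (hz : z ∈ E.φ.range) (hx : z⁻¹ * x * z ∈ E.φ.range) : x ∈ E.φ.range := by
  have := mul_mem (mul_mem hz hx) (inv_mem hz)
  rwa [show z * (z⁻¹ * x * z) * z⁻¹ = x by group] at this

theorem cent_three_perm {p : P9} (hs : Perm.sign p = 1) (h3 : p ^ 3 = 1) (h1 : p ≠ 1) {x : G}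
    (hx : x * E.Φ.f p = E.Φ.f p * x) : x ∈ E.φ.range := by
  have hp := E.cent_three ⟨p, Equiv.Perm.mem_alternatingGroup.2 hs⟩ (Subtype.ext h3)
    fun e => h1 (congrArg Subtype.val e)
  refine hp (Subgroup.mem_centralizer_singleton_iff.2 ?_)
  rw [← E.Φ_apply]
  exact hx

/-- The classes are not fused. -/
theorem not_fused (g : G) {p : P9} (hp : moved p = 8) (hs : Perm.sign p = 1) (h2 : p * p = 1) :
    g * d.ψ si * g⁻¹ ≠ E.Φ.f p := by
  intro h
  have h1 : p ≠ 1 := fun e => by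
    rw [e] at hp
    simp [moved] at hp
  rcases inv_classes hs h2 h1 with ⟨m, -, rfl⟩ | ⟨m, hm, rfl⟩
  · rw [moved_conj, class_inv.2.2.2.2.1] at hp
    omega
  · rw [E.Φ.map_conj hm (φW_sign wX), E.agree_W] at h
    refine d.not_conj_wX ((E.Φ.f m)⁻¹ * g) ?_
    calc (E.Φ.f m)⁻¹ * g * d.ψ si * ((E.Φ.f m)⁻¹ * g)⁻¹
        = (E.Φ.f m)⁻¹ * (g * d.ψ si * g⁻¹) * E.Φ.f m := by group
      _ = _ := by rw [h]; group

/-- A conjugate of `(3 4)(6 7)` in the alternating subgroup moves four points. -/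
theorem moved_of_fused {g : G} {p : P9} (hs : Perm.sign p = 1) (h : g * d.ψ si * g⁻¹ = E.Φ.f p) :
    p * p = 1 ∧ moved p = 4 ∧ ∃ m : P9, Perm.sign m = 1 ∧ m * pI * m⁻¹ = p := by
  have hsi : d.ψ si * d.ψ si = 1 := by rw [← map_mul, A6Data.fourA.h1, map_one]
  have hpp : Even9 (p * p) := E.Φ.mul hs hs
  have h2 : p * p = 1 := E.Φ.faithful hpp (by
    rw [E.Φ.map_mul hs hs, ← h,
      show g * d.ψ si * g⁻¹ * (g * d.ψ si * g⁻¹) = g * (d.ψ si * d.ψ si) * g⁻¹ by group, hsi]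
    group)
  have h1 : p ≠ 1 := fun e => by
    rw [e, E.Φ.map_one, conj_eq_one_iff, ← map_one d.ψ] at h
    exact A6Data.vertices.2.2 (d.inj h)
  rcases inv_classes hs h2 h1 with ⟨m, hm, hmp⟩ | ⟨m, -, hmp⟩
  · exact ⟨h2, by rw [← hmp, moved_conj, class_inv.2.2.2.2.1], m, hm, hmp⟩
  · exact absurd h (E.not_fused g (by rw [← hmp, moved_conj, class_inv.2.2.2.2.2.1]) hs h2)

end Emb

end Cfsg.Agent.NineRecog
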