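import Cfsg.Agent.S3331
import Cfsg.Agent.Lib.PCore.Basic
import Cfsg.Agent.Lib.Coprime.Generation
import Cfsg.Agent.Lib.EightLocal.CentT

/-!
# The centraliser of a four subgroup with a self-centralising element of order three modulo it
-/

set_option autoImplicit false
set_option synthInstance.maxHeartbeats 200000
set_option synthInstance.maxSize 1024

namespace Cfsg.Agent.NineRecog

open Equiv

universe u

variable {G : Type u} [Group G] [Finite G]

omit [Finite G] in
/-- Two commuting elements of order three generate a 3-group of products of powers. -/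
def pairGroup (a q : G) (ha : a ^ 3 = 1) (hq : q ^ 3 = 1) (h : Commute a q) : Subgroup G where
  carrier := {x | ∃ i j : ℕ, x = a ^ i * q ^ j}
  one_mem' := ⟨0, 0, by simp⟩
  mul_mem' := by
    rintro x y ⟨i, j, rfl⟩ ⟨k, l, rfl⟩
    refine ⟨i + k, j + l, ?_⟩
    rw [pow_add, pow_add, mul_assoc (a ^ i), ← mul_assoc (q ^ j), (h.pow_pow k j).symm.eq]
    group
  inv_mem' := by
    rintro x ⟨i, j, rfl⟩
    refine ⟨2 * i, 2 * j, inv_eq_of_mul_eq_one_right ?_⟩
    rw [mul_assoc, ← mul_assoc (q ^ j), (h.pow_pow (2 * i) j).symm.eq, mul_assoc, ← pow_add,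
      ← mul_assoc, ← pow_add, show i + 2 * i = 3 * i by ring, show j + 2 * j = 3 * j by ring,
      pow_mul, pow_mul, ha, hq]
    simp

omit [Finite G] in
theorem pairGroup_cube (a q : G) (ha : a ^ 3 = 1) (hq : q ^ 3 = 1) (h : Commute a q) {x : G}
    (hx : x ∈ pairGroup a q ha hq h) : x ^ 3 = 1 := by
  obtain ⟨i, j, rfl⟩ := hx
  rw [(h.pow_pow i j).mul_pow, ← pow_mul, ← pow_mul, mul_comm i, mul_comm j, pow_mul, pow_mul, ha, hq]
  simp

omit [Finite G] in
theorem mul_pow_normalises {R : Subgroup G} {a q : G} (ha : ∀ r ∈ R, a * r * a⁻¹ ∈ R)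
    (hq : ∀ r ∈ R, q * r * q⁻¹ ∈ R) (i j : ℕ) : ∀ r ∈ R, a ^ i * q ^ j * r * (a ^ i * q ^ j)⁻¹ ∈ R := by
  have hp : ∀ (y : G), (∀ r ∈ R, y * r * y⁻¹ ∈ R) → ∀ n : ℕ, ∀ r ∈ R, y ^ n * r * (y ^ n)⁻¹ ∈ R := by
    intro y hy n
    induction n with
    | zero => intro r hr; simpa using hr
    | succ n ih =>
      intro r hr
      have := hy _ (ih r hr)
      rw [pow_succ', mul_inv_rev]
      simpa [mul_assoc] using this
  intro r hr
  have := hp a ha i _ (hp q hq j r hr)
  simpa [mul_assoc] using this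

/-- A subgroup of order prime to three is generated by the centralisers of a pair. -/
theorem le_of_pair {a q : G} (ha : a ^ 3 = 1) (hq : q ^ 3 = 1) (h : Commute a q)
    (ha1 : a ≠ 1) (hqa : ∀ i : ℕ, q ≠ a ^ i) {R S : Subgroup G} (hR : (Nat.card R).Coprime 3)
    (hRa : ∀ r ∈ R, a * r * a⁻¹ ∈ R) (hRq : ∀ r ∈ R, q * r * q⁻¹ ∈ R)
    (hgen : ∀ i j : ℕ, a ^ i * q ^ j ≠ 1 → ∀ r ∈ R, r * (a ^ i * q ^ j) = a ^ i * q ^ j * r → r ∈ S) :
    R ≤ S := by
  haveI : Fact (Nat.Prime 3) := ⟨Nat.prime_three⟩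
  set A := pairGroup a q ha hq h
  haveI : IsMulCommutative A := ⟨⟨fun x y => by
    obtain ⟨i, j, hx⟩ := x.2
    obtain ⟨k, l, hy⟩ := y.2
    apply Subtype.ext
    rw [Subgroup.coe_mul, Subgroup.coe_mul, hx, hy]
    have hc : Commute (a ^ i * q ^ j) (a ^ k * q ^ l) :=
      ((Commute.pow_pow_self a i k).mul_right (h.pow_pow i l)).mul_left
        ((h.symm.pow_pow j k).mul_right (Commute.pow_pow_self q j l))
    exact hc.eq⟩⟩
  have haA : a ∈ A := ⟨1, 0, by simp⟩
  have hqA : q ∈ A := ⟨0, 1, by simp⟩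
  have hA : ¬ IsCyclic A := by
    intro hcy
    obtain ⟨v, hv⟩ := IsCyclic.exists_generator (α := A)
    have hv3 : v ^ 3 = 1 := Subtype.ext (by simpa using pairGroup_cube a q ha hq h v.2)
    have h3 : Nat.card A ≤ 3 := by
      rw [← orderOf_eq_card_of_forall_mem_zpowers hv]
      exact Nat.le_of_dvd (by norm_num) (orderOf_dvd_of_pow_eq_one hv3)
    have hle : Subgroup.zpowers a ≤ A := Subgroup.zpowers_le.2 haA
    have hqz : q ∈ Subgroup.zpowers a := by
      rw [Subgroup.eq_of_le_of_card_ge hle (by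
        rw [Nat.card_zpowers, orderOf_eq_prime ha ha1]; exact h3)]
      exact hqA
    classical
    obtain ⟨i, -, hi⟩ := Finset.mem_image.1 ((mem_zpowers_iff_mem_range_orderOf).1 hqz)
    exact hqa i hi.symm
  have hA3 : IsPGroup 3 A := fun x => ⟨1, Subtype.ext (by
    simpa using pairGroup_cube a q ha hq h x.2)⟩
  have hAR : A ≤ Subgroup.normalizer (R : Set G) := by
    rintro x ⟨i, j, rfl⟩
    exact EightLocal.mem_normalizer_of_conj_mem (mul_pow_normalises hRa hRq i j)
  obtain ⟨n, hn⟩ := IsPGroup.iff_card.1 hA3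
  have key := Coprime.eq_of_forall_centralizer_le hA hAR (by rw [hn]; exact hR.symm.pow_left n)
    (inf_le_left : R ⊓ S ≤ R) (by
      rintro x ⟨i, j, rfl⟩ hx1 r hr
      exact ⟨hr.1, hgen i j hx1 r hr.1 (Subgroup.mem_centralizer_singleton_iff.1 hr.2)⟩)
  exact key.ge.trans inf_le_right

/-- A Sylow subgroup fixed by a pair. -/
theorem exists_fixed_sylow {p : ℕ} [Fact p.Prime] (C : Subgroup G) {a q : G} (ha : a ^ 3 = 1)
    (hq : q ^ 3 = 1) (h : Commute a q) (haC : ∀ x ∈ C, a * x * a⁻¹ ∈ C)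
    (hqC : ∀ x ∈ C, q * x * q⁻¹ ∈ C) (hn : ¬ 3 ∣ Nat.card (Sylow p C)) :
    ∃ S : Sylow p C, (∀ r ∈ (S : Subgroup C).map C.subtype, a * r * a⁻¹ ∈ (S : Subgroup C).map C.subtype) ∧
      (∀ r ∈ (S : Subgroup C).map C.subtype, q * r * q⁻¹ ∈ (S : Subgroup C).map C.subtype) := by
  haveI : Fact (Nat.Prime 3) := ⟨Nat.prime_three⟩
  set A := pairGroup a q ha hq h
  have hA3 : IsPGroup 3 A := fun x => ⟨1, Subtype.ext (by
    simpa using pairGroup_cube a q ha hq h x.2)⟩
  have hAC : A ≤ Subgroup.normalizer (C : Set G) := by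
    rintro x ⟨i, j, rfl⟩
    exact EightLocal.mem_normalizer_of_conj_mem (mul_pow_normalises haC hqC i j)
  let f : A →* MulAut C := C.normalizerMonoidHom.comp (Subgroup.inclusion hAC)
  letI : MulAction A (Sylow p C) := MulAction.compHom (Sylow p C) f
  obtain ⟨S, hS⟩ := hA3.nonempty_fixed_point_of_prime_not_dvd_card (Sylow p C) hn
  refine ⟨S, ?_, ?_⟩
  all_goals
    rintro r ⟨y, hy, rfl⟩
  · have h1 : f ⟨a, 1, 0, by simp⟩ • S = S := hS ⟨a, 1, 0, by simp⟩
    have hm : f ⟨a, 1, 0, by simp⟩ y ∈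
        ((f ⟨a, 1, 0, by simp⟩ • S : Sylow p C) : Subgroup C) := ⟨y, hy, rfl⟩
    rw [h1] at hm
    exact ⟨_, hm, rfl⟩
  · have h1 : f ⟨q, 0, 1, by simp⟩ • S = S := hS ⟨q, 0, 1, by simp⟩
    have hm : f ⟨q, 0, 1, by simp⟩ y ∈
        ((f ⟨q, 0, 1, by simp⟩ • S : Sylow p C) : Subgroup C) := ⟨y, hy, rfl⟩
    rw [h1] at hm
    exact ⟨_, hm, rfl⟩

theorem klein_five : ∀ x y : alternatingGroup (Fin 5), (x.1 4 = 4 ∧ x * x = 1) → (y.1 4 = 4 ∧ y * y = 1) →
    (x * y).1 4 = 4 ∧ x * y * (x * y) = 1 := by decide +kernel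

/-- The four subgroup of the alternating group of degree five. -/
def K4 : Subgroup (alternatingGroup (Fin 5)) where
  carrier := {x | x.1 4 = 4 ∧ x * x = 1}
  one_mem' := ⟨rfl, mul_one 1⟩
  mul_mem' {x y} := klein_five x y
  inv_mem' {x} hx := by rw [inv_eq_of_mul_eq_one_right hx.2]; exact hx

instance : DecidablePred (· ∈ K4) := fun x => inferInstanceAs (Decidable (x.1 4 = 4 ∧ x * x = 1))

theorem K4_facts : Nat.card K4 = 4 ∧ ∃ z : alternatingGroup (Fin 5), z ^ 3 = 1 ∧ z ≠ 1 ∧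
    ∀ x ∈ K4, z * x * z⁻¹ ∈ K4 := by
  refine ⟨?_, ⟨⟨c[0, 1, 2], Perm.mem_alternatingGroup.2 (by decide +kernel)⟩, ?_⟩⟩
  · rw [Nat.card_eq_fintype_card]; decide +kernel
  · decide +kernel

/-- The configuration: a four subgroup, its centraliser, and a self-centralising element modulo it. -/
structure FourCfg (G : Type u) [Group G] where
  /-- The centraliser. -/
  C : Subgroup G
  /-- The four subgroup. -/
  V : Subgroup G
  /-- The element of order three. -/
  a : G
  /-- An operator. -/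
  q : G
  hVC : V ≤ C
  hV4 : Nat.card V = 4
  hcent : ∀ v ∈ V, ∀ x ∈ C, v * x = x * v
  ha : a ^ 3 = 1
  ha1 : a ≠ 1
  haC : a ∈ C
  hq : q ^ 3 = 1
  hqC : ∀ x ∈ C, q * x * q⁻¹ ∈ C
  hCa : ∀ x ∈ C, x * a = a * x → ∃ i : ℕ, ∃ v ∈ V, x = a ^ i * v

namespace FourCfg

variable (F : FourCfg G)

/-- The core of order prime to three. -/
def O : Subgroup G := (pPrimeCore 3 F.C).map F.C.subtype

theorem O_le : F.O ≤ F.C := Subgroup.map_subtype_le _

theorem O_coprime : (Nat.card F.O).Coprime 3 := by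
  rw [O, Subgroup.card_map_of_injective F.C.subtype_injective]
  exact PCore.coprime_card_pPrimeCore

theorem O_normal {x r : G} (hx : x ∈ F.C) (hr : r ∈ F.O) : x * r * x⁻¹ ∈ F.O := by
  obtain ⟨y, hy, rfl⟩ := hr
  exact ⟨⟨x, hx⟩ * y * ⟨x, hx⟩⁻¹, (inferInstance : (pPrimeCore 3 F.C).Normal).conj_mem y hy _, rfl⟩

theorem O_q {r : G} (hr : r ∈ F.O) : F.q * r * F.q⁻¹ ∈ F.O := by
  set K := F.O.map (MulAut.conj F.q).toMonoidHom with hK
  have hKC : K ≤ F.C := by
    rintro - ⟨y, hy, rfl⟩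
    exact F.hqC y (F.O_le hy)
  have hq2 : ∀ x ∈ F.C, F.q⁻¹ * x * F.q ∈ F.C := by
    intro x hx
    have e : F.q⁻¹ = F.q * F.q := by
      refine inv_eq_of_mul_eq_one_right ?_
      rw [← pow_three, F.hq]
    have := F.hqC _ (F.hqC x hx)
    rwa [show F.q⁻¹ * x * F.q = F.q * (F.q * x * F.q⁻¹) * F.q⁻¹ by
      rw [show F.q * (F.q * x * F.q⁻¹) * F.q⁻¹ = F.q * F.q * x * (F.q * F.q)⁻¹ by group, ← e, inv_inv]]
  haveI : (K.subgroupOf F.C).Normal := by
    refine ⟨fun y hy g => ?_⟩
    obtain ⟨o, ho, hoy⟩ := Subgroup.mem_subgroupOf.1 hy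
    refine Subgroup.mem_subgroupOf.2 ⟨F.q⁻¹ * g * F.q * o * (F.q⁻¹ * g * F.q)⁻¹,
      F.O_normal (hq2 g g.2) ho, ?_⟩
    show F.q * _ * F.q⁻¹ = _
    have hoy' : F.q * o * F.q⁻¹ = (y : G) := hoy
    rw [Subgroup.coe_mul, Subgroup.coe_mul, Subgroup.coe_inv, ← hoy']
    group
  have hle : K.subgroupOf F.C ≤ pPrimeCore 3 F.C := PCore.le_pPrimeCore (by
    rw [Nat.card_congr (Subgroup.subgroupOfEquivOfLe hKC).toEquiv, hK,
      Subgroup.card_map_of_injective (MulAut.conj F.q).injective]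
    exact F.O_coprime)
  exact ⟨⟨_, hKC ⟨r, hr, rfl⟩⟩, hle (Subgroup.mem_subgroupOf.2 ⟨r, hr, rfl⟩), rfl⟩

/-- The three possibilities. -/
theorem cases :
    (Nat.card F.C = Nat.card F.O * 3 ∨ Nat.card F.C = Nat.card F.O * 6) ∨
    ((Nat.card F.C ∣ 60 * Nat.card F.O) ∧ ((F.O ≤ F.V) →
      Nat.card F.C = 240 ∧ ¬ 3 ∣ Nat.card (Sylow 2 F.C))) ∨
    (Nat.card F.C = 672 ∧ ¬ 3 ∣ Nat.card (Sylow 7 F.C)) := by
  classical
  haveI : Fact (Nat.Prime 3) := ⟨Nat.prime_three⟩
  haveI : Fact (Nat.Prime 2) := ⟨Nat.prime_two⟩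
  set V' := F.V.subgroupOf F.C with hV'
  haveI hVn : V'.Normal := ⟨fun y hy g => by
    have h := F.hcent _ (Subgroup.mem_subgroupOf.1 hy) g g.2
    refine Subgroup.mem_subgroupOf.2 ?_
    rw [Subgroup.coe_mul, Subgroup.coe_mul, Subgroup.coe_inv, ← h, mul_inv_cancel_right]
    exact Subgroup.mem_subgroupOf.1 hy⟩
  have hV'4 : Nat.card V' = 4 := by
    rw [hV', Nat.card_congr (Subgroup.subgroupOfEquivOfLe F.hVC).toEquiv, F.hV4]
  have hVpow : ∀ v ∈ F.V, v ^ 4 = 1 := fun v hv => by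
    have := congrArg Subtype.val (pow_card_eq_one' (x := (⟨v, hv⟩ : F.V)))
    rwa [F.hV4] at this
  set aC : F.C := ⟨F.a, F.haC⟩
  set f := QuotientGroup.mk' V' with hf
  have hfs : Function.Surjective f := QuotientGroup.mk'_surjective V'
  have hone : ∀ x : F.C, f x = 1 ↔ (x : G) ∈ F.V := fun x =>
    (QuotientGroup.eq_one_iff x).trans Subgroup.mem_subgroupOf
  have hb1 : f aC ≠ 1 := by
    intro h
    have h4 := hVpow _ ((hone aC).1 h)
    have h1 : F.a ^ 1 = 1 := pow_gcd_eq_one.2 ⟨F.ha, h4⟩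
    exact F.ha1 (by simpa using h1)
  have hb3 : f aC ^ 3 = 1 := by
    rw [← map_pow, show aC ^ 3 = 1 from Subtype.ext (by simpa [aC] using F.ha), map_one]
  set X := Subgroup.zpowers (f aC)
  have hXc : Nat.card X = 3 := by rw [Nat.card_zpowers, orderOf_eq_prime hb3 hb1]
  have hC : Subgroup.centralizer (X : Set (F.C ⧸ V')) = X := by
    refine le_antisymm (fun y hy => ?_) (fun y hy => ?_)
    · obtain ⟨x, rfl⟩ := hfs y
      have hc : f aC * f x = f x * f aC :=
        Subgroup.mem_centralizer_iff.1 hy _ (Subgroup.mem_zpowers _)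
      have hv : ((x * aC * x⁻¹ * aC⁻¹ : F.C) : G) ∈ F.V := (hone _).1 (by
        rw [map_mul, map_mul, map_mul, map_inv, map_inv, ← hc]; group)
      set v : G := ((x * aC * x⁻¹ * aC⁻¹ : F.C) : G) with hvdef
      have hva : x.1 * F.a * (x.1)⁻¹ = v * F.a := by
        simp [hvdef, aC]
      have hv3 : v ^ 3 = 1 := by
        have hcv : Commute v F.a := F.hcent v hv F.a F.haC
        have h := congrArg (· ^ 3) hva
        simp only [conj_pow, hcv.mul_pow, F.ha] at h
        simpa using h.symm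
      have hv1 : v = 1 := by simpa using pow_gcd_eq_one.2 ⟨hv3, hVpow v hv⟩
      rw [hv1, one_mul, mul_inv_eq_iff_eq_mul] at hva
      obtain ⟨i, w, hw, hxw⟩ := F.hCa x x.2 hva
      have hxeq : x = aC ^ i * ⟨w, F.hVC hw⟩ := Subtype.ext (by simpa [aC] using hxw)
      rw [hxeq, map_mul, (hone ⟨w, F.hVC hw⟩).2 hw, mul_one, map_pow]
      exact pow_mem (Subgroup.mem_zpowers _) _
    · rw [Subgroup.mem_centralizer_iff]
      intro r hr
      obtain ⟨i, rfl⟩ := Subgroup.mem_zpowers_iff.1 hy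
      obtain ⟨j, rfl⟩ := Subgroup.mem_zpowers_iff.1 hr
      exact zpow_mul_comm (f aC) j i
  have hcard := Subgroup.card_eq_card_quotient_mul_card_subgroup V'
  rw [hV'4] at hcard
  -- the preimage of a normal subgroup of order prime to three lies in the core
  have hle : ∀ N : Subgroup (F.C ⧸ V'), N.Normal → (Nat.card N).Coprime 3 →
      N.comap f ≤ pPrimeCore 3 F.C := by
    intro N hN h3
    haveI := hN.comap f
    refine PCore.le_pPrimeCore ?_
    have hd := PCore.card_comap_dvd f N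
    rw [hf, QuotientGroup.ker_mk', hV'4] at hd
    exact (Nat.Coprime.mul_left (by norm_num) h3).coprime_dvd_left hd
  have hOc : Nat.card F.O = Nat.card (pPrimeCore 3 F.C) :=
    Subgroup.card_map_of_injective F.C.subtype_injective
  have hCO := Subgroup.card_mul_index (pPrimeCore 3 F.C)
  rw [← hOc] at hCO
  have h3C : 3 ∣ Nat.card F.C := by
    have := F.C.orderOf_dvd_natCard F.haC
    rwa [orderOf_eq_prime F.ha F.ha1] at this
  have hidx : ∀ N : Subgroup (F.C ⧸ V'), N.Normal → (Nat.card N).Coprime 3 →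
      (pPrimeCore 3 F.C).index ∣ N.index := fun N hN h3 => by
    rw [← Subgroup.index_comap_of_surjective N hfs]
    exact Subgroup.index_dvd_of_le (hle N hN h3)
  rcases S3331.result X hXc hC with ⟨N, hN, -, hcop, hq⟩ | ⟨N, hN, -, hN2, ⟨e⟩⟩ | ⟨⟨e⟩⟩
  · left
    have h6 : N.index ∣ 6 := by
      rw [Subgroup.index_eq_card]
      rcases hq with h | ⟨⟨e⟩⟩
      · rw [h]; norm_num
      · rw [Nat.card_congr e.toEquiv, Nat.card_perm, Nat.card_fin]; rfl
    have h := (hidx N hN hcop).trans h6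
    have h3i : 3 ∣ (pPrimeCore 3 F.C).index := by
      rcases Nat.prime_three.dvd_mul.1 (hCO ▸ h3C) with h' | h'
      · exact absurd h' ((Nat.prime_three.coprime_iff_not_dvd).1 F.O_coprime.symm)
      · exact h'
    have hm : (pPrimeCore 3 F.C).index = 3 ∨ (pPrimeCore 3 F.C).index = 6 := by
      have := Nat.le_of_dvd (by norm_num) h
      have hpos : (pPrimeCore 3 F.C).index ≠ 0 := Subgroup.index_ne_zero_of_finite
      omega
    rcases hm with hm | hm <;> rw [hm] at hCO <;> omega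
  · right; left
    haveI := hN
    have hcop : (Nat.card N).Coprime 3 := by
      refine ((Nat.prime_three.coprime_iff_not_dvd).2 fun h3 => ?_).symm
      obtain ⟨y, hy⟩ := exists_prime_orderOf_dvd_card' 3 h3
      have h2 : orderOf y ∣ 2 := orderOf_dvd_of_pow_eq_one (Subtype.ext (by simpa using hN2 _ y.2))
      rw [hy] at h2
      norm_num at h2
    have h60 : N.index = 60 := by
      rw [Subgroup.index_eq_card, Nat.card_congr e.toEquiv, nat_card_alternatingGroup, Nat.card_fin]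
      rfl
    refine ⟨?_, fun hOV => ?_⟩
    · rw [← hCO, mul_comm 60]
      exact mul_dvd_mul_left _ (h60 ▸ hidx N hN hcop)
    have hN1 : N = ⊥ := by
      refine (Subgroup.eq_bot_iff_forall N).2 fun y hy => ?_
      obtain ⟨x, rfl⟩ := hfs y
      exact (hone x).2 (hOV ⟨x, hle N hN hcop hy, rfl⟩)
    subst hN1
    let e' : F.C ⧸ V' ≃* alternatingGroup (Fin 5) := QuotientGroup.quotientBot.symm.trans e
    have hC240 : Nat.card F.C = 240 := by
      rw [hcard, Nat.card_congr e'.toEquiv, nat_card_alternatingGroup, Nat.card_fin]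
      rfl
    refine ⟨hC240, ?_⟩
    set g : F.C →* alternatingGroup (Fin 5) := e'.toMonoidHom.comp f
    have hgs : Function.Surjective g := e'.surjective.comp hfs
    set P := K4.comap g with hP
    obtain ⟨hK4, z, hz3, hz1, hzK⟩ := K4_facts
    have hK15 : K4.index = 15 := by
      have h := Subgroup.card_mul_index K4
      rw [hK4, nat_card_alternatingGroup, Nat.card_fin] at h
      have h' : 4 * K4.index = 60 := h
      omega
    have hP16 : Nat.card P = 16 := by
      have h := Subgroup.card_mul_index P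
      rw [hP, Subgroup.index_comap_of_surjective _ hgs, hK15, hC240, ← hP] at h
      omega
    let S : Sylow 2 F.C := Sylow.ofCard P (by
      rw [hP16, hC240, show 240 = 2 ^ 4 * 15 by norm_num, Nat.factorization_mul (by norm_num) (by norm_num),
        Finsupp.add_apply, Nat.Prime.factorization_pow Nat.prime_two, Finsupp.single_eq_same,
        Nat.factorization_eq_zero_of_not_dvd (by norm_num : ¬ 2 ∣ 15)]
      rfl)
    have hn : Nat.card (Sylow 2 F.C) = (Subgroup.normalizer (P : Set F.C)).index :=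
      Sylow.card_eq_index_normalizer S
    obtain ⟨w, hw⟩ := hgs z
    have hwN : w ∈ Subgroup.normalizer (P : Set F.C) :=
      EightLocal.mem_normalizer_of_conj_mem fun y hy => by
        show g (w * y * w⁻¹) ∈ K4
        rw [map_mul, map_mul, map_inv, hw]
        exact hzK _ hy
    have h3N : 3 ∣ Nat.card (Subgroup.normalizer (P : Set F.C)) := by
      refine dvd_trans ?_ ((Subgroup.normalizer (P : Set F.C)).orderOf_dvd_natCard hwN)
      have h := orderOf_map_dvd g w
      rwa [hw, orderOf_eq_prime hz3 hz1] at h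
    intro h3
    have h := Subgroup.card_mul_index (Subgroup.normalizer (P : Set F.C))
    rw [← hn, hC240] at h
    have := h ▸ mul_dvd_mul h3N h3
    norm_num at this
  · right; right
    haveI : Fact (Nat.Prime 7) := ⟨by norm_num⟩
    have h672 : Nat.card F.C = 672 := by
      rw [hcard, Nat.card_congr e.toEquiv, PSL2.card_PSL]
      simp
    refine ⟨h672, fun h3 => ?_⟩
    let S : Sylow 7 F.C := default
    have hmod : Nat.card (Sylow 7 F.C) % 7 = 1 := card_sylow_modEq_one 7 F.C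
    have hS : Nat.card (S : Subgroup F.C) = 7 := by
      rw [Sylow.card_eq_multiplicity, h672, show 672 = 7 ^ 1 * 96 by norm_num,
        Nat.factorization_mul (by norm_num) (by norm_num),
        Finsupp.add_apply, Nat.Prime.factorization_pow (Fact.out : Nat.Prime 7), Finsupp.single_eq_same,
        Nat.factorization_eq_zero_of_not_dvd (by norm_num : ¬ 7 ∣ 96)]
      norm_num
    have hd := S.card_dvd_index
    have hi := Subgroup.card_mul_index (S : Subgroup F.C)
    rw [hS, h672] at hi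
    rw [show (S : Subgroup F.C).index = 96 by omega] at hd
    have hb := Nat.le_of_dvd (by norm_num) hd
    obtain ⟨k, hk⟩ := h3
    rw [hk] at hmod hd hb
    have : k ≤ 32 := by omega
    interval_cases k <;> first | (norm_num at hmod; done) | (norm_num at hd; done)

/-- The operators fix only subgroups inside the four subgroup: then the line of `a` is normal. -/
theorem norm_line (hqa : Commute F.a F.q)
    (hR : ∀ R : Subgroup G, R ≤ F.C → (Nat.card R).Coprime 3 → (∀ r ∈ R, F.a * r * F.a⁻¹ ∈ R) →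
      (∀ r ∈ R, F.q * r * F.q⁻¹ ∈ R) → R ≤ F.V) :
    ∀ x ∈ F.C, x * F.a * x⁻¹ = F.a ∨ x * F.a * x⁻¹ = F.a⁻¹ := by
  classical
  haveI : Fact (Nat.Prime 3) := ⟨Nat.prime_three⟩
  have hO : F.O ≤ F.V := hR _ F.O_le F.O_coprime (fun r hr => F.O_normal F.haC hr)
    (fun r hr => F.O_q hr)
  have haC : ∀ x ∈ F.C, F.a * x * F.a⁻¹ ∈ F.C := fun x hx =>
    mul_mem (mul_mem F.haC hx) (inv_mem F.haC)
  have hsyl : ∀ {p : ℕ} [Fact p.Prime], p ≠ 3 → ¬ 3 ∣ Nat.card (Sylow p F.C) →
      ∃ S : Sylow p F.C, Nat.card (S : Subgroup F.C) ∣ 4 := by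
    intro p hpP hp3 hn
    obtain ⟨S, h1, h2⟩ := exists_fixed_sylow (p := p) F.C F.ha F.hq hqa haC F.hqC hn
    refine ⟨S, ?_⟩
    obtain ⟨n, hn'⟩ := IsPGroup.iff_card.1 S.isPGroup'
    have hle := hR _ (Subgroup.map_subtype_le _) (by
      rw [Subgroup.card_map_of_injective F.C.subtype_injective, hn']
      exact ((Nat.coprime_primes hpP.out Nat.prime_three).2 hp3).pow_left n) h1 h2
    have := Subgroup.card_dvd_of_le hle
    rwa [Subgroup.card_map_of_injective F.C.subtype_injective, F.hV4] at this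
  rcases F.cases with hsmall | ⟨-, h⟩ | ⟨h672, hn⟩
  · -- the order is at most twenty-four
    have hOd : Nat.card F.O ≤ 4 := by
      rw [← F.hV4]; exact Nat.le_of_dvd Nat.card_pos (Subgroup.card_dvd_of_le hO)
    intro x hx
    -- the product of the line and the four subgroup
    set V' := F.V.subgroupOf F.C
    haveI : V'.Normal := ⟨fun y hy g => by
      have h := F.hcent _ (Subgroup.mem_subgroupOf.1 hy) g g.2
      refine Subgroup.mem_subgroupOf.2 ?_
      rw [Subgroup.coe_mul, Subgroup.coe_mul, Subgroup.coe_inv, ← h, mul_inv_cancel_right]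
      exact Subgroup.mem_subgroupOf.1 hy⟩
    set aC : F.C := ⟨F.a, F.haC⟩
    set L := V' ⊔ Subgroup.zpowers aC
    have ho3 : orderOf aC = 3 := by rw [← Subgroup.orderOf_coe]; exact orderOf_eq_prime F.ha F.ha1
    have hL12 : 12 ≤ Nat.card L := by
      have d4 : 4 ∣ Nat.card L := by
        have h := Subgroup.card_dvd_of_le (H := V') (le_sup_left : V' ≤ L)
        rwa [Nat.card_congr (Subgroup.subgroupOfEquivOfLe F.hVC).toEquiv, F.hV4] at h
      have d3 : 3 ∣ Nat.card L := by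
        have h := Subgroup.card_dvd_of_le (K := L) (le_sup_right : Subgroup.zpowers aC ≤ L)
        rwa [Nat.card_zpowers, ho3] at h
      exact Nat.le_of_dvd Nat.card_pos (Nat.Coprime.mul_dvd_of_dvd_of_dvd (by norm_num) d4 d3)
    have hLi : L.index ∣ 2 ∨ L.index = 1 := by
      have h := Subgroup.card_mul_index L
      have hpos : L.index ≠ 0 := Subgroup.index_ne_zero_of_finite
      have hle : L.index ≤ 2 := by
        by_contra hcon
        push Not at hcon
        have := Nat.mul_le_mul hL12 (show 3 ≤ L.index by omega)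
        rw [h] at this
        rcases hsmall with e | e <;> omega
      have h12 : L.index = 1 ∨ L.index = 2 := by omega
      rcases h12 with e | e <;> rw [e] <;> simp
    haveI hLn : L.Normal := by
      rcases hLi with h' | h'
      · rcases (Nat.dvd_prime Nat.prime_two).1 h' with h'' | h''
        · rw [Subgroup.index_eq_one.1 h'']; infer_instance
        · exact Subgroup.normal_of_index_eq_two h''
      · rw [Subgroup.index_eq_one.1 h']; infer_instance
    have hLel : ∀ y : F.C, y ∈ L → ∃ v ∈ F.V, ∃ i : ℤ, (y : G) = v * F.a ^ i := by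
      intro y hy
      obtain ⟨v, hv, u, hu, rfl⟩ := Subgroup.mem_sup_of_normal_left.1 hy
      obtain ⟨i, rfl⟩ := Subgroup.mem_zpowers_iff.1 hu
      exact ⟨v, Subgroup.mem_subgroupOf.1 hv, i, by simp [aC]⟩
    obtain ⟨v, hv, i, hvi⟩ := hLel _ (hLn.conj_mem aC
      ((le_sup_right : Subgroup.zpowers aC ≤ L) (Subgroup.mem_zpowers aC)) ⟨x, hx⟩)
    have hvi' : x * F.a * x⁻¹ = v * F.a ^ i := by simpa [aC] using hvi
    have hcv : Commute v (F.a ^ i) := (show Commute v F.a from F.hcent v hv F.a F.haC).zpow_right i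
    have hv3 : v ^ 3 = 1 := by
      have h := congrArg (· ^ 3) hvi'
      simp only [conj_pow, hcv.mul_pow, F.ha] at h
      rw [← zpow_natCast (F.a ^ i), ← zpow_mul, mul_comm, zpow_mul, zpow_natCast, F.ha, one_zpow,
        mul_one] at h
      simpa using h.symm
    have hv1 : v = 1 := by
      have := congrArg Subtype.val (pow_card_eq_one' (x := (⟨v, hv⟩ : F.V)))
      rw [F.hV4] at this
      simpa using pow_gcd_eq_one.2 ⟨hv3, this⟩
    rw [hv1, one_mul] at hvi'
    rcases (EightLocal.mem_zpowers_three F.ha).1 ⟨i, hvi'.symm⟩ with h | h | h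
    · exact absurd (conj_eq_one_iff.1 h) F.ha1
    · exact Or.inl h
    · exact Or.inr h
  · exfalso
    obtain ⟨h240, hn⟩ := h hO
    haveI : Fact (Nat.Prime 2) := ⟨Nat.prime_two⟩
    obtain ⟨S, hS⟩ := hsyl (p := 2) (by norm_num) hn
    have hle := Nat.le_of_dvd (by norm_num) hS
    rw [Sylow.card_eq_multiplicity, h240, show 240 = 2 ^ 4 * 15 by norm_num,
      Nat.factorization_mul (by norm_num) (by norm_num), Finsupp.add_apply,
      Nat.Prime.factorization_pow Nat.prime_two, Finsupp.single_eq_same,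
      Nat.factorization_eq_zero_of_not_dvd (by norm_num : ¬ 2 ∣ 15)] at hle
    norm_num at hle
  · exfalso
    haveI : Fact (Nat.Prime 7) := ⟨by norm_num⟩
    obtain ⟨S, hS⟩ := hsyl (p := 7) (by norm_num) hn
    have hle := Nat.le_of_dvd (by norm_num) hS
    rw [Sylow.card_eq_multiplicity, h672, show 672 = 7 ^ 1 * 96 by norm_num,
      Nat.factorization_mul (by norm_num) (by norm_num),
      Finsupp.add_apply, Nat.Prime.factorization_pow (Fact.out : Nat.Prime 7), Finsupp.single_eq_same,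
      Nat.factorization_eq_zero_of_not_dvd (by norm_num : ¬ 7 ∣ 96)] at hle
    norm_num at hle

end FourCfg

end Cfsg.Agent.NineRecog
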