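import Cfsg.Agent.Lib.NineRecog.Model
import Mathlib.GroupTheory.SpecificGroups.Alternating
import Mathlib.GroupTheory.Perm.Sign

/-!
# The model `3³ : S₄` on nine points, and the stabiliser of a block
-/

set_option autoImplicit false
set_option synthInstance.maxHeartbeats 200000
set_option synthInstance.maxSize 1024

namespace Cfsg.Agent.NineRecog

open Equiv
open Cfsg Cfsg.Agent.Exceptional.Nine
open Exceptional.Wreath2 (D act3 act3_one act3_mul)

/-- The permutations of nine points. -/
abbrev P9 := Perm (Fin 9)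

/-- The alternating group of degree nine. -/
abbrev A9 : Subgroup (Perm (Fin 9)) := alternatingGroup (Fin 9)

/-- The point at position `x` of block `i`. -/
def pt (i x : ZMod 3) : Fin 9 := ⟨3 * i.val + x.val, by
  have := ZMod.val_lt i; have := ZMod.val_lt x; omega⟩

/-- The block of a point. -/
def blk (p : Fin 9) : ZMod 3 := ((p.val / 3 : ℕ) : ZMod 3)

/-- The position of a point. -/
def pos (p : Fin 9) : ZMod 3 := ((p.val % 3 : ℕ) : ZMod 3)

theorem pt_spec : (∀ p, pt (blk p) (pos p) = p) ∧
    ∀ i x, blk (pt i x) = i ∧ pos (pt i x) = x := by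
  constructor <;> decide +kernel

/-- The action of the model on the nine points. -/
def act (g : W) (p : Fin 9) : Fin 9 :=
  pt (act3 g.p (blk p)) (sg (ee g (act3 g.p (blk p))) * pos p + tt g (act3 g.p (blk p)))

theorem act_one : ∀ p, act 1 p = p := by decide +kernel

theorem act_mul (g h : W) (p : Fin 9) : act (g * h) p = act g (act h p) := by
  simp only [act, (pt_spec.2 _ _).1, (pt_spec.2 _ _).2, mul_p, act3_mul, ee_mul, tt_mul, sg_xor]
  have h1 : act3 g.p⁻¹ (act3 g.p (act3 h.p (blk p))) = act3 h.p (blk p) := by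
    rw [← act3_mul, inv_mul_cancel, act3_one]
  rw [h1]
  congr 1
  ring

/-- The model as permutations of nine points. -/
def φW : W →* P9 where
  toFun g :=
    { toFun := act g
      invFun := act g⁻¹
      left_inv := fun p => by rw [← act_mul, inv_mul_cancel, act_one]
      right_inv := fun p => by rw [← act_mul, mul_inv_cancel, act_one] }
  map_one' := Equiv.ext act_one
  map_mul' g h := Equiv.ext (act_mul g h)

theorem φW_injective : Function.Injective φW := by
  rw [injective_iff_map_eq_one]
  have key : ∀ g : W, (∀ p, act g p = p) → g = 1 := by decide +kernel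
  exact fun g hg => key g fun p => DFunLike.congr_fun hg p

theorem φW_sign : ∀ g : W, Perm.sign (φW g) = 1 := by decide +kernel

/-! ## The stabiliser of the first block -/

/-- The pairs of permutations of equal sign. -/
abbrev K36 : Subgroup (Perm (Fin 3) × Perm (Fin 6)) :=
  (((Equiv.Perm.sign).comp (MonoidHom.fst (Perm (Fin 3)) (Perm (Fin 6)))) *
    ((Equiv.Perm.sign).comp (MonoidHom.snd (Perm (Fin 3)) (Perm (Fin 6))))).ker

/-- A shortcut instance. -/
instance instDecidableEqK36 : DecidableEq K36 := inferInstance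

/-- `Sym 3 × Sym 6` on nine points. -/
def sum36 : Perm (Fin 3) × Perm (Fin 6) →* P9 :=
  (Equiv.permCongrHom (finSumFinEquiv (m := 3) (n := 6))).toMonoidHom.comp
    (Equiv.Perm.sumCongrHom (Fin 3) (Fin 6))

theorem sum36_injective : Function.Injective sum36 :=
  (Equiv.permCongrHom (finSumFinEquiv (m := 3) (n := 6))).injective.comp
    Equiv.Perm.sumCongrHom_injective

theorem sign_sum36 (k : Perm (Fin 3) × Perm (Fin 6)) :
    Perm.sign (sum36 k) = Perm.sign k.1 * Perm.sign k.2 := by
  show Perm.sign ((finSumFinEquiv (m := 3) (n := 6)).permCongr (Perm.sumCongr k.1 k.2)) = _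
  rw [Perm.sign_permCongr, Perm.sign_sumCongr]

/-- The stabiliser of the first block in the alternating group. -/
def jK : K36 →* P9 := sum36.comp K36.subtype

theorem jK_injective : Function.Injective jK := sum36_injective.comp Subtype.val_injective

/-- Membership in the stabiliser of the first block. -/
def InKa (p : P9) : Prop := (∀ x : Fin 9, x.val < 3 → (p x).val < 3) ∧ Perm.sign p = 1

instance : DecidablePred InKa := fun p => inferInstanceAs (Decidable (_ ∧ _))

theorem inKa_iff (p : P9) : InKa p ↔ p ∈ jK.range := by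
  constructor
  · rintro ⟨h, hs⟩
    set e := finSumFinEquiv (m := 3) (n := 6) with he
    have hmaps : Set.MapsTo (e.symm.permCongr p) (Set.range (Sum.inl : Fin 3 → Fin 3 ⊕ Fin 6))
        (Set.range Sum.inl) := by
      rintro _ ⟨i, rfl⟩
      refine ⟨⟨(p (e (Sum.inl i))).val, h _ i.2⟩, ?_⟩
      rw [Equiv.permCongr_apply, Equiv.symm_symm, eq_comm, Equiv.symm_apply_eq]
      exact Fin.ext rfl
    obtain ⟨k, hk⟩ := Equiv.Perm.mem_sumCongrHom_range_of_perm_mapsTo_inl hmaps
    have hp : sum36 k = p := by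
      show e.permCongr (Equiv.Perm.sumCongrHom _ _ k) = p
      rw [hk]
      exact e.permCongr.apply_symm_apply p
    exact ⟨⟨k, by rw [← hp, sign_sum36] at hs; exact hs⟩, hp⟩
  · rintro ⟨k, rfl⟩
    refine ⟨fun x hx => ?_, (sign_sum36 _).trans k.2⟩
    obtain ⟨y, rfl⟩ := (finSumFinEquiv (m := 3) (n := 6)).surjective x
    cases y with
    | inl i =>
      have hap : jK k ((finSumFinEquiv (m := 3) (n := 6)) (Sum.inl i)) =
          (finSumFinEquiv (m := 3) (n := 6)) (Sum.inl (k.1.1 i)) := by
        simp [jK, sum36, Equiv.permCongrHom]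
      rw [hap]
      exact (k.1.1 i).2
    | inr i =>
      have hx' : 3 + i.val < 3 := hx
      omega

theorem inKa_mul {p q : P9} (hp : InKa p) (hq : InKa q) : InKa (p * q) := by
  rw [inKa_iff] at *
  exact mul_mem hp hq

theorem inKa_inv {p : P9} (hp : InKa p) : InKa p⁻¹ := by
  rw [inKa_iff] at *
  exact inv_mem hp

/-! ## Constants -/

/-- `(0 1 2)` in the model. -/
abbrev wA : W := u1
/-- `(3 4 5)` in the model. -/
def wB : W := ⟨0, 1, 0, false, false, .r 0⟩
/-- `(6 7 8)` in the model. -/
def wC : W := ⟨0, 0, 1, false, false, .r 0⟩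
/-- `(3 6 4 7)(5 8)` in the model. -/
def wF : W := ⟨0, 1, 0, false, true, .sr 0⟩
/-- `(0 1)(3 4)` in the model. -/
def wS : W := ⟨1, 1, 0, true, true, .r 0⟩
/-- The rotation of the blocks. -/
def wR : W := ⟨0, 0, 0, false, false, .r 1⟩
/-- An exchange of the last two blocks. -/
def wX : W := ⟨1, 0, 0, true, false, .sr 0⟩
/-- An exchange of the outer blocks. -/
def wY : W := ⟨0, 1, 0, false, true, .sr 1⟩

theorem φW_values : φW wA = c[0, 1, 2] ∧ φW wB = c[3, 4, 5] ∧ φW wC = c[6, 7, 8] ∧
    φW wF = c[3, 6, 4, 7] * c[5, 8] ∧ φW wS = c[0, 1] * c[3, 4] ∧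
    φW wR = c[0, 3, 6] * c[1, 4, 7] * c[2, 5, 8] ∧
    φW wY = c[0, 6] * c[1, 7] * c[2, 8] * c[3, 4] := by
  decide +kernel

theorem wR_eq : wR = wF * wY * wS := by decide +kernel

/-- The normal form in the stabiliser of the first block. -/
theorem stab_form : ∀ g : W, InKa (φW g) → ∃ l : Fin 4, ∃ m : Fin 2,
    g = trV (g.t0, g.t1, g.t2) * s0 g ∧
      s0 g = s0 (wF ^ (l : ℕ) * wS ^ (m : ℕ)) := by
  decide +kernel

end Cfsg.Agent.NineRecog
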