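import Mathlib.GroupTheory.SpecificGroups.Alternating
import Cfsg.Agent.S3335

/-!
# Homomorphisms out of an alternating group given on the generators of its presentation
-/

set_option autoImplicit false

namespace Cfsg.Agent.NineRecog

open Equiv

universe u

/-- The relations of the presentation, for a family of elements. -/
def AltRels {K : Type*} [Group K] {m : ℕ} (Y : Fin m → K) : Prop :=
  (∀ i : Fin m, i.val = 0 → Y i ^ 3 = 1) ∧ (∀ i : Fin m, 1 ≤ i.val → Y i ^ 2 = 1) ∧
    (∀ i j : Fin m, j.val = i.val + 1 → (Y i * Y j) ^ 3 = 1) ∧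
    (∀ i j : Fin m, i.val + 1 < j.val → (Y i * Y j) ^ 2 = 1)

/-- Elements satisfying the relations receive the alternating group. -/
theorem exists_hom_alt {n : ℕ} (hn : 5 ≤ n) (gens : Fin (n - 2) → alternatingGroup (Fin n))
    (hg : AltRels gens) (i₀ : Fin (n - 2)) (hne : gens i₀ ≠ 1) {G : Type u} [Group G]
    (X : Fin (n - 2) → G) (hX : AltRels X) :
    ∃ φ : alternatingGroup (Fin n) →* G, ∀ i, φ (gens i) = X i := by
  classical
  let rels : Set (FreeGroup (Fin (n - 2))) :=
    {g : FreeGroup (Fin (n - 2)) | ∃ i : Fin (n - 2), i.val = 0 ∧ g = FreeGroup.of i ^ 3} ∪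
      {g | ∃ i : Fin (n - 2), 1 ≤ i.val ∧ g = FreeGroup.of i ^ 2} ∪
      {g | ∃ i j : Fin (n - 2), j.val = i.val + 1 ∧ g = (FreeGroup.of i * FreeGroup.of j) ^ 3} ∪
      {g | ∃ i j : Fin (n - 2), i.val + 1 < j.val ∧ g = (FreeGroup.of i * FreeGroup.of j) ^ 2}
  have lift_ok : ∀ {K : Type _} [Group K] (Y : Fin (n - 2) → K), AltRels Y →
      ∀ r ∈ rels, FreeGroup.lift Y r = 1 := by
    intro K _ Y hY r hr
    rcases hr with ((⟨i, hi, rfl⟩ | ⟨i, hi, rfl⟩) | ⟨i, j, hij, rfl⟩) | ⟨i, j, hij, rfl⟩
    · simpa using hY.1 i hi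
    · simpa using hY.2.1 i hi
    · simpa using hY.2.2.1 i j hij
    · simpa using hY.2.2.2 i j hij
  have hA : ∀ r ∈ rels, FreeGroup.lift gens r = 1 := by
    rintro r (((⟨i, hi, rfl⟩ | ⟨i, hi, rfl⟩) | ⟨i, j, hij, rfl⟩) | ⟨i, j, hij, rfl⟩)
    · simpa using hg.1 i hi
    · simpa using hg.2.1 i hi
    · simpa using hg.2.2.1 i j hij
    · simpa using hg.2.2.2 i j hij
  have hG : ∀ r ∈ rels, FreeGroup.lift X r = 1 := lift_ok X hX
  let f := PresentedGroup.toGroup (rels := rels) hA
  obtain ⟨ψ⟩ : Nonempty (PresentedGroup rels ≃* alternatingGroup (Fin n)) :=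
    S3335.result n (by omega)
  let f' : alternatingGroup (Fin n) →* alternatingGroup (Fin n) := f.comp ψ.symm.toMonoidHom
  haveI : IsSimpleGroup (alternatingGroup (Fin n)) := alternatingGroup.isSimpleGroup (by simpa using hn)
  have hinj : Function.Injective f' := by
    rw [← MonoidHom.ker_eq_bot_iff]
    refine ((inferInstance : IsSimpleGroup (alternatingGroup (Fin n))).eq_bot_or_eq_top_of_normal _
      inferInstance).resolve_right fun h => hne ?_
    have h1 : f' (ψ (PresentedGroup.of i₀)) = 1 := MonoidHom.mem_ker.1 (h ▸ Subgroup.mem_top _)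
    rw [← h1]
    show gens i₀ = f (ψ.symm (ψ (PresentedGroup.of i₀)))
    rw [ψ.symm_apply_apply, PresentedGroup.toGroup.of]
  have hb' : Function.Bijective f' := ⟨hinj, Finite.injective_iff_surjective.1 hinj⟩
  have hb : Function.Bijective f := by
    have : (f : PresentedGroup rels → alternatingGroup (Fin n)) = f' ∘ ψ := by
      funext x
      show f x = f (ψ.symm (ψ x))
      rw [ψ.symm_apply_apply]
    rw [this]
    exact hb'.comp ψ.bijective
  let e := MulEquiv.ofBijective f hb
  refine ⟨(PresentedGroup.toGroup (rels := rels) hG).comp e.symm.toMonoidHom, fun i => ?_⟩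
  have he : e (PresentedGroup.of i) = gens i := PresentedGroup.toGroup.of hA
  show PresentedGroup.toGroup (rels := rels) hG (e.symm (gens i)) = X i
  rw [← he, e.symm_apply_apply, PresentedGroup.toGroup.of]

/-- An injective map, given a nontrivial image. -/
theorem injective_alt {n : ℕ} (hn : 5 ≤ n) {G : Type u} [Group G]
    (f : alternatingGroup (Fin n) →* G) {p : alternatingGroup (Fin n)} (h : f p ≠ 1) :
    Function.Injective f := by
  haveI : IsSimpleGroup (alternatingGroup (Fin n)) := alternatingGroup.isSimpleGroup (by simpa using hn)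
  rw [← MonoidHom.ker_eq_bot_iff]
  refine ((inferInstance : IsSimpleGroup (alternatingGroup (Fin n))).eq_bot_or_eq_top_of_normal _
    inferInstance).resolve_right fun h' => h ?_
  exact MonoidHom.mem_ker.1 (h' ▸ Subgroup.mem_top p)

end Cfsg.Agent.NineRecog
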