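import Cfsg.Agent.Lib.NineRecog.SelfNineCentral
import Cfsg.Agent.Lib.NineRecog.Present
import Cfsg.Agent.Lib.Exceptional.SelfNine.SixAut

/-!
# Automorphisms of the alternating group of degree six
-/

set_option autoImplicit false
set_option synthInstance.maxHeartbeats 200000
set_option synthInstance.maxSize 1024

namespace Cfsg.Agent.NineRecog

open Equiv

/-- An even permutation of six points. -/
def ev6 (p : Perm (Fin 6)) (h : Perm.sign p = 1 := by decide +kernel) : A6 :=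
  ⟨p, Equiv.Perm.mem_alternatingGroup.2 h⟩

/-- Generators of the presentation. -/
def gens6 : Fin 4 → A6 :=
  ![ev6 c[0, 1, 2], ev6 (c[0, 1] * c[2, 3]), ev6 (c[0, 1] * c[3, 4]), ev6 (c[0, 1] * c[4, 5])]

/-- Their images under an outer automorphism. -/
def gens6' : Fin 4 → A6 :=
  ![ev6 (c[0, 1, 2] * c[3, 4, 5]), ev6 (c[1, 3] * c[2, 4]), ev6 (c[0, 1] * c[4, 5]),
    ev6 (c[1, 2] * c[3, 4])]

/-- The image of `z6` under the outer automorphism. -/
def z6' : A6 := ev6 (c[0, 1, 2] * c[3, 4, 5])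
/-- The image of `r6` under the outer automorphism. -/
def r6' : A6 := ev6 (c[0, 5, 1, 4] * c[2, 3])

theorem gens6_rels : AltRels gens6 := by
  refine ⟨?_, ?_, ?_, ?_⟩ <;> decide +kernel

theorem gens6'_rels : AltRels gens6' := by
  refine ⟨?_, ?_, ?_, ?_⟩ <;> decide +kernel

theorem exists_outer : ∃ β : A6 →* A6, Function.Injective β ∧ β z6 = z6' ∧ β r6 = r6' := by
  obtain ⟨β, hβ⟩ := exists_hom_alt (n := 6) (by norm_num) gens6 gens6_rels (0 : Fin 4)
    (by decide +kernel) gens6' gens6'_rels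
  have hz : β z6 = z6' := by
    rw [show z6 = gens6 0 by decide +kernel, hβ]
    decide +kernel
  refine ⟨β, injective_alt (by norm_num) β (p := z6) (by rw [hz]; decide +kernel), hz, ?_⟩
  have hr : r6 = gens6 1 * gens6 2 * gens6 0 * gens6 1 * gens6 3 * gens6 0 * gens6 2 * gens6 1 := by
    decide +kernel
  rw [hr]
  simp only [map_mul, hβ]
  decide +kernel

/-- The permutations commuting with `z6`. -/
def cand1 (x : Fin 3 × Fin 3 × Fin 2) : Perm (Fin 6) :=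
  (c[0, 1, 2] : Perm (Fin 6)) ^ (x.1 : ℕ) * c[3, 4, 5] ^ (x.2.1 : ℕ) * c[3, 4] ^ (x.2.2 : ℕ)

/-- The permutations commuting with `z6'`. -/
def cand2 (x : Fin 3 × Fin 3 × Fin 2) : Perm (Fin 6) :=
  (c[0, 1, 2] : Perm (Fin 6)) ^ (x.1 : ℕ) * c[3, 4, 5] ^ (x.2.1 : ℕ) *
    (c[0, 3] * c[1, 4] * c[2, 5]) ^ (x.2.2 : ℕ)

theorem align_one : ∀ r : A6, r * z6 * r⁻¹ * z6 = z6 * (r * z6 * r⁻¹) →
    r * z6 * r⁻¹ ≠ z6 → r * z6 * r⁻¹ ≠ z6⁻¹ → r * (r * z6 * r⁻¹) * r⁻¹ = z6⁻¹ →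
    ∃ x, cand1 x * z6.1 = z6.1 * cand1 x ∧ cand1 x * r6.1 = r.1 * cand1 x := by
  decide +kernel

theorem align_two : ∀ r : A6, r * z6' * r⁻¹ * z6' = z6' * (r * z6' * r⁻¹) →
    r * z6' * r⁻¹ ≠ z6' → r * z6' * r⁻¹ ≠ z6'⁻¹ → r * (r * z6' * r⁻¹) * r⁻¹ = z6'⁻¹ →
    ∃ x, cand2 x * z6'.1 = z6'.1 * cand2 x ∧ cand2 x * r6'.1 = r.1 * cand2 x := by
  decide +kernel

/-- Conjugation by a permutation. -/
def conj6 (π : Perm (Fin 6)) : A6 →* A6 := (MulAut.conjNormal (H := A6) π).toMonoidHom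

theorem conj6_val (π : Perm (Fin 6)) (g : A6) : (conj6 π g).1 = π * g.1 * π⁻¹ := by
  simp [conj6, MulAut.conjNormal_apply]

theorem conj6_injective (π : Perm (Fin 6)) : Function.Injective (conj6 π) :=
  (MulAut.conjNormal (H := A6) π).injective

theorem z_classes {z : A6} (h3 : z ^ 3 = 1) (h1 : z ≠ 1) :
    ∃ π : Perm (Fin 6), conj6 π z6 = z ∨ conj6 π z6' = z := by
  haveI : Fact (Nat.Prime 3) := ⟨Nat.prime_three⟩
  have h3' : z.1 ^ 3 = 1 := congrArg Subtype.val h3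
  have ho : orderOf z.1 = 3 := orderOf_eq_prime h3' fun h => h1 (Subtype.ext h)
  obtain ⟨n, hn⟩ := Equiv.Perm.cycleType_prime_order (σ := z.1) (by rw [ho]; exact Nat.prime_three)
  rw [ho] at hn
  have hle := z.1.sum_cycleType_le
  rw [hn, Multiset.sum_replicate, Fintype.card_fin, smul_eq_mul] at hle
  have hn' : n = 0 ∨ n = 1 := by omega
  rcases hn' with rfl | rfl
  · have hconj : IsConj z6.1 z.1 := by
      rw [Equiv.Perm.isConj_iff_cycleType_eq, hn]; decide +kernel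
    obtain ⟨π, hπ⟩ := isConj_iff.1 hconj
    exact ⟨π, Or.inl (Subtype.ext ((conj6_val _ _).trans hπ))⟩
  · have hconj : IsConj z6'.1 z.1 := by
      rw [Equiv.Perm.isConj_iff_cycleType_eq, hn]; decide +kernel
    obtain ⟨π, hπ⟩ := isConj_iff.1 hconj
    exact ⟨π, Or.inr (Subtype.ext ((conj6_val _ _).trans hπ))⟩

theorem w6_eq : r6 * z6 * r6⁻¹ = w6 := by decide +kernel

/-- Alignment with the standard configuration. -/
theorem exists_align {z r : A6} (h3 : z ^ 3 = 1) (h1 : z ≠ 1)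
    (hc : r * z * r⁻¹ * z = z * (r * z * r⁻¹)) (hn : r * z * r⁻¹ ≠ z) (hn' : r * z * r⁻¹ ≠ z⁻¹)
    (hr : r * (r * z * r⁻¹) * r⁻¹ = z⁻¹) :
    ∃ σ : A6 →* A6, Function.Injective σ ∧ σ z6 = z ∧ σ r6 = r ∧ σ w6 = r * z * r⁻¹ := by
  suffices h : ∃ σ : A6 →* A6, Function.Injective σ ∧ σ z6 = z ∧ σ r6 = r by
    obtain ⟨σ, h1, h2, h3⟩ := h
    exact ⟨σ, h1, h2, h3, by rw [← w6_eq, map_mul, map_mul, map_inv, h2, h3]⟩
  obtain ⟨π, hπ⟩ := z_classes h3 h1
  have hsur : ∀ π : Perm (Fin 6), ∀ y, ∃ x, conj6 π x = y := fun π y =>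
    (MulAut.conjNormal (H := A6) π).surjective y
  obtain ⟨r0, hr0⟩ := hsur π r
  have hi := conj6_injective π
  have move : ∀ Z : A6, conj6 π Z = z → r0 * Z * r0⁻¹ * Z = Z * (r0 * Z * r0⁻¹) ∧
      r0 * Z * r0⁻¹ ≠ Z ∧ r0 * Z * r0⁻¹ ≠ Z⁻¹ ∧ r0 * (r0 * Z * r0⁻¹) * r0⁻¹ = Z⁻¹ := by
    intro Z hZ
    refine ⟨hi ?_, fun h => hn ?_, fun h => hn' ?_, hi ?_⟩
    · simp only [map_mul, map_inv, hr0, hZ]; exact hc
    · simpa only [map_mul, map_inv, hr0, hZ] using congrArg (conj6 π) h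
    · simpa only [map_mul, map_inv, hr0, hZ] using congrArg (conj6 π) h
    · simp only [map_mul, map_inv, hr0, hZ]; exact hr
  rcases hπ with hπ | hπ
  · obtain ⟨e1, e2, e3, e4⟩ := move z6 hπ
    obtain ⟨x, hx1, hx2⟩ := align_one r0 e1 e2 e3 e4
    refine ⟨(conj6 π).comp (conj6 (cand1 x)), hi.comp (conj6_injective _), ?_, ?_⟩
    · have : conj6 (cand1 x) z6 = z6 := Subtype.ext (by rw [conj6_val, hx1]; group)
      rw [MonoidHom.comp_apply, this, hπ]
    · have : conj6 (cand1 x) r6 = r0 := Subtype.ext (by rw [conj6_val, hx2]; group)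
      rw [MonoidHom.comp_apply, this, hr0]
  · obtain ⟨e1, e2, e3, e4⟩ := move z6' hπ
    obtain ⟨x, hx1, hx2⟩ := align_two r0 e1 e2 e3 e4
    obtain ⟨β, hβ, hβz, hβr⟩ := exists_outer
    refine ⟨((conj6 π).comp (conj6 (cand2 x))).comp β, (hi.comp (conj6_injective _)).comp hβ, ?_, ?_⟩
    · have : conj6 (cand2 x) z6' = z6' := Subtype.ext (by rw [conj6_val, hx1]; group)
      rw [MonoidHom.comp_apply, hβz, MonoidHom.comp_apply, this, hπ]
    · have : conj6 (cand2 x) r6' = r0 := Subtype.ext (by rw [conj6_val, hx2]; group)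
      rw [MonoidHom.comp_apply, hβr, MonoidHom.comp_apply, this, hr0]

theorem commute_triple : ∀ π : Perm (Fin 6), π * z6.1 = z6.1 * π → π * w6.1 = w6.1 * π →
    π * r6.1 = r6.1 * π → π = 1 := by
  decide +kernel

/-- An automorphism fixing the standard configuration is trivial. -/
theorem eq_id (σ : A6 →* A6) (hσ : Function.Injective σ) (hz : σ z6 = z6) (hw : σ w6 = w6)
    (hr : σ r6 = r6) (g : A6) : σ g = g := by
  have hz3 : (z6 : Perm (Fin 6)).IsThreeCycle := by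
    rw [Perm.IsThreeCycle]; decide +kernel
  obtain ⟨π, hπ⟩ := Exceptional.SelfNine.exists_perm σ hσ (fun y hy => by
    obtain ⟨g, hg⟩ := isConj_iff.1 (alternatingGroup.isThreeCycle_isConj (by simp) hz3 hy)
    rw [← hg, map_mul, map_mul, map_inv, hz, Perm.IsThreeCycle, Subgroup.coe_mul, Subgroup.coe_mul,
      Subgroup.coe_inv, Perm.cycleType_conj]
    exact hz3)
  have hfix : ∀ y : A6, σ y = y → π * y.1 = y.1 * π := fun y hy => by
    have h := hπ y
    rw [hy] at h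
    exact mul_inv_eq_iff_eq_mul.1 h
  have h1 := commute_triple π (hfix _ hz) (hfix _ hw) (hfix _ hr)
  apply Subtype.ext
  rw [← hπ g, h1]
  group

end Cfsg.Agent.NineRecog
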