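import Cfsg.Agent.Lib.NineRecog.CentOne
import Cfsg.Agent.Lib.NineRecog.Perm
import Cfsg.Agent.Lib.NineRecog.SixAut

/-!
# The normaliser of a three-cycle inside a group with a section of type `Alt 6`
-/

set_option autoImplicit false
set_option synthInstance.maxHeartbeats 200000
set_option synthInstance.maxSize 1024

namespace Cfsg.Agent.NineRecog

open Equiv
open Cfsg Cfsg.Agent.Exceptional.Nine

universe u

theorem u1_cube : u1 ^ 3 = 1 := T_cube (tr_mem_T 1 0 0)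

/-- The centraliser of `u1` has type `3 × Alt 6`, aligned with the model. -/
structure A6Data {G : Type u} [Group G] [Finite G] (c : Cfg G) where
  /-- The embedding of the alternating group. -/
  ψ : A6 →* G
  inj : Function.Injective ψ
  comm : ∀ g, ψ g * c.ι u1 = c.ι u1 * ψ g
  notMem : c.ι u1 ∉ ψ.range
  cent : ∀ x : G, x * c.ι u1 = c.ι u1 * x → ∃ i : ℕ, ∃ g : A6, x = c.ι u1 ^ i * ψ g
  hz : ψ z6 = c.ι wB
  hw : ψ w6 = c.ι wC
  hr : ψ r6 = c.ι wF

theorem align_facts : (wF * u1 = u1 * wF ∧ wB * wC * u1 = u1 * (wB * wC)) ∧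
    wF * (wB * wC) * wF⁻¹ * (wB * wC)⁻¹ = wB ∧ wF = (wF ^ 3) ^ 3 ∧
    wB ^ 3 = 1 ∧ wB ≠ 1 ∧ wF * wB * wF⁻¹ = wC ∧ wC * wB = wB * wC ∧ wC ≠ wB ∧ wC ≠ wB⁻¹ ∧
    wF * wC * wF⁻¹ = wB⁻¹ := by
  decide +kernel

variable {G : Type u} [Group G] [Finite G]

namespace Cfg

theorem exists_A6Data (c : Cfg G) :
    Subgroup.centralizer ({c.ι u1} : Set G) ≤ c.ι.range ∨ Nonempty (A6Data c) := by
  rcases c.centralizer_u1_cases with h | ⟨ψ, hinj, hcomm, hnot, hcent⟩
  · exact Or.inl h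
  right
  obtain ⟨⟨hf1, hv1⟩, hb, hf9, hb3, hbne, hfb, hcb, hcne, hcne', hfc⟩ := align_facts
  have hA : ∀ i : ℕ, ∀ g : A6, Commute (c.ι u1 ^ i) (ψ g) := fun i g =>
    ((show Commute (ψ g) (c.ι u1) from hcomm g).symm).pow_left i
  have hlift : ∀ v : W, v * u1 = u1 * v → ∃ i : ℕ, ∃ g : A6, c.ι v = c.ι u1 ^ i * ψ g :=
    fun v hv => hcent _ (by rw [← map_mul, ← map_mul, hv])
  obtain ⟨i, sf, hsf⟩ := hlift wF hf1
  obtain ⟨j, sv, hsv⟩ := hlift _ hv1
  have hcomm' : ∀ g : A6, c.ι u1 ^ 3 * ψ g = ψ g := fun g => by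
    rw [← map_pow, u1_cube, map_one, one_mul]
  have hrf : c.ι wF = ψ (((sf ^ 3) ^ 3)) := by
    conv_lhs => rw [hf9]
    rw [map_pow, map_pow, hsf, (hA i sf).mul_pow, ← pow_mul, mul_comm i 3, pow_mul, ← map_pow c.ι,
      u1_cube, map_one, one_pow, one_mul, ← map_pow, ← map_pow]
  set r := (sf ^ 3) ^ 3
  set z := r * sv * r⁻¹ * sv⁻¹
  have hz : c.ι wB = ψ z := by
    rw [← hb]
    simp only [map_mul c.ι, map_inv c.ι] at hsv ⊢
    rw [hsv, hrf]
    simp only [z, map_mul ψ, map_inv ψ]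
    calc ψ r * (c.ι u1 ^ j * ψ sv) * (ψ r)⁻¹ * (c.ι u1 ^ j * ψ sv)⁻¹
        = ψ r * c.ι u1 ^ j * ψ sv * (ψ r)⁻¹ * (ψ sv)⁻¹ * (c.ι u1 ^ j)⁻¹ := by group
      _ = c.ι u1 ^ j * (ψ r * ψ sv * (ψ r)⁻¹ * (ψ sv)⁻¹) * (c.ι u1 ^ j)⁻¹ := by
          rw [← (hA j r).eq]; group
      _ = _ := by
          rw [← map_inv ψ, ← map_inv ψ, ← map_mul, ← map_mul, ← map_mul, (hA j _).eq,
            mul_inv_cancel_right]
  have hw : c.ι wC = ψ (r * z * r⁻¹) := by
    rw [← hfb, map_mul c.ι, map_mul c.ι, map_inv c.ι, hrf, hz, ← map_inv ψ, ← map_mul ψ, ← map_mul ψ]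
  have key : ∀ {x y : W} {g h : A6}, c.ι x = ψ g → c.ι y = ψ h → (g = h ↔ x = y) :=
    fun {x y g h} hx hy => ⟨fun e => c.inj (by rw [hx, hy, e]), fun e => hinj (by rw [← hx, ← hy, e])⟩
  obtain ⟨σ, hσ, hσz, hσr, hσw⟩ := exists_align (z := z) (r := r)
    ((key (x := wB ^ 3) (y := 1) (by rw [map_pow, hz, map_pow]) (by rw [map_one, map_one])).2 hb3)
    (fun e => hbne ((key hz (by rw [map_one, map_one])).1 e))
    ((key (x := wC * wB) (y := wB * wC) (by rw [map_mul c.ι, hw, hz, ← map_mul ψ])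
      (by rw [map_mul c.ι, hz, hw, ← map_mul ψ])).2 hcb)
    (fun e => hcne ((key hw hz).1 e))
    (fun e => hcne' ((key hw (by rw [map_inv, hz, map_inv])).1 e))
    ((key (x := wF * wC * wF⁻¹) (y := wB⁻¹)
      (by rw [map_mul c.ι, map_mul c.ι, map_inv c.ι, hrf, hw, ← map_inv ψ, ← map_mul ψ, ← map_mul ψ])
      (by rw [map_inv, hz, map_inv])).2 hfc)
  have hb' : Function.Surjective σ := Finite.injective_iff_surjective.1 hσ
  refine ⟨⟨ψ.comp σ, hinj.comp hσ, fun g => hcomm _, ?_, ?_, ?_, ?_, ?_⟩⟩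
  · rintro ⟨g, hg⟩
    exact hnot ⟨σ g, hg⟩
  · intro x hx
    obtain ⟨i, g, hg⟩ := hcent x hx
    obtain ⟨g', rfl⟩ := hb' g
    exact ⟨i, g', hg⟩
  · rw [MonoidHom.comp_apply, hσz, hz]
  · rw [MonoidHom.comp_apply, hσw, hw]
  · rw [MonoidHom.comp_apply, hσr, hrf]

end Cfg

/-- A map which is multiplicative and faithful on a set of permutations. -/
structure PHom (S : P9 → Prop) (G : Type u) [Group G] where
  /-- The map. -/
  f : P9 → G
  one : S 1
  mul : ∀ {p q}, S p → S q → S (p * q)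
  inv : ∀ {p}, S p → S p⁻¹
  map_mul : ∀ {p q}, S p → S q → f (p * q) = f p * f q
  faithful : ∀ {p}, S p → f p = 1 → p = 1

namespace PHom

variable {S : P9 → Prop} (F : PHom S G)

omit [Finite G] in
theorem map_one : F.f 1 = 1 := by
  have h := F.map_mul F.one F.one
  rw [mul_one] at h
  exact left_eq_mul.1 h

omit [Finite G] in
theorem map_inv {p : P9} (hp : S p) : F.f p⁻¹ = (F.f p)⁻¹ := by
  refine eq_inv_of_mul_eq_one_left ?_
  rw [← F.map_mul (F.inv hp) hp, inv_mul_cancel, F.map_one]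

omit [Finite G] in
theorem map_conj {p q : P9} (hq : S q) (hp : S p) : F.f (q * p * q⁻¹) = F.f q * F.f p * (F.f q)⁻¹ := by
  rw [F.map_mul (F.mul hq hp) (F.inv hq), F.map_mul hq hp, F.map_inv hq]

omit [Finite G] in
theorem inj {p q : P9} (hp : S p) (hq : S q) (h : F.f p = F.f q) : p = q := by
  have := F.faithful (F.mul hp (F.inv hq)) (by rw [F.map_mul hp (F.inv hq), F.map_inv hq, h, mul_inv_cancel])
  exact mul_inv_eq_one.1 this

omit [Finite G] in
theorem commute_iff {p q : P9} (hp : S p) (hq : S q) : F.f p * F.f q = F.f q * F.f p ↔ p * q = q * p := by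
  rw [← F.map_mul hp hq, ← F.map_mul hq hp]
  exact ⟨F.inj (F.mul hp hq) (F.mul hq hp), fun h => by rw [h]⟩

/-- Transport by a permutation and an element of the group. -/
def move (g : P9) (x : G) : PHom (fun p => S (g⁻¹ * p * g)) G where
  f p := x * F.f (g⁻¹ * p * g) * x⁻¹
  one := by simpa using F.one
  mul {p q} hp hq := by
    have := F.mul hp hq
    rwa [show g⁻¹ * p * g * (g⁻¹ * q * g) = g⁻¹ * (p * q) * g by group] at this
  inv {p} hp := by
    have := F.inv hp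
    rwa [show (g⁻¹ * p * g)⁻¹ = g⁻¹ * p⁻¹ * g by group] at this
  map_mul {p q} hp hq := by
    rw [show g⁻¹ * (p * q) * g = g⁻¹ * p * g * (g⁻¹ * q * g) by group, F.map_mul hp hq]
    group
  faithful {p} hp h := by
    have := F.faithful hp (conj_eq_one_iff.1 h)
    calc p = g * (g⁻¹ * p * g) * g⁻¹ := by group
      _ = 1 := by rw [this]; group

omit [Finite G] in
theorem move_f (g : P9) (x : G) (p : P9) : (F.move g x).f p = x * F.f (g⁻¹ * p * g) * x⁻¹ := rfl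

end PHom

/-- The transposition of the first two of six points. -/
def s6 : Perm (Fin 6) := c[0, 1]

/-- The parity of a pair. -/
def oddK (k : K36) : ℕ := if Perm.sign k.1.1 = 1 then 0 else 1

/-- The exponent of a pair. -/
def expK (k : K36) : ℕ := if Perm.sign k.1.1 = 1 then (k.1.1 0).val else (k.1.1 1).val

theorem sign_part (k : K36) : Perm.sign (k.1.2 * s6 ^ oddK k) = 1 := by
  have h : Perm.sign k.1.1 * Perm.sign k.1.2 = 1 := k.2
  rcases Int.units_eq_one_or (Perm.sign k.1.1) with e | e <;> rw [e] at h <;>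
    simp only [oddK, e, map_mul, map_pow]
  · simpa using h
  · have h' : Perm.sign k.1.2 = -1 := by
      rcases Int.units_eq_one_or (Perm.sign k.1.2) with e' | e' <;> rw [e'] at h
      · exact absurd h (by decide)
      · exact e'
    have hs : Perm.sign s6 = -1 := by decide +kernel
    simp [h', hs]

/-- The even part of a pair on six points. -/
def partK (k : K36) : A6 := ⟨k.1.2 * s6 ^ oddK k, Equiv.Perm.mem_alternatingGroup.2 (sign_part k)⟩

theorem exp_mul : ∀ α β : Perm (Fin 3),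
    ((if Perm.sign (α * β) = 1 then ((α * β) 0).val else ((α * β) 1).val) % 3 =
      ((if Perm.sign α = 1 then (α 0).val else (α 1).val) +
        2 ^ (if Perm.sign α = 1 then 0 else 1) * (if Perm.sign β = 1 then (β 0).val else (β 1).val)) % 3) ∧
    ((if Perm.sign (α * β) = 1 then 0 else 1) =
      ((if Perm.sign α = 1 then 0 else 1) + (if Perm.sign β = 1 then 0 else 1)) % 2) := by
  decide +kernel

theorem partK_mul (k l : K36) : partK (k * l) = partK k * conj6 (s6 ^ oddK k) (partK l) := by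
  have h2 : s6 ^ 2 = 1 := by decide +kernel
  have ho : oddK (k * l) = (oddK k + oddK l) % 2 := (exp_mul k.1.1 l.1.1).2
  apply Subtype.ext
  rw [Subgroup.coe_mul, conj6_val]
  show k.1.2 * l.1.2 * s6 ^ oddK (k * l) = k.1.2 * s6 ^ oddK k * (s6 ^ oddK k * (l.1.2 * s6 ^ oddK l) * (s6 ^ oddK k)⁻¹)
  rw [ho]
  have hinv : (s6 ^ oddK k)⁻¹ = s6 ^ oddK k := by
    rw [inv_eq_iff_mul_eq_one, ← pow_add, ← two_mul, pow_mul, h2, one_pow]
  have hmod : s6 ^ ((oddK k + oddK l) % 2) = s6 ^ (oddK k + oddK l) := by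
    conv_rhs => rw [← Nat.mod_add_div (oddK k + oddK l) 2, pow_add, pow_mul, h2, one_pow, mul_one]
  rw [hmod, hinv, add_comm, pow_add]
  calc k.1.2 * l.1.2 * (s6 ^ oddK l * s6 ^ oddK k)
      = k.1.2 * (s6 ^ oddK k * (s6 ^ oddK k)⁻¹) * l.1.2 * (s6 ^ oddK l * s6 ^ oddK k) := by group
    _ = _ := by rw [hinv]; group

/-- Generators of the stabiliser. -/
def kA : K36 := ⟨(c[0, 1, 2], 1), by decide +kernel⟩
/-- Generators of the stabiliser. -/
def kB : K36 := ⟨(1, z6.1), by decide +kernel⟩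
/-- Generators of the stabiliser. -/
def kC : K36 := ⟨(1, w6.1), by decide +kernel⟩
/-- Generators of the stabiliser. -/
def kF : K36 := ⟨(1, r6.1), by decide +kernel⟩
/-- Generators of the stabiliser. -/
def kS : K36 := ⟨(c[0, 1], s6), by decide +kernel⟩
/-- An element of the six-point part. -/
def k6 (g : A6) : K36 := ⟨(1, g.1), by
  show Perm.sign (1 : Perm (Fin 3)) * Perm.sign g.1 = 1
  rw [map_one, one_mul, Equiv.Perm.mem_alternatingGroup.1 g.2]⟩

theorem jK_gens : jK kA = φW wA ∧ jK kB = φW wB ∧ jK kC = φW wC ∧ jK kF = φW wF ∧ jK kS = φW wS := by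
  decide +kernel

theorem gens_parts : (oddK kA = 0 ∧ expK kA = 1 ∧ partK kA = 1) ∧
    (oddK kB = 0 ∧ expK kB = 0 ∧ partK kB = z6) ∧ (oddK kC = 0 ∧ expK kC = 0 ∧ partK kC = w6) ∧
    (oddK kF = 0 ∧ expK kF = 0 ∧ partK kF = r6) ∧ (oddK kS = 1 ∧ expK kS = 0 ∧ partK kS = 1) := by
  decide +kernel

theorem tau_facts : wS * wS = 1 ∧ wS * u1 * wS⁻¹ = u1⁻¹ ∧ wS * wB * wS⁻¹ = wB⁻¹ ∧
    wS * wC * wS⁻¹ = wC ∧ wS * wF * wS⁻¹ = wF⁻¹ ∧ conj6 s6 z6⁻¹ = z6 ∧ conj6 s6 w6 = w6 ∧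
    conj6 s6 r6⁻¹ = r6 := by
  refine ⟨?_, ?_, ?_, ?_, ?_, Subtype.ext ?_, Subtype.ext ?_, Subtype.ext ?_⟩
  rotate_left 5
  all_goals try rw [conj6_val]
  all_goals decide +kernel

theorem s6_sq : s6 * s6 = 1 := by decide +kernel

namespace A6Data

variable {c : Cfg G} (d : A6Data c)

theorem a_cube : c.ι u1 ^ 3 = 1 := by rw [← map_pow, u1_cube, map_one]

theorem a_pow_mod (n : ℕ) : c.ι u1 ^ (n % 3) = c.ι u1 ^ n :=
  (pow_eq_pow_mod n a_cube).symm

include d in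
theorem comm_pow (i : ℕ) (g : A6) : Commute (c.ι u1 ^ i) (d.ψ g) :=
  ((show Commute (d.ψ g) (c.ι u1) from d.comm g).symm).pow_left i

theorem tau_sq : c.ι wS * c.ι wS = 1 := by rw [← map_mul, tau_facts.1, map_one]

theorem tau_inv : (c.ι wS)⁻¹ = c.ι wS := inv_eq_of_mul_eq_one_right tau_sq

theorem tau_a : c.ι wS * c.ι u1 * (c.ι wS)⁻¹ = (c.ι u1)⁻¹ := by
  rw [← map_inv, ← map_mul, ← map_mul, tau_facts.2.1, map_inv]

/-- Conjugation by the involution on the six-point part. -/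
theorem tau_conj (g : A6) : c.ι wS * d.ψ g * (c.ι wS)⁻¹ = d.ψ (conj6 s6 g) := by
  set τ := c.ι wS
  have hcomm : ∀ h : A6, τ * d.ψ h * τ⁻¹ * c.ι u1 = c.ι u1 * (τ * d.ψ h * τ⁻¹) := by
    intro h
    have hc : Commute (τ * d.ψ h * τ⁻¹) (τ * c.ι u1 * τ⁻¹) :=
      (show Commute (d.ψ h) (c.ι u1) from d.comm h).map (MulAut.conj τ).toMonoidHom
    rw [tau_a] at hc
    exact (Commute.inv_right_iff.1 hc).eq
  let Φ : A6 →* G := (MulAut.conj τ).toMonoidHom.comp d.ψ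
  have hz : Φ z6 = (d.ψ z6)⁻¹ := by
    show τ * d.ψ z6 * τ⁻¹ = _
    rw [d.hz, ← map_inv, ← map_mul, ← map_mul, tau_facts.2.2.1, map_inv]
  have hmem : ∀ h : A6, Φ h ∈ d.ψ.range := by
    suffices hle : (⊤ : Subgroup A6) ≤ d.ψ.range.comap Φ from fun h => hle (Subgroup.mem_top h)
    rw [← Exceptional.SelfNine.closure_gen, Subgroup.closure_le]
    rintro - ⟨i, rfl⟩
    have hz3 : (z6 : Perm (Fin 6)).IsThreeCycle := by
      rw [Perm.IsThreeCycle]; decide +kernel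
    obtain ⟨y, hy⟩ := isConj_iff.1 (alternatingGroup.isThreeCycle_isConj (by simp) hz3
      (Exceptional.SelfNine.isThreeCycle_gen i))
    obtain ⟨j, y', hy'⟩ := d.cent _ (hcomm y)
    have hy'' : Φ y = c.ι u1 ^ j * d.ψ y' := hy'
    rw [SetLike.mem_coe, Subgroup.mem_comap, ← hy, map_mul, map_mul, map_inv, hy'', hz,
      ← map_inv d.ψ]
    refine ⟨y' * z6⁻¹ * y'⁻¹, ?_⟩
    rw [map_mul, map_mul, map_inv d.ψ y']
    calc d.ψ y' * d.ψ z6⁻¹ * (d.ψ y')⁻¹
        = c.ι u1 ^ j * (d.ψ y' * d.ψ z6⁻¹ * (d.ψ y')⁻¹) * (c.ι u1 ^ j)⁻¹ := by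
          rw [← map_inv d.ψ y', ← map_mul, ← map_mul, (d.comm_pow j _).eq, mul_inv_cancel_right]
      _ = _ := by group
  let e := MonoidHom.ofInjective d.inj
  let σ : A6 →* A6 := e.symm.toMonoidHom.comp (Φ.codRestrict d.ψ.range hmem)
  have hσ : ∀ h, d.ψ (σ h) = Φ h := fun h =>
    congrArg Subtype.val (e.apply_symm_apply ⟨Φ h, hmem h⟩)
  have hid := eq_id ((conj6 s6).comp σ)
    ((conj6_injective _).comp fun a b h => d.inj ((MulAut.conj τ).injective
      (show Φ a = Φ b by rw [← hσ, ← hσ, h]))) ?_ ?_ ?_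
  · have h2 : conj6 s6 g = σ g := by
      conv_lhs => rw [← hid g]
      apply Subtype.ext
      rw [MonoidHom.comp_apply, conj6_val, conj6_val]
      calc s6 * (s6 * (σ g).1 * s6⁻¹) * s6⁻¹ = s6 * s6 * (σ g).1 * (s6 * s6)⁻¹ := by group
        _ = _ := by rw [s6_sq]; group
    rw [h2, hσ]
    rfl
  · rw [MonoidHom.comp_apply, show σ z6 = z6⁻¹ from d.inj (by rw [hσ, hz, map_inv])]
    exact tau_facts.2.2.2.2.2.1
  · rw [MonoidHom.comp_apply, show σ w6 = w6 from d.inj (by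
      rw [hσ]; show τ * d.ψ w6 * τ⁻¹ = _
      rw [d.hw, ← map_inv, ← map_mul, ← map_mul, tau_facts.2.2.2.1])]
    exact tau_facts.2.2.2.2.2.2.1
  · rw [MonoidHom.comp_apply, show σ r6 = r6⁻¹ from d.inj (by
      rw [hσ, map_inv]; show τ * d.ψ r6 * τ⁻¹ = _
      rw [d.hr, ← map_inv, ← map_mul, ← map_mul, tau_facts.2.2.2.2.1, map_inv])]
    exact tau_facts.2.2.2.2.2.2.2

/-- The embedding of the stabiliser. -/
def FK : K36 →* G :=
  MonoidHom.mk' (fun k => c.ι u1 ^ expK k * d.ψ (partK k) * c.ι wS ^ oddK k) (by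
    intro k l
    have he : c.ι u1 ^ expK (k * l) = c.ι u1 ^ (expK k + 2 ^ oddK k * expK l) := by
      rw [← a_pow_mod, ← a_pow_mod (expK k + _)]
      exact congrArg _ (exp_mul k.1.1 l.1.1).1
    have ho : c.ι wS ^ oddK (k * l) = c.ι wS ^ oddK k * c.ι wS ^ oddK l := by
      rw [← pow_add, show oddK (k * l) = (oddK k + oddK l) % 2 from (exp_mul k.1.1 l.1.1).2]
      exact (pow_eq_pow_mod _ (by rw [pow_two, tau_sq])).symm
    rw [he, ho, partK_mul, map_mul, pow_add]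
    rcases (show oddK k = 0 ∨ oddK k = 1 by simp only [oddK]; split_ifs <;> simp) with h | h <;>
      rw [h]
    · have hid : conj6 (s6 ^ 0) (partK l) = partK l := Subtype.ext (by rw [conj6_val]; simp)
      rw [hid, pow_zero, pow_zero, one_mul, one_mul, mul_one]
      calc c.ι u1 ^ expK k * c.ι u1 ^ expK l * (d.ψ (partK k) * d.ψ (partK l)) * c.ι wS ^ oddK l
          = c.ι u1 ^ expK k * (c.ι u1 ^ expK l * d.ψ (partK k)) * d.ψ (partK l) * c.ι wS ^ oddK l := by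
            group
        _ = _ := by rw [(d.comm_pow _ _).eq]; group
    · rw [pow_one, pow_one, pow_one]
      have hpull : c.ι wS * c.ι u1 ^ expK l = c.ι u1 ^ (2 * expK l) * c.ι wS := by
        refine (mul_inv_eq_iff_eq_mul.1 ?_)
        have h' := map_pow (MulAut.conj (c.ι wS)) (c.ι u1) (expK l)
        simp only [MulAut.conj_apply] at h'
        rw [h', tau_a, inv_eq_of_mul_eq_one_right
          (show c.ι u1 * c.ι u1 ^ 2 = 1 by rw [← pow_succ', a_cube]), ← pow_mul]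
      rw [← d.tau_conj]
      calc c.ι u1 ^ expK k * c.ι u1 ^ (2 * expK l) *
            (d.ψ (partK k) * (c.ι wS * d.ψ (partK l) * (c.ι wS)⁻¹)) * (c.ι wS * c.ι wS ^ oddK l)
          = c.ι u1 ^ expK k * (c.ι u1 ^ (2 * expK l) * d.ψ (partK k)) * c.ι wS * d.ψ (partK l) *
              c.ι wS ^ oddK l := by group
        _ = c.ι u1 ^ expK k * d.ψ (partK k) * (c.ι u1 ^ (2 * expK l) * c.ι wS) * d.ψ (partK l) *
              c.ι wS ^ oddK l := by rw [(d.comm_pow _ _).eq]; group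
        _ = _ := by rw [← hpull]; group)

theorem FK_apply (k : K36) : d.FK k = c.ι u1 ^ expK k * d.ψ (partK k) * c.ι wS ^ oddK k := rfl

theorem FK_injective : Function.Injective d.FK := by
  rw [injective_iff_map_eq_one]
  intro k hk
  rw [FK_apply] at hk
  have hka : ∀ i : ℕ, ∀ g : A6, c.ι u1 ^ i * d.ψ g = 1 → i % 3 = 0 ∧ g = 1 := by
    intro i g h
    have hmem : c.ι u1 ^ i ∈ d.ψ.range := ⟨g⁻¹, by rw [map_inv]; exact inv_eq_of_mul_eq_one_left h⟩
    have h0 : i % 3 = 0 := by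
      by_contra h0
      rcases (show i % 3 = 1 ∨ i % 3 = 2 by omega) with e | e <;>
        rw [← a_pow_mod, e] at hmem
      · exact d.notMem (by simpa using hmem)
      · refine d.notMem ?_
        have := mul_mem hmem hmem
        rwa [← pow_add, ← a_pow_mod, show (2 + 2) % 3 = 1 by norm_num, pow_one] at this
    refine ⟨h0, d.inj ?_⟩
    rw [← a_pow_mod, h0, pow_zero, one_mul] at h
    rw [h, map_one]
  rcases (show oddK k = 0 ∨ oddK k = 1 by simp only [oddK]; split_ifs <;> simp) with h | h <;>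
    rw [h] at hk
  · rw [pow_zero, mul_one] at hk
    obtain ⟨he, hg⟩ := hka _ _ hk
    have hg' : k.1.2 = 1 := by
      have := congrArg Subtype.val hg
      simpa [partK, h] using this
    have key : ∀ α : Perm (Fin 3), (if Perm.sign α = 1 then 0 else 1) = 0 →
        (if Perm.sign α = 1 then (α 0).val else (α 1).val) % 3 = 0 → α = 1 := by decide +kernel
    exact Subtype.ext (Prod.ext (key _ h he) hg')
  · exfalso
    rw [pow_one] at hk
    have h1 : c.ι wS * c.ι u1 = c.ι u1 * c.ι wS := by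
      have hS : c.ι wS = (c.ι u1 ^ expK k * d.ψ (partK k))⁻¹ := eq_inv_of_mul_eq_one_right hk
      rw [hS]
      exact ((((Commute.refl (c.ι u1)).pow_left _).mul_left (d.comm (partK k))).inv_left).eq
    have := c.inj (show c.ι (wS * u1) = c.ι (u1 * wS) by rw [map_mul, map_mul, h1])
    revert this
    decide +kernel

theorem FK_k6 (g : A6) : d.FK (k6 g) = d.ψ g := by
  have h : oddK (k6 g) = 0 ∧ expK (k6 g) = 0 := by simp [oddK, expK, k6]
  have hp : partK (k6 g) = g := Subtype.ext (by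
    show g.1 * s6 ^ oddK (k6 g) = g.1
    rw [h.1, pow_zero, mul_one])
  rw [FK_apply, h.1, h.2, hp, pow_zero, pow_zero, one_mul, mul_one]

theorem FK_gens : d.FK kA = c.ι wA ∧ d.FK kB = c.ι wB ∧ d.FK kC = c.ι wC ∧ d.FK kF = c.ι wF ∧
    d.FK kS = c.ι wS := by
  obtain ⟨⟨a1, a2, a3⟩, ⟨b1, b2, b3⟩, ⟨c1, c2, c3⟩, ⟨f1, f2, f3⟩, s1, s2, s3⟩ := gens_parts
  simp only [FK_apply, a1, a2, a3, b1, b2, b3, c1, c2, c3, f1, f2, f3, s1, s2, s3, pow_zero,
    pow_one, map_one, one_mul, mul_one, d.hz, d.hw, d.hr, and_self]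

open Classical in
/-- The embedding, as a map on permutations. -/
noncomputable def Fa : PHom InKa G where
  f p := if h : InKa p then d.FK ((inKa_iff p).1 h).choose else 1
  one := (inKa_iff 1).2 (one_mem _)
  mul := inKa_mul
  inv := inKa_inv
  map_mul {p q} hp hq := by
    have hh := inKa_mul hp hq
    rw [dif_pos hp, dif_pos hq, dif_pos hh, ← map_mul]
    refine congrArg d.FK (jK_injective ?_)
    rw [map_mul, ((inKa_iff p).1 hp).choose_spec, ((inKa_iff q).1 hq).choose_spec,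
      ((inKa_iff _).1 hh).choose_spec]
  faithful {p} hp h := by
    rw [dif_pos hp] at h
    rw [← ((inKa_iff p).1 hp).choose_spec, d.FK_injective (h.trans (map_one d.FK).symm), map_one]

theorem Fa_jK (k : K36) : d.Fa.f (jK k) = d.FK k := by
  have h : InKa (jK k) := (inKa_iff _).2 ⟨k, rfl⟩
  show dite _ _ _ = _
  rw [dif_pos h]
  exact congrArg d.FK (jK_injective ((inKa_iff _).1 h).choose_spec)

/-- The map agrees with the model on the stabiliser. -/
theorem Fa_agree {w : W} (hw : InKa (φW w)) : d.Fa.f (φW w) = c.ι w := by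
  obtain ⟨l, m, h1, h2⟩ := stab_form w hw
  obtain ⟨e1, e2, e3, e4, e5⟩ := jK_gens
  obtain ⟨f1, f2, f3, f4, f5⟩ := d.FK_gens
  have htr : ∀ i j k : ZMod 3, trV (i, j, k) = wA ^ i.val * wB ^ j.val * wC ^ k.val := by
    decide +kernel
  have hs0 : ∀ (l : Fin 4) (m : Fin 2), wF ^ (l : ℕ) * wS ^ (m : ℕ) =
      trV ((wF ^ (l : ℕ) * wS ^ (m : ℕ)).t0, (wF ^ (l : ℕ) * wS ^ (m : ℕ)).t1,
        (wF ^ (l : ℕ) * wS ^ (m : ℕ)).t2) * s0 (wF ^ (l : ℕ) * wS ^ (m : ℕ)) := by decide +kernel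
  obtain ⟨u, hu⟩ : ∃ u, wF ^ (l : ℕ) * wS ^ (m : ℕ) = u := ⟨_, rfl⟩
  have hu' := hs0 l m
  rw [hu] at h2 hu'
  have hw' : w = trV (w.t0, w.t1, w.t2) * (trV (u.t0, u.t1, u.t2))⁻¹ * u := by
    conv_rhs => enter [2]; rw [hu']
    conv_lhs => rw [h1, h2]
    group
  let k : K36 := kA ^ w.t0.val * kB ^ w.t1.val * kC ^ w.t2.val *
    (kA ^ u.t0.val * kB ^ u.t1.val * kC ^ u.t2.val)⁻¹ * (kF ^ (l : ℕ) * kS ^ (m : ℕ))
  have hw'' : w = wA ^ w.t0.val * wB ^ w.t1.val * wC ^ w.t2.val *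
      (wA ^ u.t0.val * wB ^ u.t1.val * wC ^ u.t2.val)⁻¹ * (wF ^ (l : ℕ) * wS ^ (m : ℕ)) := by
    rw [← htr, ← htr, hu]
    exact hw'
  have hk : jK k = φW w := by
    conv_rhs => rw [hw'']
    simp only [k, map_mul, map_pow, map_inv, e1, e2, e3, e4, e5]
  rw [← hk, Fa_jK]
  conv_rhs => rw [hw'']
  simp only [k, map_mul, map_pow, map_inv, f1, f2, f3, f4, f5]

/-- Elements normalising the line of `a` come from the stabiliser. -/
theorem exists_of_norm {x : G}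
    (hx : x * c.ι u1 * x⁻¹ = c.ι u1 ∨ x * c.ι u1 * x⁻¹ = (c.ι u1)⁻¹) :
    ∃ p, InKa p ∧ d.Fa.f p = x := by
  have hc : ∀ y : G, y * c.ι u1 = c.ι u1 * y → ∃ k : K36, d.FK k = y := by
    intro y hy
    obtain ⟨i, g, hg⟩ := d.cent y hy
    refine ⟨kA ^ i * k6 g, ?_⟩
    rw [map_mul, map_pow, d.FK_gens.1, FK_k6, hg]
  obtain ⟨k, hk⟩ : ∃ k : K36, d.FK k = x := by
    rcases hx with h | h
    · exact hc x (mul_inv_eq_iff_eq_mul.1 h)
    · obtain ⟨k, hk⟩ := hc (x * c.ι wS) (by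
        refine mul_inv_eq_iff_eq_mul.1 ?_
        calc x * c.ι wS * c.ι u1 * (x * c.ι wS)⁻¹ = x * (c.ι wS * c.ι u1 * (c.ι wS)⁻¹) * x⁻¹ := by group
          _ = (x * c.ι u1 * x⁻¹)⁻¹ := by rw [tau_a]; group
          _ = _ := by rw [h, inv_inv])
      refine ⟨k * kS, ?_⟩
      rw [map_mul, hk, d.FK_gens.2.2.2.2, mul_assoc, tau_sq, mul_one]
  exact ⟨jK k, (inKa_iff _).2 ⟨k, rfl⟩, by rw [Fa_jK, hk]⟩

theorem Fa_six {g : A6} {p : P9} (h : jK (k6 g) = p) : d.Fa.f p = d.ψ g := by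
  rw [← h, Fa_jK, FK_k6]

/-- `(5 6)(7 8)`. -/
abbrev gP : P9 := c[5, 6] * c[7, 8]

/-- The rotation of the blocks. -/
abbrev rP : P9 := c[0, 3, 6] * c[1, 4, 7] * c[2, 5, 8]

/-- The stabiliser of the second block. -/
def InKb (p : P9) : Prop := InKa (rP⁻¹ * p * rP)

/-- The stabiliser of `{3, 4, 6}`. -/
def InKy (p : P9) : Prop := InKb (gP⁻¹ * p * gP)

instance : DecidablePred InKb := fun p => inferInstanceAs (Decidable (InKa _))
instance : DecidablePred InKy := fun p => inferInstanceAs (Decidable (InKb _))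

/-- The embedding of the stabiliser of the second block. -/
noncomputable def Fb : PHom InKb G := d.Fa.move rP (c.ι wR)

/-- The embedding of the stabiliser of `{3, 4, 6}`. -/
noncomputable def Fy : PHom InKy G := d.Fb.move gP (d.Fa.f gP)

theorem Fb_agree {w : W} (hw : InKb (φW w)) : d.Fb.f (φW w) = c.ι w := by
  have hr : rP = φW wR := φW_values.2.2.2.2.2.1.symm
  have hm : InKa (φW (wR⁻¹ * w * wR)) := by
    rw [map_mul, map_mul, map_inv, ← hr]
    exact hw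
  show c.ι wR * d.Fa.f (rP⁻¹ * φW w * rP) * (c.ι wR)⁻¹ = _
  rw [hr, ← map_inv, ← map_mul, ← map_mul, d.Fa_agree hm, map_mul, map_mul, map_inv]
  group

end A6Data

end Cfsg.Agent.NineRecog
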