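import Cfsg.Agent.Lib.NineRecog.KeyTables

/-!
# `(2 5 8)` of the stabiliser of `{3, 4, 6}` commutes with `(3 4)(6 7)`
-/

set_option autoImplicit false
set_option synthInstance.maxHeartbeats 200000
set_option synthInstance.maxSize 1024

namespace Cfsg.Agent.NineRecog

open Equiv
open Cfsg Cfsg.Agent.Exceptional.Nine

universe u

namespace A6Data

variable {G : Type u} [Group G] [Finite G] {c : Cfg G} (d : A6Data c)

theorem FK_mul_k6 (g h : A6) : d.FK (k6 g * k6 h) = d.ψ (g * h) := by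
  rw [map_mul, FK_k6, FK_k6, map_mul]

/-- The part of the stabiliser of `{3, 4, 6}` commuting with `(3 4)(6 7)`. -/
noncomputable def X6 : Subgroup A6 :=
  (Subgroup.centralizer {d.ψ si}).comap ((MulAut.conj d.hy).toMonoidHom.comp d.ψ)

theorem mem_X6 {σ : A6} : σ ∈ d.X6 ↔
    d.hy * d.ψ σ * d.hy⁻¹ * d.ψ si = d.ψ si * (d.hy * d.ψ σ * d.hy⁻¹) := by
  rw [X6, Subgroup.mem_comap, Subgroup.mem_centralizer_singleton_iff]
  rfl

theorem hy_Fa (k : K36) (h : InKa (hP * jK k * hP⁻¹)) :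
    d.hy * d.FK k * d.hy⁻¹ = d.Fa.f (hP * jK k * hP⁻¹) := by
  rw [← d.Fy_hP, d.Fy_eq_Fa h (inKy_hP k)]

theorem X6_of_inKa {σ : A6} (h : InKa (hP * p6 σ * hP⁻¹)) :
    σ ∈ d.X6 ↔ hP * p6 σ * hP⁻¹ * p6 si = p6 si * (hP * p6 σ * hP⁻¹) := by
  rw [mem_X6, ← FK_k6, hy_Fa d _ h, ← d.Fa_six' si]
  exact d.Fa.commute_iff h (inKa_p6 si)

theorem hy_w6 : d.hy * d.ψ w6 * d.hy⁻¹ = c.ι u1 := by
  have h := hP_facts.1
  rw [← FK_k6, hy_Fa d _ (by rw [show jK (k6 w6) = p6 w6 from rfl, h]; decide +kernel),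
    show jK (k6 w6) = p6 w6 from rfl, h, Fa_a]

theorem hy_a : d.hy * c.ι u1 * d.hy⁻¹ = d.ψ ky := by
  have h := hP_facts.2.2.2.2.2.1
  rw [← d.FK_gens.1, hy_Fa d _ (by rw [h]; exact inKa_p6 ky), h, Fa_six']

theorem w6_mem_X6 : w6 ∈ d.X6 := by
  rw [mem_X6, hy_w6]
  exact (d.comm si).symm

theorem si_mem_X6 : si ∈ d.X6 := (d.X6_of_inKa hP_facts.2.1).2 hP_facts.2.2.1

theorem X6_conj {σ : A6} (h : σ ∈ d.X6) : conj6 s6 σ ∈ d.X6 := by
  obtain ⟨-, -, -, h1, h2, -⟩ := hP_facts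
  rw [mem_X6] at h ⊢
  have hτ : Commute (d.hy * c.ι wS * d.hy⁻¹) (d.ψ si) := by
    rw [← d.FK_gens.2.2.2.2, hy_Fa d _ h1, ← d.Fa_six' si]
    exact (d.Fa.commute_iff h1 (inKa_p6 si)).2 h2
  rw [← d.tau_conj, show d.hy * (c.ι wS * d.ψ σ * (c.ι wS)⁻¹) * d.hy⁻¹ =
    d.hy * c.ι wS * d.hy⁻¹ * (d.hy * d.ψ σ * d.hy⁻¹) * (d.hy * c.ι wS * d.hy⁻¹)⁻¹ by group]
  exact (hτ.mul_left h).mul_left hτ.inv_left

theorem not_bad : bad6 ∉ d.X6 := by
  intro hbad
  obtain ⟨b2, b3, b4, b5, b6, b7, b8⟩ := bad_facts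
  rw [mem_X6, ← FK_k6, ← Fy_hP] at hbad
  set p8 := gP⁻¹ * (hP * p6 bad6 * hP⁻¹) * gP with hp8
  have hI : InKb p8 := inKy_hP (k6 bad6)
  have hF : d.Fy.f (hP * jK (k6 bad6) * hP⁻¹) = d.Fa.f gP * d.Fb.f p8 * (d.Fa.f gP)⁻¹ := rfl
  rw [hF, ← d.Fa_six' si] at hbad
  have hg := inKa_gP
  have h1 : Commute (d.Fb.f p8) (d.ψ si) := by
    rw [← d.Fa_six' si, ← d.Fb_eq_Fa (inKa_p6 si) b4]
    exact (d.Fb.commute_iff hI b4).2 b5
  have h2 : Commute (d.Fb.f p8) (d.ψ (si * sj)) := by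
    rw [← d.Fa_six', ← b3, show gP⁻¹ * p6 si * gP = gP⁻¹ * p6 si * (gP⁻¹)⁻¹ by group,
      d.Fa.map_conj (inKa_inv hg) (inKa_p6 si), d.Fa.map_inv hg]
    have := (show Commute _ _ from hbad).map (MulAut.conj (d.Fa.f gP)⁻¹).toMonoidHom
    simp only [MulEquiv.coe_toMonoidHom, MulAut.conj_apply] at this
    convert this using 1
    group
  have h3 : Commute (d.Fb.f p8) (d.ψ sj) := by
    have : d.ψ sj = d.ψ si * d.ψ (si * sj) := by rw [← map_mul, ← mul_assoc, fourA.h1, one_mul]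
    rw [this]
    exact h1.mul_right h2
  have hn := d.cVA_norm _ (d.mem_cV.2 ⟨h1, h3⟩)
  have ha : c.ι u1 = d.Fb.f (φW wA) := (d.Fb_agree b6).symm
  rw [ha, ← d.Fb.map_conj hI b6, ← d.Fb.map_inv b6] at hn
  have hm : InKb (p8 * φW wA * p8⁻¹) := d.Fb.mul (d.Fb.mul hI b6) (d.Fb.inv hI)
  rcases hn with hn | hn
  · exact b7 (d.Fb.inj hm b6 hn)
  · exact b8 (d.Fb.inj hm (d.Fb.inv b6) hn)

theorem X6_cases : good6 ∈ d.X6 ∨ ∀ σ ∈ d.X6, inS3 σ := by
  by_contra h
  push Not at h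
  obtain ⟨hgood, σ, hσ, hσS⟩ := h
  obtain ⟨l, -, hl⟩ := trichotomy σ hσS
  set x := evalWord ![w6, si, σ, conj6 s6 σ] l with hx
  have hxX : x ∈ d.X6 := by
    rw [hx, evalWord]
    refine list_prod_mem fun y hy => ?_
    obtain ⟨i, -, rfl⟩ := List.mem_map.1 hy
    fin_cases i
    · exact d.w6_mem_X6
    · exact d.si_mem_X6
    · exact hσ
    · exact d.X6_conj hσ
  rcases hl with hl | hl | hl | ⟨hc, h1, h2, h3⟩
  · exact hgood (hl ▸ hxX)
  · exact hgood (by have := inv_mem (hl ▸ hxX); rwa [inv_inv] at this)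
  · exact d.not_bad (hl ▸ hxX)
  · obtain ⟨hin, hsol⟩ := hP_cent x hc
    rcases hsol ((d.X6_of_inKa hin).1 hxX) with e | e | e
    · exact h1 e
    · exact h2 e
    · exact h3 e

/-- Without the element the centraliser of `⟨(3 4)(6 7), (3 6)(4 7)⟩` normalises the line. -/
theorem cVB_norm (hS : ∀ σ ∈ d.X6, inS3 σ) : ∀ x ∈ d.cV si si',
    x * c.ι u1 * x⁻¹ = c.ι u1 ∨ x * c.ι u1 * x⁻¹ = (c.ι u1)⁻¹ := by
  refine (d.fourCfg fourB).norm_line (d.comm ky).symm fun R hRC hR hRa hRq => ?_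
  have hk3 : d.ψ ky ^ 3 = 1 := (d.fourCfg fourB).hq
  have hky1 : ky ≠ 1 := by decide +kernel
  refine le_of_pair a_cube hk3 (d.comm ky).symm a_ne_one ?_ hR hRa hRq fun i j hne r hr hrx => ?_
  · intro i hi
    have h1 : c.ι u1 ^ (i % 3) ∈ d.ψ.range := ⟨ky, by rw [← pow_reduce a_cube]; exact hi⟩
    rcases (show i % 3 = 0 ∨ i % 3 = 1 ∨ i % 3 = 2 by omega) with e | e | e <;> rw [e] at h1
    · exfalso
      rw [pow_reduce a_cube, e, pow_zero] at hi
      exact hky1 (d.inj (hi.trans (map_one _).symm))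
    · exact d.notMem (by simpa using h1)
    · refine d.notMem ?_
      have := mul_mem h1 h1
      rwa [← pow_add, pow_reduce a_cube, show (2 + 2) % 3 = 1 by norm_num, pow_one] at this
  · have hwk : ∀ {x : G}, x ^ 3 = 1 → ∀ n : ℕ, n % 3 ≠ 0 → r * x ^ n = x ^ n * r → r * x = x * r := by
      intro x hx3 n hn hc
      rw [pow_reduce hx3 n] at hc
      rcases (show n % 3 = 1 ∨ n % 3 = 2 by omega) with e | e <;> rw [e] at hc
      · simpa using hc
      · have hc2 : Commute r (x ^ 2) := hc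
        have h4 := hc2.pow_right 2
        rw [← pow_mul, pow_reduce hx3] at h4
        simpa using h4.eq
    by_cases hj : j % 3 = 0
    · rw [pow_reduce hk3 j, hj, pow_zero, mul_one] at hne hrx
      refine d.mem_vV_of_comm fourB hRC hR hr (hwk a_cube i (fun e => hne ?_) hrx)
      rw [pow_reduce a_cube, e, pow_zero]
    by_cases hi : i % 3 = 0
    · -- the line of `(3 4 6)`
      rw [pow_reduce a_cube i, hi, pow_zero, one_mul] at hrx
      have hy := hwk hk3 j hj hrx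
      rw [← hy_a] at hy
      obtain ⟨k, g, hkg⟩ := d.cent (d.hy⁻¹ * r * d.hy) (by
        calc d.hy⁻¹ * r * d.hy * c.ι u1 = d.hy⁻¹ * (r * (d.hy * c.ι u1 * d.hy⁻¹)) * d.hy := by group
          _ = d.hy⁻¹ * (d.hy * c.ι u1 * d.hy⁻¹ * r) * d.hy := by rw [hy]
          _ = _ := by group)
      obtain ⟨l, hl⟩ := exists_cube_pow hR hr
      have hr' : r = d.hy * d.ψ ((g ^ 3) ^ l) * d.hy⁻¹ := by
        have hr0 : r = d.hy * (c.ι u1 ^ k * d.ψ g) * d.hy⁻¹ := by rw [← hkg]; group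
        conv_lhs => rw [← hl, hr0]
        rw [conj_pow, conj_pow, (d.comm_pow k g).mul_pow, ← pow_mul, mul_comm k, pow_mul, a_cube,
          one_pow, one_mul, map_pow, map_pow]
      have hX : (g ^ 3) ^ l ∈ d.X6 := by
        rw [mem_X6, ← hr']
        exact (d.mem_cV.1 (hRC hr)).1
      rcases S3_split _ (hS _ hX) with ⟨m, hm⟩ | hinv
      · refine d.mem_vV_of_comm fourB hRC hR hr ?_
        rw [hr', hm, map_pow, ← conj_pow, hy_w6]
        exact ((Commute.refl (c.ι u1)).pow_left _).eq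
      · exfalso
        have e : r * c.ι u1 * r⁻¹ = (c.ι u1)⁻¹ := by
          rw [hr', ← d.hy_w6]
          calc _ = d.hy * (d.ψ ((g ^ 3) ^ l) * d.ψ w6 * (d.ψ ((g ^ 3) ^ l))⁻¹) * d.hy⁻¹ := by group
            _ = d.hy * d.ψ w6⁻¹ * d.hy⁻¹ := by rw [← map_inv d.ψ, ← map_mul, ← map_mul, hinv]
            _ = _ := by rw [map_inv]; group
        have hmem : c.ι u1 ∈ R := by
          have h1 : r * (c.ι u1 * r⁻¹ * (c.ι u1)⁻¹) ∈ R := mul_mem hr (hRa _ (inv_mem hr))
          rw [← mul_assoc, ← mul_assoc, e] at h1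
          have e2 : (c.ι u1)⁻¹ * (c.ι u1)⁻¹ = c.ι u1 := by
            rw [← mul_inv_rev]
            exact inv_eq_of_mul_eq_one_right (by rw [mul_assoc, ← pow_three]; exact a_cube)
          rwa [e2] at h1
        have h3 := (hR.coprime_dvd_left (R.orderOf_dvd_natCard hmem))
        rw [orderOf_eq_prime a_cube a_ne_one] at h3
        norm_num at h3
    · obtain ⟨g, hg⟩ := conjB
      refine d.mem_vV_of_heavy fourB hRC hR hRa (h₀ := g) (v := wB) (tr_mem_T 0 1 0) ?_ i j ?_ hr hrx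
      · rw [hg, map_mul, map_mul, map_inv, d.hz]
      · rw [pow_reduce u1_cube, pow_reduce (show wB ^ 3 = 1 by decide +kernel) j]
        exact heavyB ⟨i % 3, Nat.mod_lt _ (by norm_num)⟩ ⟨j % 3, Nat.mod_lt _ (by norm_num)⟩
          (fun h => hi (congrArg Fin.val h)) fun h => hj (congrArg Fin.val h)

/-- The involution of `(2 5 8)` lies in the centraliser: the key relation. -/
theorem good_mem : good6 ∈ d.X6 := by
  rcases d.X6_cases with h | hS
  · exact h
  exfalso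
  haveI : Fact (Nat.Prime 2) := ⟨Nat.prime_two⟩
  have hB := d.cVB_norm hS
  set T0 := T0K.map d.FK with hT0def
  have hT016 : Nat.card T0 = 16 := by
    rw [hT0def, Subgroup.card_map_of_injective d.FK_injective,
      show Nat.card T0K = Nat.card (Set.range tk) from rfl,
      ← Nat.card_congr (Equiv.ofInjective tk tk_facts.1)]
    simp
  have hmemT : ∀ {y : G}, y ∈ T0 → ∃ x, d.FK (tk x) = y := by
    rintro y ⟨k, ⟨x, rfl⟩, rfl⟩
    exact ⟨x, rfl⟩
  obtain ⟨-, -, -, -, hcen, ⟨xi, hxi⟩, ⟨xi', hxi'⟩, ⟨xj, hxj⟩, ⟨xh, hxh⟩⟩ := tk_facts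
  -- the normaliser of the subgroup normalises the line
  have hN : ∀ n ∈ Subgroup.normalizer (T0 : Set G),
      n * c.ι u1 * n⁻¹ = c.ι u1 ∨ n * c.ι u1 * n⁻¹ = (c.ι u1)⁻¹ := by
    intro n hn
    have himg : ∀ x, ∃ y, d.FK (tk y) = n * d.FK (tk x) * n⁻¹ := fun x =>
      hmemT ((Subgroup.mem_normalizer_iff.1 hn _).1 ⟨tk x, ⟨x, rfl⟩, rfl⟩)
    choose f hf using himg
    have hfinj : ∀ {x y}, tk (f x) = tk (f y) → tk x = tk y := fun {x y} h => d.FK_injective (by
      have := congrArg d.FK h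
      rw [hf, hf] at this
      exact mul_left_cancel (mul_right_cancel this))
    have hmul : ∀ x y z, tk x * tk y = tk z → tk (f x) * tk (f y) = tk (f z) := fun x y z h =>
      d.FK_injective (by rw [map_mul, hf, hf, hf, ← h, map_mul]; group)
    have hsur : ∀ x, ∃ y, tk (f y) = tk x := by
      intro x
      have h : n⁻¹ * d.FK (tk x) * n ∈ T0 := by
        have := (Subgroup.mem_normalizer_iff.1 (inv_mem hn) (d.FK (tk x))).1 ⟨tk x, ⟨x, rfl⟩, rfl⟩
        rwa [inv_inv] at this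
      obtain ⟨y, hy⟩ := hmemT h
      exact ⟨y, d.FK_injective (by rw [hf, hy]; group)⟩
    have hnot : ∀ x, (∃ g : A6, k6 (g * si * g⁻¹) = tk x) → ¬ sType (tk (f x)) := by
      rintro x ⟨g, hg⟩ hs
      obtain ⟨k, hk⟩ := sType_conj _ hs
      refine d.not_conj_wX ((d.FK k)⁻¹ * n * d.ψ g) ?_
      have hX : d.FK kW = c.ι wX := by
        rw [← Fa_jK, burnside_facts.2.2.2.1, d.Fa_agree burnside_facts.2.2.2.2.2]
      have e : n * (d.ψ g * d.ψ si * (d.ψ g)⁻¹) * n⁻¹ = d.FK k * c.ι wX * (d.FK k)⁻¹ := by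
        rw [← map_inv d.ψ, ← map_mul, ← map_mul, ← FK_k6, hg, ← hf, ← hk, map_mul, map_mul, map_inv,
          hX]
      calc (d.FK k)⁻¹ * n * d.ψ g * d.ψ si * ((d.FK k)⁻¹ * n * d.ψ g)⁻¹
          = (d.FK k)⁻¹ * (n * (d.ψ g * d.ψ si * (d.ψ g)⁻¹) * n⁻¹) * d.FK k := by group
        _ = _ := by rw [e]; group
    have hpair : ∀ (σ : A6) (y : Fin 2 × Fin 2 × Fin 2 × Fin 2), tk y = k6 σ →
        (σ = si' ∨ σ = sj) → okPair (tk (f xi)) (tk (f y)) := by
      intro σ y hy hσ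
      have hp : ∀ σ₁ σ₂ : A6, k6 σ₁ * k6 σ₂ = k6 (σ₁ * σ₂) := fun σ₁ σ₂ =>
        Subtype.ext (Prod.ext (one_mul _) rfl)
      have hk1 : k6 (1 : A6) = 1 := Subtype.ext rfl
      obtain ⟨z, hz⟩ := tk_facts.2.2.1 xi y
      have hz' : tk z = k6 (si * σ) := by rw [← hz, hxi, hy, hp]
      have hf1 : ∀ x, tk x = 1 → tk (f x) = 1 := fun x hx =>
        d.FK_injective (by rw [hf, hx, map_one]; group)
      have hfne : ∀ x, tk x ≠ 1 → tk (f x) ≠ 1 := fun x hx h => hx (by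
        have := congrArg d.FK h
        rw [hf, map_one, conj_eq_one_iff] at this
        exact d.FK_injective (this.trans (map_one _).symm))
      have hsq : ∀ x, tk x * tk x = 1 → tk (f x) * tk (f x) = 1 := fun x hx => by
        obtain ⟨z, hz⟩ := tk_facts.2.2.1 x x
        rw [hmul x x z hz]
        exact hf1 z (hz ▸ hx)
      have hσ2 : σ * σ = 1 ∧ σ ≠ 1 ∧ si ≠ σ ∧ si * σ = σ * si := by
        rcases hσ with rfl | rfl <;> decide +kernel
      have hne : ∀ σ₁ σ₂ : A6, σ₁ ≠ σ₂ → k6 σ₁ ≠ k6 σ₂ := fun σ₁ σ₂ h e => h (Subtype.ext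
        (congrArg (fun k : K36 => k.1.2) e))
      refine ⟨hsq xi (by rw [hxi, hp, vertices.2.1, hk1]),
        hfne xi (by rw [hxi, ← hk1]; exact hne _ _ vertices.2.2),
        hsq y (by rw [hy, hp, hσ2.1, hk1]),
        hfne y (by rw [hy, ← hk1]; exact hne _ _ hσ2.2.1),
        fun e => hne _ _ hσ2.2.2.1 (by rw [← hxi, ← hy]; exact hfinj e), ?_, ?_, ?_, ?_, ?_, ?_⟩
      · obtain ⟨z2, hz2⟩ := tk_facts.2.2.1 y xi
        rw [hmul _ _ _ hz, hmul _ _ _ hz2]
        apply d.FK_injective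
        rw [hf, hf, ← hz, ← hz2, hxi, hy, hp, hp, hσ2.2.2.2]
      · intro w
        obtain ⟨v, hv⟩ := hsur w
        obtain ⟨z1, h1⟩ := tk_facts.2.2.1 v xi
        obtain ⟨z2, h2⟩ := tk_facts.2.2.1 xi v
        rw [← hv, hmul _ _ _ h1, hmul _ _ _ h2]
        apply d.FK_injective
        rw [hf, hf, ← h1, ← h2, hxi, (hcen v).1]
      · intro w
        obtain ⟨v, hv⟩ := hsur w
        have key : ∀ v y, (tk y = k6 si' ∨ tk y = k6 sj) →
            tk v * tk y = tk y * tk v ∨ tk v * tk y = k6 si * tk y * tk v := by decide +kernel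
        rw [← hv, mul_inv_eq_iff_eq_mul, mul_inv_eq_iff_eq_mul]
        obtain ⟨z1, h1⟩ := tk_facts.2.2.1 v y
        obtain ⟨z2, h2⟩ := tk_facts.2.2.1 y v
        obtain ⟨z3, h3⟩ := tk_facts.2.2.1 z v
        rcases key v y (hσ.imp (fun h => by rw [hy, h]) (fun h => by rw [hy, h])) with e | e
        · left
          rw [hmul _ _ _ h1, hmul _ _ _ h2]
          apply d.FK_injective
          rw [hf, hf, ← h1, ← h2, e]
        · right
          rw [hmul _ _ _ hz, hmul _ _ _ h1, hmul _ _ _ h3]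
          apply d.FK_injective
          rw [hf, hf, ← h1, ← h3, e, ← hz, hxi]
      · exact hnot xi ⟨1, by rw [one_mul, inv_one, mul_one, hxi]⟩
      · obtain ⟨g, hg⟩ := four_conjugates σ (hσ.imp id fun h => Or.inr (Or.inl h))
        exact hnot y ⟨g, by rw [hg, hy]⟩
      · rw [hmul _ _ _ hz]
        obtain ⟨g, hg⟩ := four_conjugates (si * σ) (by
          rcases hσ with rfl | rfl
          · exact Or.inr (Or.inl rfl)
          · exact Or.inr (Or.inr (Or.inr rfl)))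
        exact hnot z ⟨g, by rw [hg, hz']⟩
    have hneq : tk (f xj) ≠ tk (f xi') ∧ tk (f xj) ≠ tk (f xi) * tk (f xi') := by
      obtain ⟨z, hz⟩ := tk_facts.2.2.1 xi xi'
      refine ⟨fun e => ?_, fun e => ?_⟩
      · have := hfinj e
        rw [hxj, hxi'] at this
        revert this; decide +kernel
      · rw [hmul _ _ _ hz] at e
        have := hfinj e
        rw [hxj, ← hz, hxi, hxi'] at this
        revert this; decide +kernel
    -- the line of `a` inside the image centraliser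
    have hline : ∀ σ y, tk y = k6 σ → (σ = si' ∨ σ = sj) → goodPair (tk (f xi)) (tk (f y)) →
        n * c.ι u1 * n⁻¹ = c.ι u1 ∨ n * c.ι u1 * n⁻¹ = (c.ι u1)⁻¹ := by
      intro σ y hy hσ ⟨hgi, hgy⟩
      have hcomm : ∀ x, tk x = k6 si ∨ tk x = k6 σ →
          Commute (n * c.ι u1 * n⁻¹) (d.FK (tk (f x))) := by
        intro x hx
        rw [hf]
        have : Commute (c.ι u1) (d.FK (tk x)) := by
          rcases hx with e | e <;> rw [e, FK_k6] <;> exact (d.comm _).symm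
        exact this.map (MulAut.conj n).toMonoidHom
      have h1 : Commute (n * c.ι u1 * n⁻¹) (d.ψ si) := by
        rw [← FK_k6, ← hgi]; exact hcomm xi (Or.inl hxi)
      have hcase : Commute (n * c.ι u1 * n⁻¹) (d.ψ si') ∨ Commute (n * c.ι u1 * n⁻¹) (d.ψ sj) := by
        have h2 := hcomm y (Or.inr hy)
        rcases hgy with e | e | e | e <;> rw [e] at h2
        · left; rwa [FK_k6] at h2
        · left
          rw [FK_mul_k6, map_mul] at h2
          have := h1.mul_right h2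
          rwa [← mul_assoc, ← map_mul, vertices.2.1, map_one, one_mul] at this
        · right; rwa [FK_k6] at h2
        · right
          rw [FK_mul_k6, map_mul] at h2
          have := h1.mul_right h2
          rwa [← mul_assoc, ← map_mul, vertices.2.1, map_one, one_mul] at this
      have hnorm : n * c.ι u1 * n⁻¹ * c.ι u1 * (n * c.ι u1 * n⁻¹)⁻¹ = c.ι u1 ∨
          n * c.ι u1 * n⁻¹ * c.ι u1 * (n * c.ι u1 * n⁻¹)⁻¹ = (c.ι u1)⁻¹ := by
        rcases hcase with h | h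
        · exact hB _ (d.mem_cV.2 ⟨h1, h⟩)
        · exact d.cVA_norm _ (d.mem_cV.2 ⟨h1, h⟩)
      obtain ⟨p, hp, hpe⟩ := d.exists_of_norm hnorm
      obtain ⟨k, rfl⟩ := (inKa_iff p).1 hp
      rw [Fa_jK] at hpe
      rw [← hpe] at h1 hcase
      have hk3 : k ^ 3 = 1 := d.FK_injective (by
        rw [map_pow, hpe, conj_pow, a_cube, map_one]; group)
      have hk1 : k ≠ 1 := fun e => by
        rw [e, map_one, eq_comm, conj_eq_one_iff] at hpe
        exact a_ne_one hpe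
      have hkk : ∀ τ : A6, Commute (d.FK k) (d.ψ τ) → k * k6 τ = k6 τ * k := fun τ h =>
        d.FK_injective (by rw [map_mul, map_mul, FK_k6]; exact h.eq)
      rcases line_kA k hk3 hk1 (hkk _ h1) (hcase.imp (hkk _) (hkk _)) with e | e
      · left; rw [← hpe, e, d.FK_gens.1]
      · right; rw [← hpe, e, map_inv, d.FK_gens.1]
    rcases pairs_table _ _ (hpair si' xi' hxi' (Or.inl rfl)) _ (hpair sj xj hxj (Or.inr rfl))
        hneq.1 hneq.2 with h | h
    · exact hline si' xi' hxi' (Or.inl rfl) h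
    · exact hline sj xj hxj (Or.inr rfl) h
  have hNK : ∀ n ∈ Subgroup.normalizer (T0 : Set G), n ∈ d.FK.range := fun n hn => by
    obtain ⟨p, hp, rfl⟩ := d.exists_of_norm (hN n hn)
    obtain ⟨k, rfl⟩ := (inKa_iff p).1 hp
    exact ⟨k, (d.Fa_jK k).symm⟩
  -- it is a Sylow subgroup
  have hT2 : IsPGroup 2 T0 := IsPGroup.of_card (n := 4) (by rw [hT016]; norm_num)
  obtain ⟨S, hS2⟩ := hT2.exists_le_sylow
  have hST : (S : Subgroup G) = T0 := by
    by_contra hne
    have hlt : T0.subgroupOf (S : Subgroup G) < ⊤ := by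
      rw [lt_top_iff_ne_top]
      exact fun h => hne (le_antisymm (Subgroup.subgroupOf_eq_top.1 h) hS2)
    haveI := S.2.isNilpotent
    obtain ⟨x, hx, hxT⟩ := SetLike.exists_of_lt (Group.normalizerCondition_of_isNilpotent _ hlt)
    have hxN : (x : G) ∈ Subgroup.normalizer (T0 : Set G) :=
      EightLocal.mem_normalizer_of_conj_mem fun y hy =>
        (Subgroup.mem_normalizer_iff.1 hx ⟨y, hS2 hy⟩).1 hy
    have hcardK : Nat.card d.FK.range = 2160 := by
      rw [← Nat.card_congr (MonoidHom.ofInjective d.FK_injective).toEquiv, Nat.card_eq_fintype_card]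
      decide +kernel
    obtain ⟨m, hm⟩ := IsPGroup.iff_card.1 (S.2.to_le (inf_le_left : (S : Subgroup G) ⊓ d.FK.range ≤ S))
    have hdvd : 2 ^ m ∣ 2160 := by
      rw [← hm, ← hcardK]
      exact Subgroup.card_dvd_of_le inf_le_right
    have hm4 : m ≤ 4 := by
      by_contra hcon
      have := (pow_dvd_pow 2 (show 5 ≤ m by omega)).trans hdvd
      norm_num at this
    have heq := Subgroup.eq_of_le_of_card_ge
      (le_inf hS2 (Subgroup.map_le_range d.FK T0K) : T0 ≤ (S : Subgroup G) ⊓ d.FK.range) (by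
        rw [hm, hT016]
        exact (Nat.pow_le_pow_right (by norm_num) hm4).trans (by norm_num))
    exact hxT (show (x : G) ∈ T0 by rw [heq]; exact ⟨x.2, hNK _ hxN⟩)
  -- two central elements are fused
  obtain ⟨hb1, ⟨kk, hkk⟩, hbI, -, hbIa, -⟩ := burnside_facts
  have hsi : d.ψ si = c.ι wR * c.ι wS * (c.ι wR)⁻¹ := by
    rw [← FK_k6, ← Fa_jK, hbI, d.Fa_agree hbIa, map_mul, map_mul, map_inv]
  have hcentral : ∀ x, (∀ z, tk z * tk x = tk x * tk z) →
      d.FK (tk x) ∈ Subgroup.centralizer ((S : Subgroup G) : Set G) := by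
    intro x hx
    rw [Subgroup.mem_centralizer_iff]
    intro y hy
    rw [hST] at hy
    obtain ⟨z, rfl⟩ := hmemT hy
    rw [← map_mul, ← map_mul, hx]
  set g := (d.FK kk * (c.ι wR)⁻¹)⁻¹ with hg
  have hgconj : g⁻¹ * d.FK (tk xi) * g = d.FK (tk xh) := by
    rw [hxi, hxh, FK_k6, hsi, hg, ← hkk, map_mul, map_mul, map_inv, d.FK_gens.2.2.2.2]
    group
  obtain ⟨n, hn, hne⟩ := Sylow.conj_eq_normalizer_conj_of_mem_centralizer S (d.FK (tk xi)) g
    (hcentral xi fun z => by rw [hxi]; exact (hcen z).1)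
    (by rw [hgconj]; exact hcentral xh fun z => by rw [hxh]; exact (hcen z).2)
  have hn' : n ∈ Subgroup.normalizer (T0 : Set G) := by
    have : ((S : Subgroup G) : Set G) = (T0 : Set G) := congrArg _ hST
    rw [← this]
    exact hn
  obtain ⟨k, hk⟩ := hNK n⁻¹ (inv_mem hn')
  refine hb1 k (d.FK_injective ?_)
  rw [map_mul, map_mul, map_inv, hk, inv_inv, ← hxi, ← hxh, ← hne, hgconj]

end A6Data

end Cfsg.Agent.NineRecog
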