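import Cfsg.Agent.Lib.NineRecog.Frame
import Cfsg.Agent.Lib.NineRecog.Four

/-!
# The centraliser of the four subgroup `⟨(3 4)(6 7), (6 7)(5 8)⟩`
-/

set_option autoImplicit false
set_option synthInstance.maxHeartbeats 200000
set_option synthInstance.maxSize 1024

namespace Cfsg.Agent.NineRecog

open Equiv
open Cfsg Cfsg.Agent.Exceptional.Nine

universe u

theorem heavy_reps : ∀ t : V, 2 ≤ weight t → ∃ x y : Bool, ∃ p : Exceptional.Wreath2.D,
    let g : W := ⟨0, 0, 0, x, y, p⟩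
    g * u2 * g⁻¹ = trV t ∨ g * u3 * g⁻¹ = trV t := by
  decide +kernel

/-- A translation outside the class of `u1`. -/
def Heavy (v : W) : Prop := isT v = true ∧ 2 ≤ weight (v.t0, v.t1, v.t2)

instance : DecidablePred Heavy := fun v => inferInstanceAs (Decidable (_ ∧ _))

/-- The even permutation pair on the six points, as a permutation of nine points. -/
def p6 (g : A6) : P9 := jK (k6 g)

/-- The elements moved to the stabiliser of `{3, 4, 6}`. -/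
def hP : P9 := c[5, 6] * c[7, 8] * (c[0, 3, 6] * c[1, 4, 7] * c[2, 5, 8])

/-- The model element of a permutation preserving the blocks. -/
def ofPerm (p : P9) : W :=
  let pi : ZMod 3 → ZMod 3 := fun i => blk (p (pt i 0))
  let d : Exceptional.Wreath2.D := if pi 1 - pi 0 = 1 then .r (pi 0) else .sr (-(pi 0))
  let t : ZMod 3 → ZMod 3 := fun j => pos (p (pt (Exceptional.Wreath2.act3 d⁻¹ j) 0))
  let e : ZMod 3 → Bool := fun j =>
    decide (pos (p (pt (Exceptional.Wreath2.act3 d⁻¹ j) 1)) - t j = 2)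
  ⟨t 0, t 1, t 2, e 0, e 1, d⟩

theorem inter_ofPerm : ∀ k : K36, A6Data.InKb (jK k) → φW (ofPerm (jK k)) = jK k := by
  decide +kernel

variable {G : Type u} [Group G] [Finite G]

namespace Cfg

variable (c : Cfg G)

theorem centralizer_heavy {v : W} (hv : Heavy v) {x : G} (hx : x * c.ι v = c.ι v * x) :
    x ∈ c.ι.range := by
  obtain ⟨a, b, p, h⟩ := heavy_reps _ hv.2
  rw [trV_eta (mem_T_iff_isT.2 hv.1)] at h
  rcases h with h | h <;> rw [← h] at hx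
  · exact c.centralizer_conj_le c.centralizer_u2_le hx
  · exact c.centralizer_conj_le (c.centralizer_u3.le.trans c.P_le_range) hx

/-- A subgroup of order prime to three normalised by a translation: centralisers of heavy
translations in it centralise the given one. -/
theorem commute_of_heavy {R : Subgroup G} (hR : (Nat.card R).Coprime 3) {h a x r : G} {u v : W}
    (hu : u ∈ T) (hv : Heavy v) (ha : a = h * c.ι u * h⁻¹) (hxv : x = h * c.ι v * h⁻¹)
    (hRa : ∀ r ∈ R, a * r * a⁻¹ ∈ R) (hr : r ∈ R) (hrx : r * x = x * r) : r * a = a * r := by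
  obtain ⟨w, hw⟩ := c.centralizer_heavy hv (x := h⁻¹ * r * h) (by
    calc h⁻¹ * r * h * c.ι v = h⁻¹ * (r * (h * c.ι v * h⁻¹)) * h := by group
      _ = h⁻¹ * (h * c.ι v * h⁻¹ * r) * h := by rw [← hxv, hrx]
      _ = _ := by group)
  set y := r * a * r⁻¹ * a⁻¹ with hy
  have hyR : y ∈ R := by
    rw [hy, show r * a * r⁻¹ * a⁻¹ = r * (a * r⁻¹ * a⁻¹) by group]
    exact mul_mem hr (hRa _ (inv_mem hr))
  have hyJ : h⁻¹ * y * h ∈ c.J := by
    have e : h⁻¹ * y * h = c.ι w * c.ι u * (c.ι w)⁻¹ * (c.ι u)⁻¹ := by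
      rw [hy, ha, hw]; group
    rw [e]
    refine mul_mem ?_ (inv_mem (c.mem_J.2 hu))
    have hn : c.ι w ∈ Subgroup.normalizer (c.J : Set G) := c.norm_J.symm ▸ ⟨w, rfl⟩
    exact (Subgroup.mem_normalizer_iff.1 hn _).1 (c.mem_J.2 hu)
  have h3 : y ^ 3 = 1 := by
    have := c.J_cube hyJ
    rw [show h⁻¹ * y * h = h⁻¹ * y * (h⁻¹)⁻¹ by group, conj_pow, conj_eq_one_iff] at this
    exact this
  have hy1 : y = 1 := orderOf_eq_one_iff.1 (Nat.eq_one_of_dvd_coprimes hR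
    (R.orderOf_dvd_natCard hyR) (orderOf_dvd_of_pow_eq_one h3))
  rw [hy, mul_inv_eq_one, mul_inv_eq_iff_eq_mul] at hy1
  exact hy1

end Cfg

/-- An element of order prime to three is a power of its cube. -/
theorem exists_cube_pow {R : Subgroup G} (hR : (Nat.card R).Coprime 3) {r : G} (hr : r ∈ R) :
    ∃ l : ℕ, (r ^ 3) ^ l = r := by
  exact exists_pow_eq_self_of_coprime
    (Nat.Coprime.symm (hR.coprime_dvd_left (R.orderOf_dvd_natCard hr)))

namespace A6Data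

variable {c : Cfg G} (d : A6Data c)

/-- The conjugating element onto the stabiliser of `{3, 4, 6}`. -/
noncomputable def hy : G := d.Fa.f gP * c.ι wR

theorem Fy_hP (k : K36) : d.Fy.f (hP * jK k * hP⁻¹) = d.hy * d.FK k * d.hy⁻¹ := by
  show d.Fa.f gP * (c.ι wR * d.Fa.f (rP⁻¹ * (gP⁻¹ * (hP * jK k * hP⁻¹) * gP) * rP) * (c.ι wR)⁻¹) *
    (d.Fa.f gP)⁻¹ = _
  rw [show rP⁻¹ * (gP⁻¹ * (hP * jK k * hP⁻¹) * gP) * rP = jK k by rw [hP, gP, rP]; group, Fa_jK, hy]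
  group

theorem inKy_hP (k : K36) : InKy (hP * jK k * hP⁻¹) := by
  show InKa _
  rw [show rP⁻¹ * (gP⁻¹ * (hP * jK k * hP⁻¹) * gP) * rP = jK k by rw [hP, gP, rP]; group]
  exact (inKa_iff _).2 ⟨k, rfl⟩

theorem inKa_gP : InKa gP := by decide +kernel

theorem Fb_eq_Fa {p : P9} (ha : InKa p) (hb : InKb p) : d.Fb.f p = d.Fa.f p := by
  obtain ⟨k, rfl⟩ := (inKa_iff p).1 ha
  have h := inter_ofPerm k hb
  rw [← h] at ha hb ⊢
  rw [d.Fb_agree hb, d.Fa_agree ha]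

theorem Fy_eq_Fa {p : P9} (ha : InKa p) (hy : InKy p) : d.Fy.f p = d.Fa.f p := by
  have hg := inKa_gP
  have hm : InKa (gP⁻¹ * p * gP) := inKa_mul (inKa_mul (inKa_inv hg) ha) hg
  show d.Fa.f gP * d.Fb.f (gP⁻¹ * p * gP) * (d.Fa.f gP)⁻¹ = _
  rw [d.Fb_eq_Fa hm hy]
  have h := d.Fa.map_conj hg hm
  rw [← h]
  congr 1
  group

theorem Fa_six' (g : A6) : d.Fa.f (p6 g) = d.ψ g := d.Fa_six rfl

theorem inKa_p6 (g : A6) : InKa (p6 g) := (inKa_iff _).2 ⟨k6 g, rfl⟩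

theorem Fa_a : d.Fa.f (φW wA) = c.ι u1 := d.Fa_agree (by decide +kernel)

theorem a_ne_one : c.ι u1 ≠ 1 := fun h => by
  have := c.inj (h.trans (map_one c.ι).symm)
  revert this
  decide +kernel

/-- The centraliser of a four subgroup of the six-point part. -/
def cV (σ₁ σ₂ : A6) : Subgroup G := Subgroup.centralizer {d.ψ σ₁, d.ψ σ₂}

theorem mem_cV {σ₁ σ₂ : A6} {x : G} :
    x ∈ d.cV σ₁ σ₂ ↔ x * d.ψ σ₁ = d.ψ σ₁ * x ∧ x * d.ψ σ₂ = d.ψ σ₂ * x := by
  rw [cV, Subgroup.mem_centralizer_iff]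
  simp only [Set.mem_insert_iff, Set.mem_singleton_iff, forall_eq_or_imp, forall_eq]
  exact and_congr eq_comm eq_comm

/-- A four subgroup of the six-point part, with an operator on it. -/
structure FourSix (σ₁ σ₂ κ : A6) : Prop where
  h1 : σ₁ * σ₁ = 1
  h2 : σ₂ * σ₂ = 1
  hne : ({1, σ₁, σ₂, σ₁ * σ₂} : Finset A6).card = 4
  hc : σ₁ * σ₂ = σ₂ * σ₁
  hcent : ∀ g : A6, g * σ₁ = σ₁ * g → g * σ₂ = σ₂ * g → g = 1 ∨ g = σ₁ ∨ g = σ₂ ∨ g = σ₁ * σ₂
  hk3 : κ ^ 3 = 1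
  hk : (κ⁻¹ * σ₁ * κ = σ₁ ∨ κ⁻¹ * σ₁ * κ = σ₂ ∨ κ⁻¹ * σ₁ * κ = σ₁ * σ₂) ∧
    (κ⁻¹ * σ₂ * κ = σ₁ ∨ κ⁻¹ * σ₂ * κ = σ₂ ∨ κ⁻¹ * σ₂ * κ = σ₁ * σ₂)

/-- Its image. -/
def vV {σ₁ σ₂ κ : A6} (h : FourSix σ₁ σ₂ κ) : Subgroup G := Subgroup.map d.ψ
  { carrier := {1, σ₁, σ₂, σ₁ * σ₂}
    one_mem' := Or.inl rfl
    mul_mem' := by
      have h1 := h.h1
      have h2 := h.h2
      have h3 := h.hc
      intro a b ha hb
      rcases ha with ha | ha | ha | ha <;> rcases hb with hb | hb | hb | hb <;> rw [ha, hb] <;>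
        simp [h1, h2, h3.symm, mul_assoc, mul_left_cancel_iff,
          ← mul_assoc σ₁ σ₁, ← mul_assoc σ₂ σ₁, ← mul_assoc σ₂ σ₂]
    inv_mem' := by
      have h1 := inv_eq_of_mul_eq_one_right h.h1
      have h2 := inv_eq_of_mul_eq_one_right h.h2
      intro a ha
      rcases ha with ha | ha | ha | ha <;> rw [ha]
      · exact Or.inl inv_one
      · exact Or.inr (Or.inl h1)
      · exact Or.inr (Or.inr (Or.inl h2))
      · exact Or.inr (Or.inr (Or.inr (by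
          show (σ₁ * σ₂)⁻¹ = σ₁ * σ₂
          rw [mul_inv_rev, h1, h2, h.hc]))) }

theorem mem_vV {σ₁ σ₂ κ : A6} (h : FourSix σ₁ σ₂ κ) {x : G} : x ∈ d.vV h ↔
    ∃ g : A6, (g = 1 ∨ g = σ₁ ∨ g = σ₂ ∨ g = σ₁ * σ₂) ∧ d.ψ g = x := Iff.rfl

/-- The configuration for the centraliser. -/
def fourCfg {σ₁ σ₂ κ : A6} (h : FourSix σ₁ σ₂ κ) : FourCfg G where
  C := d.cV σ₁ σ₂
  V := d.vV h
  a := c.ι u1
  q := d.ψ κ
  hVC := by
    rintro x hx
    obtain ⟨g, hg, rfl⟩ := (d.mem_vV h).1 hx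
    rw [mem_cV, ← map_mul, ← map_mul, ← map_mul, ← map_mul]
    rcases hg with rfl | rfl | rfl | rfl
    · simp
    · simp [h.hc]
    · simp [h.hc]
    · constructor <;> congr 1
      · calc σ₁ * σ₂ * σ₁ = σ₁ * (σ₂ * σ₁) := by group
          _ = σ₁ * (σ₁ * σ₂) := by rw [← h.hc]
      · calc σ₁ * σ₂ * σ₂ = σ₂ * σ₁ * σ₂ := by rw [h.hc]
          _ = σ₂ * (σ₁ * σ₂) := by group
  hV4 := by
    classical
    rw [vV, Subgroup.card_map_of_injective d.inj, ← h.hne, ← Nat.card_eq_finsetCard]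
    exact Nat.card_congr (Equiv.subtypeEquivRight fun g => by
      simp only [Finset.mem_insert, Finset.mem_singleton]; rfl)
  hcent := by
    rintro v hv x hx
    obtain ⟨g, hg, rfl⟩ := (d.mem_vV h).1 hv
    obtain ⟨e1, e2⟩ := d.mem_cV.1 hx
    rcases hg with rfl | rfl | rfl | rfl
    · simp
    · exact e1.symm
    · exact e2.symm
    · rw [map_mul]; exact ((show Commute _ x from e1.symm).mul_left e2.symm).eq
  ha := a_cube
  ha1 := a_ne_one
  haC := d.mem_cV.2 ⟨(d.comm σ₁).symm, (d.comm σ₂).symm⟩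
  hq := by rw [← map_pow, h.hk3, map_one]
  hqC := by
    intro x hx
    obtain ⟨e1, e2⟩ := d.mem_cV.1 hx
    have key : ∀ σ : A6, (κ⁻¹ * σ * κ = σ₁ ∨ κ⁻¹ * σ * κ = σ₂ ∨ κ⁻¹ * σ * κ = σ₁ * σ₂) →
        d.ψ κ * x * (d.ψ κ)⁻¹ * d.ψ σ = d.ψ σ * (d.ψ κ * x * (d.ψ κ)⁻¹) := by
      intro σ hσ
      have hc' : Commute x (d.ψ (κ⁻¹ * σ * κ)) := by
        rcases hσ with e | e | e <;> rw [e]
        · exact e1
        · exact e2
        · rw [map_mul]; exact Commute.mul_right e1 e2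
      have := hc'.map (MulAut.conj (d.ψ κ)).toMonoidHom
      simp only [MulEquiv.coe_toMonoidHom, MulAut.conj_apply] at this
      rwa [← map_inv d.ψ, ← map_mul, ← map_mul,
        show κ * (κ⁻¹ * σ * κ) * κ⁻¹ = σ by group, map_inv] at this
    exact d.mem_cV.2 ⟨key _ h.hk.1, key _ h.hk.2⟩
  hCa := by
    intro x hx hxa
    obtain ⟨i, g, rfl⟩ := d.cent x hxa
    obtain ⟨e1, e2⟩ := d.mem_cV.1 hx
    refine ⟨i, d.ψ g, (d.mem_vV h).2 ⟨g, h.hcent g (d.inj ?_) (d.inj ?_), rfl⟩, rfl⟩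
    all_goals
      rw [map_mul, map_mul]
      refine mul_left_cancel (a := c.ι u1 ^ i) ?_
      rw [← mul_assoc]
    · rw [e1, ← mul_assoc, ← (d.comm_pow i σ₁).eq]; group
    · rw [e2, ← mul_assoc, ← (d.comm_pow i σ₂).eq]; group

/-- Only the four subgroup is left in the centraliser of `a`. -/
theorem mem_vV_of_comm {σ₁ σ₂ κ : A6} (h : FourSix σ₁ σ₂ κ) {R : Subgroup G}
    (hRC : R ≤ d.cV σ₁ σ₂) (hR : (Nat.card R).Coprime 3) {r : G} (hr : r ∈ R)
    (hra : r * c.ι u1 = c.ι u1 * r) : r ∈ d.vV h := by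
  obtain ⟨i, v, hv, hiv⟩ := (d.fourCfg h).hCa r (hRC hr) hra
  obtain ⟨l, hl⟩ := exists_cube_pow hR hr
  have hcom : Commute (c.ι u1) v :=
    ((d.fourCfg h).hcent v hv _ (d.fourCfg h).haC).symm
  rw [← hl, hiv]
  show ((c.ι u1 ^ i * v) ^ 3) ^ l ∈ _
  rw [(hcom.pow_left i).mul_pow, ← pow_mul, mul_comm i, pow_mul, a_cube, one_pow, one_mul]
  exact pow_mem (pow_mem hv _) _

/-- A heavy element centralises only the four subgroup. -/
theorem mem_vV_of_heavy {σ₁ σ₂ κ : A6} (h : FourSix σ₁ σ₂ κ) {R : Subgroup G}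
    (hRC : R ≤ d.cV σ₁ σ₂) (hR : (Nat.card R).Coprime 3)
    (hRa : ∀ r ∈ R, c.ι u1 * r * (c.ι u1)⁻¹ ∈ R)
    {h₀ : A6} {v : W} (hv : v ∈ T) (hconj : d.ψ κ = d.ψ h₀ * c.ι v * (d.ψ h₀)⁻¹) (i j : ℕ)
    (hheavy : Heavy (u1 ^ i * v ^ j)) {r : G} (hr : r ∈ R)
    (hrx : r * (c.ι u1 ^ i * d.ψ κ ^ j) = c.ι u1 ^ i * d.ψ κ ^ j * r) : r ∈ d.vV h := by
  have hca : d.ψ h₀ * c.ι u1 * (d.ψ h₀)⁻¹ = c.ι u1 := by rw [d.comm, mul_inv_cancel_right]
  refine d.mem_vV_of_comm h hRC hR hr ?_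
  refine c.commute_of_heavy hR (h := d.ψ h₀) (u := u1) (tr_mem_T 1 0 0) hheavy hca.symm ?_ hRa hr hrx
  rw [hconj, conj_pow, map_mul, map_pow, map_pow, ← mul_assoc, ← mul_assoc, (d.comm_pow i h₀).eq]
  group

/-- `(3 4)(6 7)` on the six points. -/
def si : A6 := ev6 (c[0, 1] * c[3, 4])
/-- `(6 7)(5 8)` on the six points. -/
def sj : A6 := ev6 (c[3, 4] * c[2, 5])
/-- `(3 6)(4 7)` on the six points. -/
def si' : A6 := ev6 (c[0, 3] * c[1, 4])
/-- `(3 6 5)(4 7 8)` on the six points. -/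
def kq : A6 := ev6 (c[0, 3, 2] * c[1, 4, 5])
/-- `(3 4 6)` on the six points. -/
def ky : A6 := ev6 c[0, 1, 3]

theorem fourA : FourSix si sj kq := by constructor <;> decide +kernel

theorem fourB : FourSix si si' ky := by constructor <;> decide +kernel

theorem pow_reduce {M : Type u} [Monoid M] {x : M} (hx : x ^ 3 = 1) (n : ℕ) : x ^ n = x ^ (n % 3) :=
  pow_eq_pow_mod n hx

theorem conjA : ∃ g : A6, kq = g * (z6 * w6) * g⁻¹ := by decide +kernel

theorem heavyA : ∀ i j : Fin 3, j ≠ 0 → Heavy (wA ^ (i : ℕ) * (wB * wC) ^ (j : ℕ)) := by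
  decide +kernel

theorem wBC_cube : (wB * wC) ^ 3 = 1 := by decide +kernel

/-- The centraliser of `(3 4)(6 7)` and `(6 7)(5 8)` normalises the line of `a`. -/
theorem cVA_norm : ∀ x ∈ d.cV si sj,
    x * c.ι u1 * x⁻¹ = c.ι u1 ∨ x * c.ι u1 * x⁻¹ = (c.ι u1)⁻¹ := by
  refine (d.fourCfg fourA).norm_line (d.comm kq).symm fun R hRC hR hRa hRq => ?_
  have hk3 : d.ψ kq ^ 3 = 1 := (d.fourCfg fourA).hq
  refine le_of_pair a_cube hk3 (d.comm kq).symm a_ne_one ?_ hR hRa hRq fun i j hne r hr hrx => ?_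
  · intro i hi
    rcases i.eq_zero_or_pos with rfl | -
    · have : kq = 1 := d.inj (by simpa using hi)
      revert this; decide +kernel
    · refine d.notMem ?_
      have h1 : c.ι u1 ^ i ∈ d.ψ.range := ⟨kq, hi⟩
      rw [pow_reduce a_cube] at h1
      rcases (show i % 3 = 0 ∨ i % 3 = 1 ∨ i % 3 = 2 by omega) with e | e | e <;> rw [e] at h1
      · exfalso
        rw [pow_reduce a_cube, e, pow_zero] at hi
        have : kq = 1 := d.inj (hi.trans (map_one _).symm)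
        revert this; decide +kernel
      · simpa using h1
      · have := mul_mem h1 h1
        rwa [← pow_add, pow_reduce a_cube, show (2 + 2) % 3 = 1 by norm_num, pow_one] at this
  · obtain ⟨g, hg⟩ := conjA
    have hkj : d.ψ kq ^ j = d.ψ kq ^ (j % 3) := pow_reduce hk3 j
    rcases (show j % 3 = 0 ∨ j % 3 ≠ 0 from Decidable.em _) with hj | hj
    · rw [hkj, hj, pow_zero, mul_one, pow_reduce a_cube] at hne hrx
      rcases (show i % 3 = 0 ∨ i % 3 = 1 ∨ i % 3 = 2 by omega) with e | e | e <;> rw [e] at hne hrx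
      · exact absurd (pow_zero _) hne
      · rw [pow_one] at hrx
        exact d.mem_vV_of_comm fourA hRC hR hr hrx
      · refine d.mem_vV_of_comm fourA hRC hR hr ?_
        have hc2 : Commute r (c.ι u1 ^ 2) := hrx
        have h4 := hc2.pow_right 2
        rw [← pow_mul, pow_reduce a_cube] at h4
        simpa using h4.eq
    · refine d.mem_vV_of_heavy fourA hRC hR hRa (h₀ := g) (v := wB * wC)
        (mul_mem (tr_mem_T 0 1 0) (tr_mem_T 0 0 1)) ?_ i j ?_ hr hrx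
      · rw [hg, map_mul, map_mul, map_inv, map_mul, d.hz, d.hw, map_mul]
      · rw [pow_reduce u1_cube, pow_reduce wBC_cube j]
        exact heavyA ⟨i % 3, Nat.mod_lt _ (by norm_num)⟩ ⟨j % 3, Nat.mod_lt _ (by norm_num)⟩
          fun h => hj (congrArg Fin.val h)

end A6Data

end Cfsg.Agent.NineRecog
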