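import Cfsg.Agent.Lib.NineRecog.Classes

/-!
# Tables for the key relation
-/

set_option autoImplicit false
set_option synthInstance.maxHeartbeats 200000
set_option synthInstance.maxSize 1024

namespace Cfsg.Agent.NineRecog

open Equiv
open Cfsg Cfsg.Agent.Exceptional.Nine

universe u

namespace A6Data

/-- `(0 1)(2 7)` seen from the stabiliser of `{3, 4, 6}`. -/
def bad6 : A6 := ev6 (c[3, 4] * c[2, 5])
/-- `(2 5 8)` seen from the stabiliser of `{3, 4, 6}`. -/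
def good6 : A6 := ev6 c[0, 1, 5]

/-- Evaluation of a word. -/
def evalWord (G : Fin 4 → A6) (l : List (Fin 4)) : A6 := (l.map G).prod

/-- The words used. -/
def triWords : List (List (Fin 4)) :=
  [[2, 3, 2, 3, 3, 2], [2, 2, 2, 2, 3], [2, 2, 3, 3, 3], [1, 2, 1, 3, 1, 2], [2, 2, 2, 1, 3],
    [2, 2, 3, 2], [0, 0, 2, 3, 2, 0], [2, 1, 3, 3, 3, 3], [2, 1, 0, 3, 3], [2, 2, 1, 0, 3],
    [2, 1, 3, 3, 0, 3], [1, 2, 3, 2], [2, 3, 2], [1, 2, 2, 2, 3], [2, 1, 2, 2, 1, 2],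
    [0, 2, 0, 2, 2, 2], [2, 1, 2, 0, 2], [0, 2, 0, 0, 2, 2]]

/-- The small symmetric group. -/
def inS3 (σ : A6) : Prop := ∃ k : Fin 3, σ = w6 ^ (k : ℕ) ∨ σ = si * w6 ^ (k : ℕ)

instance : DecidablePred inS3 := fun σ => inferInstanceAs (Decidable (∃ k : Fin 3, _))

theorem trichotomy : ∀ σ : A6, ¬ inS3 σ → ∃ l ∈ triWords,
    let x := evalWord ![w6, si, σ, conj6 s6 σ] l
    x = good6 ∨ x = good6⁻¹ ∨ x = bad6 ∨ (x * w6 = w6 * x ∧ x ≠ 1 ∧ x ≠ w6 ∧ x ≠ w6⁻¹) := by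
  decide +kernel

theorem hP_facts : hP * p6 w6 * hP⁻¹ = φW wA ∧ InKa (hP * p6 si * hP⁻¹) ∧
    hP * p6 si * hP⁻¹ * p6 si = p6 si * (hP * p6 si * hP⁻¹) ∧
    InKa (hP * jK kS * hP⁻¹) ∧ hP * jK kS * hP⁻¹ * p6 si = p6 si * (hP * jK kS * hP⁻¹) ∧
    hP * jK kA * hP⁻¹ = p6 ky ∧ InKy (φW wA) := by
  decide +kernel

theorem hP_cent : ∀ σ : A6, σ * w6 = w6 * σ →
    InKa (hP * p6 σ * hP⁻¹) ∧ (hP * p6 σ * hP⁻¹ * p6 si = p6 si * (hP * p6 σ * hP⁻¹) →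
      σ = 1 ∨ σ = w6 ∨ σ = w6⁻¹) := by
  decide +kernel

theorem bad_facts : let p8 : P9 := gP⁻¹ * (hP * p6 bad6 * hP⁻¹) * gP
    InKa (gP⁻¹ * p6 si * gP) ∧ gP⁻¹ * p6 si * gP = p6 (si * sj) ∧
    InKb (p6 si) ∧ p8 * p6 si = p6 si * p8 ∧ InKb (φW wA) ∧
    p8 * φW wA * p8⁻¹ ≠ φW wA ∧ p8 * φW wA * p8⁻¹ ≠ (φW wA)⁻¹ := by
  decide +kernel

/-- The four-group configuration, in the stabiliser. -/
def kW : K36 := ⟨(c[0, 1], c[0, 3] * c[1, 4] * c[2, 5]), by decide +kernel⟩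
/-- `(0 1)(5 8)` in the stabiliser. -/
def kH : K36 := ⟨(c[0, 1], c[2, 5]), by decide +kernel⟩
/-- `(3 4)(5 8)` in the stabiliser. -/
def kU : K36 := k6 (si * sj)

/-- The elements of a Sylow 2-subgroup of the stabiliser. -/
def tk (x : Fin 2 × Fin 2 × Fin 2 × Fin 2) : K36 :=
  k6 si ^ (x.1 : ℕ) * k6 si' ^ (x.2.1 : ℕ) * kU ^ (x.2.2.1 : ℕ) * kS ^ (x.2.2.2 : ℕ)

theorem tk_facts : Function.Injective tk ∧ tk (0, 0, 0, 0) = 1 ∧
    (∀ x y, ∃ z, tk x * tk y = tk z) ∧ (∀ x, ∃ y, (tk x)⁻¹ = tk y) ∧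
    (∀ x, tk x * k6 si = k6 si * tk x ∧ tk x * kH = kH * tk x) ∧
    (∃ x, tk x = k6 si) ∧ (∃ x, tk x = k6 si') ∧ (∃ x, tk x = k6 sj) ∧ (∃ x, tk x = kH) := by
  decide +kernel

/-- The Sylow 2-subgroup. -/
def T0K : Subgroup K36 where
  carrier := Set.range tk
  one_mem' := ⟨_, tk_facts.2.1⟩
  mul_mem' := by
    rintro - - ⟨x, rfl⟩ ⟨y, rfl⟩
    obtain ⟨z, hz⟩ := tk_facts.2.2.1 x y
    exact ⟨z, hz.symm⟩
  inv_mem' := by
    rintro - ⟨x, rfl⟩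
    obtain ⟨z, hz⟩ := tk_facts.2.2.2.1 x
    exact ⟨z, hz.symm⟩

/-- An involution moving eight points. -/
def sType (k : K36) : Prop :=
  (Finset.univ.filter fun p : Fin 9 => jK k p ≠ p).card = 8 ∧ k * k = 1

instance : DecidablePred sType := fun k => inferInstanceAs (Decidable (_ ∧ _))

theorem sType_conj : ∀ x, sType (tk x) → ∃ g : K36, g * kW * g⁻¹ = tk x := by decide +kernel

theorem four_conjugates : ∀ x : A6, x = si' ∨ x = si * si' ∨ x = sj ∨ x = si * sj →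
    ∃ g : A6, g * si * g⁻¹ = x := by
  decide +kernel

/-- A pair of involutions generating one of the two distinguished four subgroups. -/
def goodPair (p q : K36) : Prop :=
  p = k6 si ∧ (q = k6 si' ∨ q = k6 si * k6 si' ∨ q = k6 sj ∨ q = k6 si * k6 sj)

instance (p q : K36) : Decidable (goodPair p q) := inferInstanceAs (Decidable (_ ∧ _))

/-- The properties of the image of a normal four subgroup of the distinguished kind. -/
def okPair (p q : K36) : Prop :=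
  p * p = 1 ∧ p ≠ 1 ∧ q * q = 1 ∧ q ≠ 1 ∧ p ≠ q ∧ p * q = q * p ∧
    (∀ z, tk z * p = p * tk z) ∧ (∀ z, tk z * q * (tk z)⁻¹ = q ∨ tk z * q * (tk z)⁻¹ = p * q) ∧
    ¬ sType p ∧ ¬ sType q ∧ ¬ sType (p * q)

instance : ∀ p q : K36, Decidable (okPair p q) := fun p q => inferInstanceAs (Decidable (_ ∧ _))

theorem pairs_table : ∀ x y, okPair (tk x) (tk y) → ∀ z, okPair (tk x) (tk z) →
    tk z ≠ tk y → tk z ≠ tk x * tk y → goodPair (tk x) (tk y) ∨ goodPair (tk x) (tk z) := by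
  decide +kernel

theorem line_kA : ∀ k : K36, k ^ 3 = 1 → k ≠ 1 → k * k6 si = k6 si * k →
    (k * k6 si' = k6 si' * k ∨ k * k6 sj = k6 sj * k) → k = kA ∨ k = kA⁻¹ := by
  decide +kernel

theorem burnside_facts : (∀ k : K36, k * k6 si * k⁻¹ ≠ kH) ∧ (∃ k : K36, k * kS * k⁻¹ = kH) ∧
    jK (k6 si) = φW (wR * wS * wR⁻¹) ∧ jK kW = φW wX ∧ InKa (φW (wR * wS * wR⁻¹)) ∧ InKa (φW wX) := by
  decide +kernel

theorem conjB : ∃ g : A6, ky = g * z6 * g⁻¹ := by decide +kernel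

theorem heavyB : ∀ i j : Fin 3, i ≠ 0 → j ≠ 0 → Heavy (wA ^ (i : ℕ) * wB ^ (j : ℕ)) := by
  decide +kernel

theorem S3_split : ∀ σ : A6, inS3 σ → (∃ k : Fin 3, σ = w6 ^ (k : ℕ)) ∨ σ * w6 * σ⁻¹ = w6⁻¹ := by
  decide +kernel

theorem vertices : k6 si * kA = kA * k6 si ∧ si * si = 1 ∧ si ≠ 1 := by decide +kernel

end A6Data

end Cfsg.Agent.NineRecog
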