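import Cfsg.Agent.Lib.NineRecog.Model
import Cfsg.Agent.Lib.SmithTyrer.Main
import Cfsg.Agent.Lib.PCore.Basic
import Cfsg.Agent.S0117

/-!
# Centralisers of translations for a subgroup `3³ : S₄` which is the normaliser of its core
-/

set_option autoImplicit false

namespace Cfsg.Agent.NineRecog

open Cfsg Cfsg.Agent.Exceptional.Nine

universe u

/-- A central 3-subgroup does not hide a core. -/
theorem pPrimeCore_quotient_eq_bot {p : ℕ} [Fact p.Prime] {G : Type u} [Group G] [Finite G]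
    (Z : Subgroup G) [Z.Normal] (hZ : Z ≤ Subgroup.center G) (hp : IsPGroup p Z)
    (h : pPrimeCore p G = ⊥) : pPrimeCore p (G ⧸ Z) = ⊥ := by
  set R := (pPrimeCore p (G ⧸ Z)).comap (QuotientGroup.mk' Z) with hR
  have hZR : Z ≤ R := fun z hz => by
    rw [hR, Subgroup.mem_comap,
      show QuotientGroup.mk' Z z = 1 from (QuotientGroup.eq_one_iff z).2 hz]
    exact one_mem _
  have hRmap : R.map (QuotientGroup.mk' Z) = pPrimeCore p (G ⧸ Z) :=
    Subgroup.map_comap_eq_self_of_surjective (QuotientGroup.mk'_surjective Z) _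
  obtain ⟨n, hn⟩ := IsPGroup.iff_card.1 hp
  have hidx : (Z.subgroupOf R).index = Nat.card (pPrimeCore p (G ⧸ Z)) := by
    have h1 : (Z.comap (MonoidHom.id G)).relIndex R = Z.relIndex R := rfl
    have h2 := Subgroup.relIndex_comap (⊥ : Subgroup (G ⧸ Z)) (QuotientGroup.mk' Z) R
    rw [MonoidHom.comap_bot, QuotientGroup.ker_mk', hRmap, Subgroup.relIndex_bot_left] at h2
    exact h2
  have hcop : Nat.Coprime (Nat.card (Z.subgroupOf R)) (Z.subgroupOf R).index := by
    rw [hidx, Nat.card_congr (Subgroup.subgroupOfEquivOfLe hZR).toEquiv, hn]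
    exact (PCore.coprime_card_pPrimeCore.symm).pow_left n
  obtain ⟨K, hK⟩ := Subgroup.exists_right_complement'_of_coprime hcop
  have hKcard : (Nat.card K).Coprime p := by
    rw [← hK.symm.index_eq_card, hidx]
    exact PCore.coprime_card_pPrimeCore
  -- `K` holds every element of `R` of order prime to `p`
  have hmem : ∀ x : R, (orderOf x).Coprime p → x ∈ K := by
    intro x hx
    obtain ⟨⟨z, k⟩, hzk⟩ := hK.2 x
    have hzk' : (z : R) * (k : R) = x := hzk
    have hcomm : Commute (z : R) (k : R) := Subtype.ext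
      (Subgroup.mem_center_iff.1 (hZ (Subgroup.mem_subgroupOf.1 z.2)) ((k : R) : G)).symm
    have hzp : (z : R) ^ p ^ n = 1 := by
      apply Subtype.ext
      rw [SubgroupClass.coe_pow, ← hn]
      exact congrArg Subtype.val (pow_card_eq_one'
        (x := (⟨((z : R) : G), Subgroup.mem_subgroupOf.1 z.2⟩ : Z)))
    have hk : (k : R) ^ Nat.card K = 1 := congrArg Subtype.val (pow_card_eq_one' (x := k))
    have hz1 : (z : R) ^ (orderOf x * Nat.card K) = 1 := by
      have h1 : x ^ (orderOf x * Nat.card K) = 1 := by rw [pow_mul, pow_orderOf_eq_one, one_pow]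
      rw [← hzk', hcomm.mul_pow, hzk', mul_comm (orderOf x), pow_mul (k : R), hk, one_pow,
        mul_one] at h1
      rwa [mul_comm]
    have hz : (z : R) = 1 := orderOf_eq_one_iff.1 (Nat.eq_one_of_dvd_coprimes
      (((hx.mul_left hKcard).symm).pow_left n) (orderOf_dvd_of_pow_eq_one hzp)
      (orderOf_dvd_of_pow_eq_one hz1))
    rw [← hzk', hz, one_mul]
    exact k.2
  haveI : (K.map R.subtype).Normal := by
    refine ⟨?_⟩
    rintro - ⟨k, hk, rfl⟩ g
    haveI : R.Normal := Subgroup.Normal.comap inferInstance _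
    refine ⟨⟨g * k * g⁻¹, Subgroup.Normal.conj_mem inferInstance _ k.2 g⟩, hmem _ ?_, rfl⟩
    rw [← Subgroup.orderOf_coe]
    show (orderOf (MulAut.conj g (k : G))).Coprime p
    rw [MulEquiv.orderOf_eq, Subgroup.orderOf_coe]
    exact hKcard.coprime_dvd_left (K.orderOf_dvd_natCard hk)
  have hKb : K.map R.subtype = ⊥ := le_bot_iff.1 (h ▸ PCore.le_pPrimeCore (by
    rwa [Subgroup.card_map_of_injective R.subtype_injective]))
  rw [← Subgroup.card_eq_one, ← hidx, hK.symm.index_eq_card, Subgroup.card_eq_one]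
  exact (Subgroup.map_eq_bot_iff_of_injective _ R.subtype_injective).1 hKb

variable (G : Type u) [Group G] [Finite G]

/-- A copy of `3³ : S₄` which is the normaliser of its translations. -/
structure Cfg where
  /-- the embedding of the model -/
  ι : W →* G
  inj : Function.Injective ι
  norm : Subgroup.normalizer ((T.map ι : Subgroup G) : Set G) = ι.range
  core : ∀ v : W, v ^ 3 = 1 → v ≠ 1 → pPrimeCore 3 (Subgroup.centralizer ({ι v} : Set G)) = ⊥

namespace Cfg

variable {G} (c : Cfg G)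

/-- The translations inside the group. -/
def J : Subgroup G := T.map c.ι

/-- The standard Sylow 3-subgroup inside the group. -/
def P : Subgroup G := P0.map c.ι

theorem card_J : Nat.card c.J = 27 := by
  rw [J, Subgroup.card_map_of_injective c.inj, card_T]

theorem card_P : Nat.card c.P = 81 := by
  rw [P, Subgroup.card_map_of_injective c.inj, card_P0]

theorem J_le_P : c.J ≤ c.P := Subgroup.map_mono T_le_P0

theorem P_le_range : c.P ≤ c.ι.range := by
  rintro - ⟨v, -, rfl⟩
  exact ⟨v, rfl⟩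

theorem norm_J : Subgroup.normalizer (c.J : Set G) = c.ι.range := c.norm

theorem mem_J {v : W} : c.ι v ∈ c.J ↔ v ∈ T := Subgroup.mem_map_iff_mem c.inj

theorem J_cube {x : G} (hx : x ∈ c.J) : x ^ 3 = 1 := by
  obtain ⟨v, hv, rfl⟩ := hx
  rw [← map_pow, T_cube hv, map_one]

theorem J_comm {x y : G} (hx : x ∈ c.J) (hy : y ∈ c.J) : x * y = y * x := by
  obtain ⟨v, hv, rfl⟩ := hx
  obtain ⟨w, hw, rfl⟩ := hy
  rw [← map_mul, ← map_mul, T_comm hv hw]

theorem centralizer_J_le : Subgroup.centralizer (c.J : Set G) ≤ c.J := by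
  intro g hg
  obtain ⟨w, rfl⟩ : g ∈ c.ι.range := c.norm_J ▸ Subgroup.centralizer_le_normalizer _ hg
  refine c.mem_J.2 (centralizer_T w fun v hv => c.inj ?_)
  rw [map_mul, map_mul, Subgroup.mem_centralizer_iff.1 hg _ (c.mem_J.2 hv)]

/-- `J` is the only elementary abelian subgroup of order at least 27 of `P`. -/
theorem eq_J_of_le_P {A : Subgroup G} (hAP : A ≤ c.P) (hA : 27 ≤ Nat.card A)
    (hcomm : ∀ x ∈ A, ∀ y ∈ A, x * y = y * x) (hexp : ∀ x ∈ A, x ^ 3 = 1) : A = c.J := by
  suffices hle : A ≤ c.J from Subgroup.eq_of_le_of_card_ge hle (c.card_J ▸ hA)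
  by_contra hcon
  obtain ⟨y, hyA, hyJ⟩ := SetLike.not_le_iff_exists.1 hcon
  obtain ⟨vy, -, rfl⟩ := hAP hyA
  have hvyT : isT vy = false := by
    by_contra h'
    exact hyJ (c.mem_J.2 (mem_T_iff_isT.2 (by simpa using h')))
  have h3 : vy * (vy * vy) = 1 := c.inj (by
    rw [map_mul, map_mul, map_one, ← pow_three, hexp _ hyA])
  have h9 : 9 ≤ Nat.card ↥(c.J ⊓ A) := by
    have e1 := Subgroup.relIndex_mul_relIndex _ _ _ (bot_le : ⊥ ≤ c.J) c.J_le_P
    have e2 := Subgroup.relIndex_mul_relIndex _ _ _ (bot_le : ⊥ ≤ c.J ⊓ A) inf_le_right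
    rw [Subgroup.relIndex_bot_left, Subgroup.relIndex_bot_left, c.card_J, c.card_P] at e1
    rw [Subgroup.relIndex_bot_left, Subgroup.relIndex_bot_left, Subgroup.inf_relIndex_right] at e2
    have h3 : c.J.relIndex c.P = 3 := by omega
    have hle := Subgroup.relIndex_le_of_le_right (H := c.J) hAP (by omega)
    by_contra h8
    push Not at h8
    have : Nat.card ↥(c.J ⊓ A) * c.J.relIndex A ≤ 8 * 3 := Nat.mul_le_mul (by omega) (h3 ▸ hle)
    omega
  have hsub : Nat.card ↥(c.J ⊓ A) ≤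
      (Finset.univ.filter fun t : V => trV t * vy = vy * trV t).card := by
    rw [← Nat.card_eq_finsetCard]
    have hmem : ∀ x : ↥(c.J ⊓ A), ∃ v ∈ T, c.ι v = (x : G) ∧ v * vy = vy * v := fun x => by
      obtain ⟨v, hv, hvx⟩ := x.2.1
      refine ⟨v, hv, hvx, c.inj ?_⟩
      rw [map_mul, map_mul, hvx]
      exact hcomm _ x.2.2 _ hyA
    choose f hf hfx hfc using hmem
    refine Nat.card_le_card_of_injective (fun x => (⟨((f x).t0, (f x).t1, (f x).t2),
      Finset.mem_filter.2 ⟨Finset.mem_univ _, ?_⟩⟩ : {t : V // t ∈ _})) fun x x' h => ?_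
    · rw [trV_eta (hf x)]
      exact hfc x
    · apply Subtype.ext
      rw [← hfx x, ← hfx x', ← trV_eta (hf x), ← trV_eta (hf x')]
      exact congrArg (fun t : V => c.ι (trV t)) (congrArg Subtype.val h)
  exact absurd (h9.trans (hsub.trans (count_comm vy hvyT h3))) (by norm_num)

theorem eq_J_of_map_le_P {g : G} (h : c.J.map (MulAut.conj g).toMonoidHom ≤ c.P) :
    c.J.map (MulAut.conj g).toMonoidHom = c.J := by
  refine c.eq_J_of_le_P h (by
    rw [Subgroup.card_map_of_injective (MulAut.conj g).injective, c.card_J]) ?_ ?_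
  · rintro - ⟨x, hx, rfl⟩ - ⟨y, hy, rfl⟩
    rw [← map_mul, ← map_mul, c.J_comm hx hy]
  · rintro - ⟨x, hx, rfl⟩
    rw [← map_pow, c.J_cube hx, map_one]

theorem mem_range_of_map_eq {g : G} (h : c.J.map (MulAut.conj g).toMonoidHom = c.J) :
    g ∈ c.ι.range := by
  rw [← c.norm_J, Subgroup.mem_normalizer_iff]
  intro x
  constructor
  · intro hx
    rw [← h]
    exact ⟨x, hx, rfl⟩
  · intro hx
    rw [← h] at hx
    obtain ⟨y, hy, hyx⟩ := hx
    have hyx' : g * y * g⁻¹ = g * x * g⁻¹ := hyx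
    rwa [← mul_left_cancel (mul_right_cancel hyx')]

theorem normalizer_P_le : Subgroup.normalizer (c.P : Set G) ≤ c.ι.range := fun g hg =>
  c.mem_range_of_map_eq (c.eq_J_of_map_le_P (by
    rintro - ⟨x, hx, rfl⟩
    exact (Subgroup.mem_normalizer_iff.1 hg x).1 (c.J_le_P hx)))

theorem card_range : Nat.card c.ι.range = 648 := by
  rw [← card_W]
  exact (Nat.card_congr (MonoidHom.ofInjective c.inj).toEquiv).symm

/-- `P` as a Sylow 3-subgroup. -/
theorem exists_sylow : ∃ S : Sylow 3 G, (S : Subgroup G) = c.P := by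
  haveI := Fact.mk Nat.prime_three
  obtain ⟨Q, hPQ⟩ := (IsPGroup.of_card (n := 4)
    (show Nat.card c.P = 3 ^ 4 by rw [c.card_P]; norm_num)).exists_le_sylow
  refine ⟨Q, ?_⟩
  by_contra hne
  have hlt : c.P.subgroupOf (Q : Subgroup G) < ⊤ := by
    rw [lt_top_iff_ne_top]
    exact fun h => hne (le_antisymm (Subgroup.subgroupOf_eq_top.1 h) hPQ)
  haveI := Q.2.isNilpotent
  obtain ⟨x, hx, hxP⟩ := SetLike.exists_of_lt (Group.normalizerCondition_of_isNilpotent _ hlt)
  have hxN : (x : G) ∈ Subgroup.normalizer (c.P : Set G) := by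
    refine Subgroup.mem_normalizer_iff.2 fun y => ⟨fun hy => ?_, fun hy => ?_⟩
    · exact (Subgroup.mem_normalizer_iff.1 hx ⟨y, hPQ hy⟩).1 hy
    · have hyQ : y ∈ (Q : Subgroup G) := by
        have := mul_mem (mul_mem (inv_mem x.2) (hPQ hy)) x.2
        simpa [mul_assoc] using this
      exact (Subgroup.mem_normalizer_iff.1 hx ⟨y, hyQ⟩).2 hy
  obtain ⟨n, hn⟩ := IsPGroup.iff_card.1
    (Q.2.to_le (inf_le_left : (Q : Subgroup G) ⊓ c.ι.range ≤ Q))
  have hdvd : 3 ^ n ∣ 648 := by
    rw [← hn, ← c.card_range]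
    exact Subgroup.card_dvd_of_le inf_le_right
  have hn4 : n ≤ 4 := by
    by_contra hcon
    have := (pow_dvd_pow 3 (show 5 ≤ n by omega)).trans hdvd
    norm_num at this
  have heq := Subgroup.eq_of_le_of_card_ge (le_inf hPQ c.P_le_range) (by
    rw [hn, c.card_P]
    exact (Nat.pow_le_pow_right (by norm_num) hn4).trans (by norm_num))
  exact hxP (show (x : G) ∈ c.P by rw [heq]; exact ⟨x.2, c.normalizer_P_le hxN⟩)

/-- Conjugation between two sets of translations is realised in the normaliser. -/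
theorem exists_control {g : G} {s : Set G} (hs : s ⊆ c.J) (hgs : ∀ x ∈ s, g * x * g⁻¹ ∈ c.J) :
    ∃ k : G, (∀ x ∈ s, k * (g * x * g⁻¹) = g * x * g⁻¹ * k) ∧ k * g ∈ c.ι.range := by
  classical
  haveI := Fact.mk Nat.prime_three
  set C := Subgroup.centralizer ((fun x => g * x * g⁻¹) '' s) with hC
  have hJC : c.J ≤ C := by
    intro j hj
    rw [hC, Subgroup.mem_centralizer_iff]
    rintro - ⟨x, hx, rfl⟩
    exact c.J_comm (hgs x hx) hj
  have hgJC : c.J.map (MulAut.conj g).toMonoidHom ≤ C := by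
    rintro - ⟨j, hj, rfl⟩
    rw [hC, Subgroup.mem_centralizer_iff]
    rintro - ⟨x, hx, rfl⟩
    show g * x * g⁻¹ * (g * j * g⁻¹) = g * j * g⁻¹ * (g * x * g⁻¹)
    calc g * x * g⁻¹ * (g * j * g⁻¹) = g * (x * j) * g⁻¹ := by group
      _ = g * (j * x) * g⁻¹ := by rw [c.J_comm (hs hx) hj]
      _ = _ := by group
  have hJ3 : IsPGroup 3 c.J := IsPGroup.of_card (n := 3) (by rw [c.card_J]; norm_num)
  obtain ⟨Q, hQ⟩ := (hJ3.of_equiv (Subgroup.subgroupOfEquivOfLe hJC).symm).exists_le_sylow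
  obtain ⟨Q', hQ'⟩ := ((hJ3.map (MulAut.conj g).toMonoidHom).of_equiv
    (Subgroup.subgroupOfEquivOfLe hgJC).symm).exists_le_sylow
  obtain ⟨k, hk⟩ := MulAction.exists_smul_eq C Q' Q
  obtain ⟨S, hS⟩ := c.exists_sylow
  obtain ⟨R, hR⟩ := (Q.2.map C.subtype).exists_le_sylow
  obtain ⟨h, hh⟩ := MulAction.exists_smul_eq G R S
  have key : ∀ y ∈ (Q : Subgroup C), h * (y : G) * h⁻¹ ∈ c.P := fun y hy => by
    rw [← hS, ← hh, Sylow.coe_subgroup_smul]
    exact ⟨y, hR (Subgroup.mem_map_of_mem C.subtype hy), rfl⟩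
  have h1 : h ∈ c.ι.range := c.mem_range_of_map_eq (c.eq_J_of_map_le_P (by
    rintro - ⟨j, hj, rfl⟩
    exact key ⟨j, hJC hj⟩ (hQ (Subgroup.mem_subgroupOf.2 hj))))
  have h2 : h * (k : G) * g ∈ c.ι.range := c.mem_range_of_map_eq (c.eq_J_of_map_le_P (by
    rintro - ⟨j, hj, rfl⟩
    have hy : (⟨g * j * g⁻¹, hgJC ⟨j, hj, rfl⟩⟩ : C) ∈ (Q' : Subgroup C) :=
      hQ' (Subgroup.mem_subgroupOf.2 ⟨j, hj, rfl⟩)
    have hky : k * (⟨g * j * g⁻¹, hgJC ⟨j, hj, rfl⟩⟩ : C) * k⁻¹ ∈ (Q : Subgroup C) := by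
      rw [← hk, Sylow.coe_subgroup_smul]
      exact ⟨_, hy, rfl⟩
    have := key _ hky
    show h * (k : G) * g * j * (h * (k : G) * g)⁻¹ ∈ c.P
    convert this using 1
    simp only [Subgroup.coe_mul, Subgroup.coe_inv]
    group))
  refine ⟨k, fun x hx => (Subgroup.mem_centralizer_iff.1 k.2 _ ⟨x, hx, rfl⟩).symm, ?_⟩
  have := mul_mem (inv_mem h1) h2
  rwa [show h⁻¹ * (h * (k : G) * g) = k * g by group] at this

/-- Fusion of tuples of translations is controlled by the normaliser. -/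
theorem exists_mem_range {g : G} {s : Set G} (hs : s ⊆ c.J) (hgs : ∀ x ∈ s, g * x * g⁻¹ ∈ c.J) :
    ∃ h ∈ c.ι.range, ∀ x ∈ s, h * x * h⁻¹ = g * x * g⁻¹ := by
  obtain ⟨k, hk, hkg⟩ := c.exists_control hs hgs
  refine ⟨k * g, hkg, fun x hx => ?_⟩
  calc k * g * x * (k * g)⁻¹ = k * (g * x * g⁻¹) * k⁻¹ := by group
    _ = g * x * g⁻¹ * k * k⁻¹ := by rw [hk x hx]
    _ = _ := by group

/-- The centraliser of an element of the class of `u3` is the standard Sylow subgroup. -/
theorem centralizer_u3 : Subgroup.centralizer ({c.ι u3} : Set G) = c.P := by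
  classical
  haveI := Fact.mk Nat.prime_three
  set C := Subgroup.centralizer ({c.ι u3} : Set G) with hC
  have hPC : c.P ≤ C := by
    rintro - ⟨v, hv, rfl⟩
    rw [hC, Subgroup.mem_centralizer_singleton_iff, ← map_mul, ← map_mul, (cent_u3 v).2 hv]
  obtain ⟨S, hS⟩ := c.exists_sylow
  let SC : Sylow 3 C := S.subtype (hS.symm ▸ hPC)
  have hSC : (SC : Subgroup C) = c.P.subgroupOf C := by
    simp only [SC, Sylow.coe_subtype, hS]
  have hthompson : thompsonSubgroupOf 3 (SC : Subgroup C) = c.J.subgroupOf C := by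
    have hJle : c.J.subgroupOf C ≤ (SC : Subgroup C) := hSC ▸ fun x hx => c.J_le_P hx
    have hcardJ : Nat.card ((c.J.subgroupOf C).subgroupOf (SC : Subgroup C)) = 27 := by
      rw [Nat.card_congr (Subgroup.subgroupOfEquivOfLe hJle).toEquiv,
        Nat.card_congr (Subgroup.subgroupOfEquivOfLe (c.J_le_P.trans hPC)).toEquiv, c.card_J]
    have hJel : IsElementaryAbelian 3 ((c.J.subgroupOf C).subgroupOf (SC : Subgroup C)) :=
      ⟨⟨⟨fun a b => Subtype.ext (Subtype.ext (Subtype.ext (c.J_comm a.2 b.2)))⟩⟩,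
        fun a ha => Subtype.ext (Subtype.ext (c.J_cube ha))⟩
    have key : ∀ B : Subgroup (SC : Subgroup C), IsElementaryAbelian 3 B → 27 ≤ Nat.card B →
        B = (c.J.subgroupOf C).subgroupOf (SC : Subgroup C) := by
      intro B hB h27
      let f : (SC : Subgroup C) →* G := C.subtype.comp (SC : Subgroup C).subtype
      have hf : Function.Injective f :=
        C.subtype_injective.comp (SC : Subgroup C).subtype_injective
      have hBJ : B.map f = c.J := by
        refine c.eq_J_of_le_P ?_ (by rwa [Subgroup.card_map_of_injective hf]) ?_ ?_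
        · rintro - ⟨b, -, rfl⟩
          have := b.2
          simp only [hSC, Subgroup.mem_subgroupOf] at this
          exact this
        · rintro - ⟨x, hx, rfl⟩ - ⟨y, hy, rfl⟩
          rw [← map_mul, ← map_mul]
          exact congrArg f (congrArg Subtype.val (hB.1.1.comm ⟨x, hx⟩ ⟨y, hy⟩))
        · rintro - ⟨x, hx, rfl⟩
          rw [← map_pow, hB.2 x hx, map_one]
      ext x
      rw [← Subgroup.mem_map_iff_mem (K := B) hf, hBJ]
      rfl
    rw [thompsonSubgroupOf]
    refine (congrArg (Subgroup.map (SC : Subgroup C).subtype) ?_).trans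
      (Subgroup.map_subgroupOf_eq_of_le hJle)
    refine le_antisymm (sSup_le fun B hB => (key B hB.1 ?_).le) (le_sSup ⟨hJel, fun B hB => ?_⟩)
    · exact hcardJ.symm.le.trans (hB.2 _ hJel)
    · by_cases h27 : 27 ≤ Nat.card B
      · rw [key B hB h27]
      · omega
  have hZJ : centerThompsonOf 3 (SC : Subgroup C) = c.J.subgroupOf C := by
    rw [centerThompsonOf, hthompson, inf_eq_left]
    intro x hx
    rw [Subgroup.mem_centralizer_iff]
    intro y hy
    exact Subtype.ext (c.J_comm hy hx)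
  have hnc : HasNormalPComplement 3 C := by
    refine (S0117.result (by norm_num) SC).2 ?_
    rw [hZJ]
    have hNP : Subgroup.normalizer ((c.J.subgroupOf C : Subgroup C) : Set C) = c.P.subgroupOf C := by
      refine le_antisymm (fun g hg => ?_) (fun g hg => ?_)
      · have hgN : (g : G) ∈ Subgroup.normalizer (c.J : Set G) := by
          refine Subgroup.mem_normalizer_iff.2 fun y => ⟨fun hy => ?_, fun hy => ?_⟩
          · exact (Subgroup.mem_normalizer_iff.1 hg ⟨y, hPC (c.J_le_P hy)⟩).1 hy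
          · have hyC : y ∈ C := by
              have := mul_mem (mul_mem (inv_mem g.2) (hPC (c.J_le_P hy))) g.2
              simpa [mul_assoc] using this
            exact (Subgroup.mem_normalizer_iff.1 hg ⟨y, hyC⟩).2 hy
        rw [c.norm_J] at hgN
        obtain ⟨w, hw⟩ := hgN
        refine Subgroup.mem_subgroupOf.2 (hw ▸ ⟨w, (cent_u3 w).1 (c.inj ?_), rfl⟩)
        have := Subgroup.mem_centralizer_singleton_iff.1 g.2
        rw [map_mul, map_mul, hw]
        exact this
      · obtain ⟨w, -, hw⟩ := Subgroup.mem_subgroupOf.1 hg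
        have hgN : (g : G) ∈ Subgroup.normalizer (c.J : Set G) := c.norm_J.symm ▸ ⟨w, hw⟩
        exact Subgroup.mem_normalizer_iff.2 fun y => Subgroup.mem_normalizer_iff.1 hgN y
    rw [hNP]
    exact Transfer.hasNormalPComplement_of_isPGroup ((IsPGroup.of_card (n := 4)
      (show Nat.card c.P = 3 ^ 4 by rw [c.card_P]; norm_num)).of_equiv
        (Subgroup.subgroupOfEquivOfLe hPC).symm)
  obtain ⟨N, hN, hNc⟩ := (Transfer.hasNormalPComplement_iff_exists SC).1 hnc
  have hN1 : N = ⊥ := by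
    have hcore := c.core u3 (T_cube (trV_mem (1, 1, 1))) (by decide +kernel)
    haveI := hN
    have hcopN : (Nat.card N).Coprime 3 := by
      rw [← hNc.index_eq_card]
      exact ((Nat.prime_three.coprime_iff_not_dvd).2 SC.not_dvd_index).symm
    exact le_bot_iff.1 (hcore ▸ PCore.le_pPrimeCore hcopN)
  rw [hN1, Subgroup.isComplement'_bot_left] at hNc
  exact le_antisymm (Subgroup.subgroupOf_eq_top.1 (hSC ▸ hNc)) hPC

end Cfg

end Cfsg.Agent.NineRecog
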