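import Cfsg.Agent.Lib.Exceptional.NineLocal

/-!
# Facts about the model `3³ : S₄`: its Sylow 3-subgroup and translation centralisers
-/

set_option autoImplicit false

namespace Cfsg.Agent.NineRecog

open Cfsg Cfsg.Agent.Exceptional.Nine
open Exceptional.Wreath2 (D)

/-- A translation from a triple. -/
def trV (t : V) : W := tr t.1 t.2.1 t.2.2

theorem trV_mem (t : V) : trV t ∈ T := tr_mem_T _ _ _

theorem trV_eta {v : W} (h : v ∈ T) : trV (v.t0, v.t1, v.t2) = v := (eq_tr_of_mem_T h).symm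

theorem trV_cube : ∀ t : V, trV t ^ 3 = 1 := by
  have key : ∀ t : V, trV t * (trV t * trV t) = 1 := by decide +kernel
  intro t
  rw [pow_three]
  exact key t

theorem T_cube {v : W} (h : v ∈ T) : v ^ 3 = 1 := trV_eta h ▸ trV_cube _

theorem T_comm {v w : W} (hv : v ∈ T) (hw : w ∈ T) : v * w = w * v := by
  have key : ∀ s t : V, trV s * trV t = trV t * trV s := by decide +kernel
  rw [← trV_eta hv, ← trV_eta hw]
  exact key _ _

/-- The elements in the standard Sylow 3-subgroup. -/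
def inP0 (g : W) : Bool := !g.e0 && !g.e1 && !odd g.p

/-- The standard Sylow 3-subgroup of the model. -/
def P0 : Subgroup W where
  carrier := {g | inP0 g = true}
  one_mem' := rfl
  mul_mem' := by
    intro g h a b
    have hs : ∀ g : W, inP0 g = true → g = trV (g.t0, g.t1, g.t2) * s0 g ∧
        (s0 g = 1 ∨ s0 g = ⟨0, 0, 0, false, false, .r 1⟩ ∨ s0 g = ⟨0, 0, 0, false, false, .r 2⟩) := by
      decide +kernel
    have key : ∀ (t t' : V) (i j : ZMod 3),
        inP0 (trV t * ⟨0, 0, 0, false, false, .r i⟩ * (trV t' * ⟨0, 0, 0, false, false, .r j⟩)) = true := by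
      decide +kernel
    have hr : ∀ g : W, inP0 g = true → ∃ i : ZMod 3,
        g = trV (g.t0, g.t1, g.t2) * ⟨0, 0, 0, false, false, .r i⟩ := by
      decide +kernel
    obtain ⟨i, hi⟩ := hr g a
    obtain ⟨j, hj⟩ := hr h b
    show inP0 (g * h) = true
    rw [hi, hj]
    exact key _ _ i j
  inv_mem' := by
    intro g a
    have key : ∀ g : W, inP0 g = true → inP0 g⁻¹ = true := by decide +kernel
    exact key g a

theorem mem_P0 {g : W} : g ∈ P0 ↔ inP0 g = true := Iff.rfl

instance (g : W) : Decidable (g ∈ P0) := decidable_of_iff _ mem_P0.symm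

theorem card_P0 : Nat.card P0 = 81 := by
  rw [Nat.card_eq_fintype_card]
  decide +kernel

theorem T_le_P0 : T ≤ P0 := fun g hg => by
  have key : ∀ g : W, isT g = true → inP0 g = true := by decide +kernel
  exact key g (mem_T_iff_isT.1 hg)

/-- An element of order three outside `T` commutes with few translations. -/
theorem count_comm : ∀ y : W, isT y = false → y * (y * y) = 1 →
    (Finset.univ.filter fun t : V => trV t * y = y * trV t).card ≤ 3 := by
  decide +kernel

/-- `C(T) = T`. -/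
theorem centralizer_T (g : W) (h : ∀ v ∈ T, g * v = v * g) : g ∈ T := by
  have key : ∀ g : W, g * trV (1, 0, 0) = trV (1, 0, 0) * g → g * trV (0, 1, 0) = trV (0, 1, 0) * g →
      g * trV (0, 0, 1) = trV (0, 0, 1) * g → isT g = true := by decide +kernel
  exact mem_T_iff_isT.2 (key g (h _ (trV_mem _)) (h _ (trV_mem _)) (h _ (trV_mem _)))

/-- The centraliser of `u2` acts on `T / ⟨u2⟩` as `±1`, trivially only inside `T`. -/
theorem cent_u2_sign : ∀ g : W, g * u2 = u2 * g →
    (isT g = true ∨ ∀ t : V, ∃ k : ZMod 3, g * trV t * g⁻¹ = (trV t)⁻¹ * u2 ^ k.val) := by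
  decide +kernel

theorem cent_u2_trivial : ∀ g : W, g * u2 = u2 * g →
    (∀ t : V, ∃ k : ZMod 3, g * trV t * g⁻¹ = trV t * u2 ^ k.val) → isT g = true := by
  decide +kernel

theorem exists_inverter_u2 : ∃ g : W, g * u2 = u2 * g ∧
    ∀ t : V, ∃ k : ZMod 3, g * trV t * g⁻¹ = (trV t)⁻¹ * u2 ^ k.val := by
  refine ⟨⟨0, 0, 0, true, false, .sr 0⟩, ?_, ?_⟩ <;> decide +kernel

theorem cent_u3 : ∀ g : W, g * u3 = u3 * g ↔ inP0 g = true := by decide +kernel

/-- The translations in the span of `u1` and `t`, for `t ∉ ⟨u1⟩`, meet the classes of `u2` or `u3`. -/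
theorem exists_mixed : ∀ t : V, ¬ (t.2.1 = 0 ∧ t.2.2 = 0) → ∃ i j : ZMod 3, ∃ g : W,
    g * u2 * g⁻¹ = u1 ^ i.val * trV t ^ j.val ∨ g * u3 * g⁻¹ = u1 ^ i.val * trV t ^ j.val := by
  have key : ∀ t : V, ¬ (t.2.1 = 0 ∧ t.2.2 = 0) → ∃ i j : ZMod 3, ∃ x y : Bool, ∃ p : D,
      let g : W := ⟨0, 0, 0, x, y, p⟩
      g * u2 * g⁻¹ = u1 ^ i.val * trV t ^ j.val ∨ g * u3 * g⁻¹ = u1 ^ i.val * trV t ^ j.val := by
    decide +kernel
  intro t ht
  obtain ⟨i, j, x, y, p, h⟩ := key t ht
  exact ⟨i, j, _, h⟩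

end Cfsg.Agent.NineRecog
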